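import Cfsg.Agent.Lib.AschbacherForm.Adjoint
import Cfsg.Agent.Lib.Aschbacher.Tensor

/-!
Minimal normal subgroups abelian modulo scalars, relative to a form: generic facts.
-/

set_option autoImplicit false
set_option linter.unusedSectionVars false

namespace CfsgLib.AschbacherForm

open Cfsg Cfsg.Geo CfsgLib.Aschbacher
open scoped Matrix MatrixGroups

universe u
variable {ι : Type} [Fintype ι] [DecidableEq ι] {F : Type u} [Field F] [Fintype F] [Nonempty ι]
  {G N : Subgroup (GL ι F)}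

/-- `N` has prime exponent modulo scalars. -/
theorem abelian_exponent (h : AbelianData G N) :
    ∃ (r : ℕ) (ζ : Fˣ), r.Prime ∧ (∀ x ∈ N, x ^ r ∈ scalars ι F) ∧ orderOf ζ = r ∧
      ∃ x ∈ N, ∃ y ∈ N, y * x = sc ζ * (x * y) := by
  classical
  haveI : Finite (GL ι F) := inferInstance
  obtain ⟨u, hu, hus⟩ := SetLike.exists_of_lt (lt_of_le_of_ne h.scal h.ne.symm)
  have hex : ∃ k, 0 < k ∧ u ^ k ∈ scalars ι F :=
    ⟨orderOf u, orderOf_pos u, by rw [pow_orderOf_eq_one]; exact one_mem _⟩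
  obtain ⟨hk0, hk⟩ := Nat.find_spec hex
  have hk1 : Nat.find hex ≠ 1 := fun e => hus (by rw [e, pow_one] at hk; exact hk)
  obtain ⟨r, hr, a, ha⟩ := Nat.exists_prime_and_dvd hk1
  let M : Subgroup (GL ι F) :=
    { carrier := {x | x ∈ N ∧ x ^ r ∈ scalars ι F}
      one_mem' := ⟨N.one_mem, by simp [one_mem]⟩
      mul_mem' := by
        rintro x y ⟨hx, hx'⟩ ⟨hy, hy'⟩
        obtain ⟨c, hc⟩ := h.exists_comm hx hy
        exact ⟨N.mul_mem hx hy, by rw [mul_pow_class_two hc]; exact mul_mem (sc_mem _) (mul_mem hx' hy')⟩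
      inv_mem' := fun ⟨hx, hx'⟩ => ⟨N.inv_mem hx, by rw [inv_pow]; exact inv_mem hx'⟩ }
  have hM : M = N := by
    refine (h.min M (fun x hx => ⟨h.scal hx, pow_mem hx r⟩) (fun x hx => hx.1) fun g hg a ha =>
      ⟨h.normal g hg a ha.1, by rw [h.conj_pow' ha.2]; exact ha.2⟩).resolve_left fun e => ?_
    have h1 : u ^ a ∈ M := ⟨N.pow_mem hu a, by rw [← pow_mul, mul_comm, ← ha]; exact hk⟩
    rw [e] at h1
    have ha0 : 0 < a := Nat.pos_of_ne_zero fun e0 => by rw [e0, mul_zero] at ha; omega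
    have := Nat.find_min' hex ⟨ha0, h1⟩
    rw [ha] at this
    have := Nat.mul_le_mul_right a hr.two_le
    omega
  have hpow : ∀ x ∈ N, x ^ r ∈ scalars ι F := fun x hx => (hM.symm ▸ hx : x ∈ M).2
  obtain ⟨y, hy, hne⟩ := h.exists_noncomm hus
  obtain ⟨c, hc⟩ := h.exists_comm hu hy
  haveI : Fact r.Prime := ⟨hr⟩
  exact ⟨r, c, hr, hpow, orderOf_eq_prime (h.comm_pow hpow hu hy hc) fun e => hne (by
    rw [hc, e, sc_one, one_mul]), u, hu, y, hy, hc⟩

theorem sim_conj {σ : F ≃+* F} {J : GL ι F} {g x : GL ι F} {c μ : F}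
    (hg : IsSim σ (J : Matrix ι ι F) (g : Matrix ι ι F) c) {c' : F}
    (hg' : IsSim σ (J : Matrix ι ι F) ((g⁻¹ : GL ι F) : Matrix ι ι F) c')
    (hx : IsSim σ (J : Matrix ι ι F) (x : Matrix ι ι F) μ) :
    IsSim σ (J : Matrix ι ι F) ((g * x * g⁻¹ : GL ι F) : Matrix ι ι F) μ := by
  have h1 : c * c' = 1 := isSim_unique (J := J)
    (by have := isSim_mul hg hg'; rwa [← Units.val_mul, mul_inv_cancel, Units.val_one] at this) (isSim_one σ _)
  have h2 := isSim_mul (isSim_mul hg hx) hg'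
  rw [show c * μ * c' = μ by linear_combination μ * h1] at h2
  simpa only [Units.val_mul] using h2

theorem isSim_sc (σ : F ≃+* F) (J : GL ι F) (c : Fˣ) :
    IsSim σ (J : Matrix ι ι F) ((sc c : GL ι F) : Matrix ι ι F) ((c : F) * σ (c : F)) := by
  rw [sc_val]
  simpa using isSim_smul (isSim_one σ (J : Matrix ι ι F)) (c : F)

/-- The commutator scalar is an isometry. -/
theorem comm_scalar_iso {σ : F ≃+* F} {f : (ι → F) → (ι → F) → F} {J : GL ι F} {ε : F} (hG : Geom σ f J ε)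
    (hGs : G ≤ similarityGroup f) (h : AbelianData G N) {x y : GL ι F} (hx : x ∈ N) (hy : y ∈ N) {ζ : Fˣ}
    (hζ : y * x = sc ζ * (x * y)) : (ζ : F) * σ (ζ : F) = 1 := by
  have h1 := hG.commutator_isometry (hGs (h.le hy)) (hGs (h.le hx))
  rw [hζ, show sc ζ * (x * y) * y⁻¹ * x⁻¹ = (sc ζ : GL ι F) by group] at h1
  exact isSim_unique (isSim_sc σ J ζ) h1

theorem absIrred_lift (h : AbelianData G N) {R : Subgroup (GL ι F)}
    (hlift : ∀ x ∈ N, ∃ c : Fˣ, sc c * x ∈ R) : ActsAbsolutelyIrreducibly (matrixSet R) := by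
  refine absIrred_of_alg_top (eq_top_iff.2 (by
    rw [← alg_eq_top h.absIrred, alg_le_iff]
    intro x hx
    obtain ⟨c, hc⟩ := hlift x hx
    rw [show x = sc c⁻¹ * (sc c * x) by rw [sc_inv]; group, sc_mul_val]
    exact Subalgebra.smul_mem _ (val_mem_alg hc) _))

theorem natCard_roots' {z : ℕ} {ζ : Fˣ} (hζ : orderOf ζ = z) : Nat.card {c : Fˣ // c ^ z = 1} = z :=
  natCard_roots hζ

/-- Covering, order and centre of a subgroup lifting `N` modulo scalars. -/
theorem card_lift (h : AbelianData G N) {κ : Type*} [Fintype κ] {t : κ → GL ι F} {R : Subgroup (GL ι F)} {z : ℕ}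
    {ζ : Fˣ} (hζ : orderOf ζ = z) (hRN : R ≤ N) (hscR : ∀ c : Fˣ, sc c ∈ R ↔ c ^ z = 1) (htR : ∀ k, t k ∈ R)
    (hcov : ∀ x ∈ N, ∃ k, ∃ c : Fˣ, x = sc c * t k) (hdist : ∀ k l (c : Fˣ), t k = sc c * t l → k = l) :
    (∀ x ∈ R, ∃ k, ∃ c : Fˣ, c ^ z = 1 ∧ x = sc c * t k) ∧ Nat.card R = z * Fintype.card κ ∧
      Nat.card (Subgroup.center R) = z := by
  classical
  have hcov' : ∀ x ∈ R, ∃ k, ∃ c : Fˣ, c ^ z = 1 ∧ x = sc c * t k := fun x hx => by
    obtain ⟨k, c, rfl⟩ := hcov x (hRN hx)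
    refine ⟨k, c, (hscR c).1 ?_, rfl⟩
    have := R.mul_mem hx (R.inv_mem (htR k))
    rwa [mul_assoc, mul_inv_cancel, mul_one] at this
  refine ⟨hcov', ?_, ?_⟩
  · let f : {c : Fˣ // c ^ z = 1} × κ → R := fun p => ⟨sc p.1.1 * t p.2, R.mul_mem ((hscR _).2 p.1.2) (htR _)⟩
    have hf : Function.Bijective f := by
      refine ⟨fun p q e => ?_, fun x => ?_⟩
      · have e' : sc p.1.1 * t p.2 = sc q.1.1 * t q.2 := congrArg Subtype.val e
        have hk : p.2 = q.2 := hdist _ _ (p.1.1⁻¹ * q.1.1) (by rw [sc_mul, sc_inv, mul_assoc, ← e']; group)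
        rw [hk] at e'
        exact Prod.ext (Subtype.ext (sc_inj (mul_right_cancel e'))) hk
      · obtain ⟨k, c, hc, e⟩ := hcov' x x.2
        exact ⟨(⟨c, hc⟩, k), Subtype.ext e.symm⟩
    rw [← Nat.card_congr (Equiv.ofBijective f hf), Nat.card_prod, natCard_roots hζ, Nat.card_eq_fintype_card]
  · let f : {c : Fˣ // c ^ z = 1} → Subgroup.center R := fun c => ⟨⟨sc c.1, (hscR _).2 c.2⟩,
      Subgroup.mem_center_iff.2 fun y => Subtype.ext (sc_comm c.1 (y : GL ι F)).symm⟩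
    have hf : Function.Bijective f := by
      refine ⟨fun a b e => Subtype.ext (sc_inj (ι := ι) (congrArg (fun x => ((x.1 : R) : GL ι F)) e)), fun x => ?_⟩
      have hx := Subgroup.mem_center_iff.1 x.2
      obtain ⟨c, hc⟩ := exists_sc (h.eq_sc (x := (x.1 : GL ι F)) fun y hy => by
        obtain ⟨k, d, rfl⟩ := hcov y hy
        have h1 : t k * (x.1 : GL ι F) = x.1 * t k := congrArg Subtype.val (hx ⟨t k, htR k⟩)
        rw [mul_assoc, h1, ← mul_assoc, ← mul_assoc, sc_comm d])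
      exact ⟨⟨c, (hscR c).1 (hc ▸ x.1.2)⟩, Subtype.ext (Subtype.ext hc)⟩
    rw [← Nat.card_congr (Equiv.ofBijective f hf), natCard_roots hζ]

/-- Symplectic type. -/
theorem symplecticType_lift (h : AbelianData G N) {r z : ℕ} (hr : r.Prime) (hz : z = r * Nat.gcd 2 r)
    {R : Subgroup (GL ι F)} (hRN : R ≤ N) (hRpow : ∀ x ∈ R, x ^ z = 1) (hexp : z ∣ Monoid.exponent R)
    (hnorm : ∀ g ∈ G, ∀ x ∈ R, g * x * g⁻¹ ∈ R)
    (hlift : ∀ x ∈ N, ∃ c : Fˣ, sc c * x ∈ R) : IsSymplecticTypeGroup r R where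
  prime := hr
  pGroup := fun x => by
    obtain ⟨i, -, hi⟩ := (Nat.dvd_prime_pow hr).1 (show z ∣ r ^ 2 by
      rw [hz, sq]; exact mul_dvd_mul_left r (Nat.gcd_dvd_right 2 r))
    exact ⟨i, Subtype.ext (by rw [← hi, Subgroup.coe_pow]; exact hRpow _ x.2)⟩
  cyclic_of_characteristic A hA hAc := by
    classical
    haveI := hA
    set M := A.map R.subtype ⊔ scalars ι F
    have hAN : A.map R.subtype ≤ N := (Subgroup.map_subtype_le A).trans hRN
    rcases h.min M le_sup_right (sup_le hAN h.scal) (fun g hg a ha => by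
      let φ : R ≃* R :=
        { toFun := fun x => ⟨g * x * g⁻¹, hnorm g hg x x.2⟩
          invFun := fun x => ⟨g⁻¹ * x * g, by simpa using hnorm g⁻¹ (G.inv_mem hg) x x.2⟩
          left_inv := fun x => Subtype.ext (by simp [mul_assoc])
          right_inv := fun x => Subtype.ext (by simp [mul_assoc])
          map_mul' := fun x y => Subtype.ext (by simp [mul_assoc]) }
      have hM : M.map (MulAut.conj g).toMonoidHom ≤ M := by
        rw [Subgroup.map_sup]
        refine sup_le (le_trans ?_ le_sup_left) (le_trans ?_ le_sup_right)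
        · rintro _ ⟨_, ⟨x, hx, rfl⟩, rfl⟩
          exact ⟨φ x, by rw [← Subgroup.characteristic_iff_comap_eq.1 hA φ] at hx; exact hx, rfl⟩
        · rintro _ ⟨x, hx, rfl⟩
          exact (scalars_normal (ι := ι) (F := F)).conj_mem x hx g
      exact hM ⟨a, ha, rfl⟩) with hM | hM
    · let e : Fˣ →* scalars ι F :=
        MonoidHom.codRestrict (Units.map (Matrix.scalar ι : F →+* Matrix ι ι F).toMonoidHom) _ sc_mem
      haveI : IsCyclic (scalars ι F) := isCyclic_of_surjective e fun x => by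
        obtain ⟨c, hc⟩ := exists_sc x.2; exact ⟨c, Subtype.ext hc⟩
      let f : A →* scalars ι F := (R.subtype.comp A.subtype).codRestrict (scalars ι F) fun a =>
        hM ▸ (le_sup_left : A.map R.subtype ≤ M) ⟨a.1, a.2, rfl⟩
      exact isCyclic_of_injective f fun a b e => Subtype.ext (Subtype.ext (congrArg Subtype.val e :))
    · exfalso
      obtain ⟨u, hu, hus⟩ := SetLike.exists_of_lt (lt_of_le_of_ne h.scal h.ne.symm)
      obtain ⟨w, hw, hne⟩ := h.exists_noncomm hus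
      apply hne
      have key : ∀ x ∈ M, ∃ a ∈ A, ∃ c, x = (a : GL ι F) * sc c := fun x hx => by
        obtain ⟨_, ⟨a, ha, rfl⟩, s, hs, rfl⟩ := Subgroup.mem_sup_of_normal_right.1 hx
        obtain ⟨c, rfl⟩ := exists_sc hs
        exact ⟨a, ha, c, rfl⟩
      obtain ⟨a, ha, c, rfl⟩ := key u (hM ▸ hu)
      obtain ⟨b, hb, d, rfl⟩ := key w (hM ▸ hw)
      have hab : (a : GL ι F) * b = b * a :=
        congrArg (fun x : A => ((x : R) : GL ι F)) (hAc.is_comm.comm ⟨a, ha⟩ ⟨b, hb⟩)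
      calc (a : GL ι F) * sc c * ((b : GL ι F) * sc d) = (a : GL ι F) * (sc c * (b : GL ι F)) * sc d := by group
        _ = (a : GL ι F) * (b : GL ι F) * (sc c * sc d) := by rw [sc_comm c]; group
        _ = (b : GL ι F) * (a : GL ι F) * (sc d * sc c) := by rw [hab, ← sc_mul, ← sc_mul, mul_comm c]
        _ = (b : GL ι F) * ((a : GL ι F) * sc d) * sc c := by group
        _ = (b : GL ι F) * (sc d * (a : GL ι F)) * sc c := by rw [sc_comm d]
        _ = (b : GL ι F) * sc d * ((a : GL ι F) * sc c) := by group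
  exponent_eq := by
    rw [← hz]
    refine Nat.dvd_antisymm (Monoid.exponent_dvd_of_forall_pow_eq_one fun x => Subtype.ext (by
      rw [Subgroup.coe_pow]; exact hRpow _ x.2)) hexp

/-- A degree from the order of the quotient. -/
theorem exists_degree {κ : Type*} [Fintype κ] {r m : ℕ} (hr : r.Prime) (hm : Fintype.card κ = r ^ m)
    (hcard : Fintype.card κ = Fintype.card ι ^ 2) : ∃ k, Fintype.card ι = r ^ k ∧ Fintype.card κ = r ^ (2 * k) := by
  obtain ⟨k, -, hk⟩ := (Nat.dvd_prime_pow hr).1 (show Fintype.card ι ∣ r ^ m by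
    rw [← hm, hcard]; exact dvd_pow_self _ two_ne_zero)
  exact ⟨k, hk, by rw [hcard, hk, ← pow_mul, mul_comm]⟩

end CfsgLib.AschbacherForm
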