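import Cfsg.Agent.Lib.AschbacherForm.Commutative
import Cfsg.Agent.Lib.Aschbacher.Forms
import Cfsg.Agent.Lib.Aschbacher.Abelian
import Cfsg.Agent.Lib.Aschbacher.Clifford

/-!
Adjoints with respect to a reflexive form given by a Gram matrix, and groups of similitudes.
-/

set_option autoImplicit false
set_option linter.unusedSectionVars false

namespace CfsgLib.AschbacherForm

open Cfsg Cfsg.Geo CfsgLib.Aschbacher
open scoped Matrix MatrixGroups

variable {ι : Type} [Fintype ι] [DecidableEq ι] {F : Type*} [Field F]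

/-- A symplectic, symmetric, unitary or anti-unitary geometry: `f` has Gram matrix `J` with `σ(J)ᵀ = ε J`. -/
structure Geom (σ : F ≃+* F) (f : (ι → F) → (ι → F) → F) (J : GL ι F) (ε : F) : Prop where
  eq_gram : f = formOfGram σ (J : Matrix ι ι F)
  invol : ∀ a, σ (σ a) = a
  eps_ne : ε ≠ 0
  symm : ((J : Matrix ι ι F).map σ)ᵀ = ε • (J : Matrix ι ι F)

/-- `g` multiplies the Gram matrix by `c`. -/
def IsSim (σ : F ≃+* F) (J : Matrix ι ι F) (g : Matrix ι ι F) (c : F) : Prop :=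
  gᵀ * J * g.map σ = c • J

theorem formOfGram_left (σ : F → F) (J k : Matrix ι ι F) (u v : ι → F) :
    formOfGram σ J (k *ᵥ u) v = formOfGram σ (kᵀ * J) u v := by
  rw [formOfGram_eq, formOfGram_eq, ← Matrix.mulVec_mulVec, Matrix.dotProduct_mulVec u kᵀ, Matrix.vecMul_transpose]

theorem formOfGram_right (σ : F ≃+* F) (J k : Matrix ι ι F) (u v : ι → F) :
    formOfGram σ J u (k *ᵥ v) = formOfGram σ (J * k.map σ) u v := by
  rw [formOfGram_eq, formOfGram_eq, map_mulVec', Matrix.mulVec_mulVec]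

theorem isSim_mul {σ : F ≃+* F} {J g h : Matrix ι ι F} {c d : F} (hg : IsSim σ J g c) (hh : IsSim σ J h d) :
    IsSim σ J (g * h) (c * d) := by
  unfold IsSim at *
  rw [Matrix.transpose_mul, map_mul_equiv, show hᵀ * gᵀ * J * (g.map σ * h.map σ) = hᵀ * (gᵀ * J * g.map σ) * h.map σ
    by simp [mul_assoc], hg, Matrix.mul_smul, Matrix.smul_mul, hh, smul_smul]

theorem isSim_one (σ : F ≃+* F) (J : Matrix ι ι F) : IsSim σ J 1 1 := by
  simp [IsSim, Matrix.map_one σ (map_zero σ) (map_one σ)]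

theorem isSim_smul {σ : F ≃+* F} {J g : Matrix ι ι F} {c : F} (hg : IsSim σ J g c) (a : F) :
    IsSim σ J (a • g) (a * σ a * c) := by
  unfold IsSim at *
  rw [Matrix.transpose_smul, Matrix.map_smul' (hf := map_mul σ), Matrix.smul_mul, Matrix.smul_mul, Matrix.mul_smul,
    hg, smul_smul, smul_smul, mul_assoc]

theorem isSim_unique [Nonempty ι] {σ : F ≃+* F} {J : GL ι F} {g : Matrix ι ι F} {c d : F}
    (hg : IsSim σ (J : Matrix ι ι F) g c) (hg' : IsSim σ (J : Matrix ι ι F) g d) : c = d := by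
  have h : (c - d) • (J : Matrix ι ι F) = 0 := by rw [sub_smul, ← hg, ← hg', sub_self]
  exact sub_eq_zero.1 ((smul_eq_zero.1 h).resolve_right J.isUnit.ne_zero)

theorem isSim_ne_zero [Nonempty ι] {σ : F ≃+* F} {J : GL ι F} {g : GL ι F} {c : F}
    (hg : IsSim σ (J : Matrix ι ι F) (g : Matrix ι ι F) c) : c ≠ 0 := by
  rintro rfl
  rw [IsSim, zero_smul] at hg
  exact ((((Matrix.isUnit_transpose _).2 g.isUnit).mul J.isUnit).mul
    (g.isUnit.map (RingHom.mapMatrix (σ : F →+* F)))).ne_zero hg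

/-- The adjoint of a matrix. -/
noncomputable def adj (σ : F ≃+* F) (J : GL ι F) (k : Matrix ι ι F) : Matrix ι ι F :=
  ((↑J⁻¹ : Matrix ι ι F) * kᵀ * (J : Matrix ι ι F)).map σ.symm

theorem map_adj (σ : F ≃+* F) (J : GL ι F) (k : Matrix ι ι F) :
    (adj σ J k).map σ = (↑J⁻¹ : Matrix ι ι F) * kᵀ * (J : Matrix ι ι F) := by
  rw [adj, Matrix.map_map]; ext; simp

theorem adj_gram (σ : F ≃+* F) (J : GL ι F) (k : Matrix ι ι F) :
    kᵀ * (J : Matrix ι ι F) = (J : Matrix ι ι F) * (adj σ J k).map σ := by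
  rw [map_adj, ← mul_assoc, ← mul_assoc, Units.mul_inv, one_mul]

theorem adj_eq {σ : F ≃+* F} {J : GL ι F} {k k' : Matrix ι ι F}
    (h : kᵀ * (J : Matrix ι ι F) = (J : Matrix ι ι F) * k'.map σ) : adj σ J k = k' := by
  rw [adj, mul_assoc, h, ← mul_assoc, Units.inv_mul, one_mul, Matrix.map_map]; ext; simp

theorem adj_add (σ : F ≃+* F) (J : GL ι F) (k l : Matrix ι ι F) :
    adj σ J (k + l) = adj σ J k + adj σ J l := by
  refine adj_eq ?_
  rw [Matrix.map_add σ (map_add σ), Matrix.transpose_add, add_mul, mul_add, adj_gram σ J k, adj_gram σ J l]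

theorem adj_smul (σ : F ≃+* F) (J : GL ι F) (c : F) (k : Matrix ι ι F) :
    adj σ J (c • k) = σ.symm c • adj σ J k := by
  refine adj_eq ?_
  rw [Matrix.map_smul' (hf := map_mul σ), σ.apply_symm_apply, Matrix.transpose_smul, Matrix.smul_mul, adj_gram σ J k,
    Matrix.mul_smul]

theorem adj_mul (σ : F ≃+* F) (J : GL ι F) (k l : Matrix ι ι F) : adj σ J (k * l) = adj σ J l * adj σ J k := by
  refine adj_eq ?_
  rw [map_mul_equiv, Matrix.transpose_mul, mul_assoc, adj_gram σ J k, ← mul_assoc, adj_gram σ J l, mul_assoc]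

theorem adj_one (σ : F ≃+* F) (J : GL ι F) : adj σ J 1 = 1 :=
  adj_eq (by rw [Matrix.map_one σ (map_zero σ) (map_one σ), Matrix.transpose_one, one_mul, mul_one])

theorem adj_zero (σ : F ≃+* F) (J : GL ι F) : adj σ J 0 = 0 :=
  adj_eq (by rw [Matrix.map_zero σ (map_zero σ), Matrix.transpose_zero, zero_mul, mul_zero])

theorem adj_algebraMap (σ : F ≃+* F) (J : GL ι F) (c : F) :
    adj σ J (algebraMap F _ c) = algebraMap F _ (σ.symm c) := by
  rw [Algebra.algebraMap_eq_smul_one, Algebra.algebraMap_eq_smul_one, adj_smul, adj_one]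

/-- The adjoint of a similitude is a multiple of its inverse. -/
theorem adj_sim {σ : F ≃+* F} {J : GL ι F} {g : GL ι F} {c : F}
    (hg : IsSim σ (J : Matrix ι ι F) (g : Matrix ι ι F) c) :
    adj σ J (g : Matrix ι ι F) = σ.symm c • (↑g⁻¹ : Matrix ι ι F) := by
  refine adj_eq ?_
  rw [Matrix.map_smul' (hf := map_mul σ), σ.apply_symm_apply, Matrix.mul_smul, ← Matrix.smul_mul]
  unfold IsSim at hg
  rw [← hg, mul_assoc _ (((g : Matrix ι ι F)).map σ), ← map_mul_equiv, Units.mul_inv,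
    Matrix.map_one σ (map_zero σ) (map_one σ), mul_one]

theorem adj_adj {σ : F ≃+* F} {f : (ι → F) → (ι → F) → F} {J : GL ι F} {ε : F} (hG : Geom σ f J ε)
    (k : Matrix ι ι F) : adj σ J (adj σ J k) = k := by
  refine adj_eq ?_
  have h1 := congrArg (fun M : Matrix ι ι F => (M.map σ)ᵀ) (adj_gram σ J k)
  simp only [map_mul_equiv, Matrix.transpose_mul, hG.symm, Matrix.map_map] at h1
  have h2 : (σ : F → F) ∘ σ = id := funext hG.invol
  simp only [h2, Matrix.map_id, Matrix.transpose_map, Matrix.transpose_transpose, Matrix.smul_mul,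
    Matrix.mul_smul] at h1
  exact (smul_right_injective _ hG.eps_ne h1).symm

theorem Geom.mulVec_left {σ : F ≃+* F} {f : (ι → F) → (ι → F) → F} {J : GL ι F} {ε : F} (hG : Geom σ f J ε)
    (k : Matrix ι ι F) (u v : ι → F) : f (k *ᵥ u) v = f u (adj σ J k *ᵥ v) := by
  rw [hG.eq_gram, formOfGram_left, formOfGram_right, adj_gram σ J k]

variable {σ : F ≃+* F} {f : (ι → F) → (ι → F) → F} {J : GL ι F} {ε : F}

theorem Geom.swap (hG : Geom σ f J ε) (u v : ι → F) : σ (f v u) = ε * f u v := by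
  rw [hG.eq_gram, formOfGram_transpose σ hG.invol, hG.symm, formOfGram_smul]

theorem Geom.rform (hG : Geom σ f J ε) : RForm σ.toRingHom f where
  add_left := hG.eq_gram ▸ formOfGram_add_left _ _
  smul_left := hG.eq_gram ▸ formOfGram_smul_left _ _
  add_right := hG.eq_gram ▸ fun v x y => by
    simp [formOfGram, mul_add, Finset.sum_add_distrib]
  smul_right := hG.eq_gram ▸ fun c v x => by
    simp [formOfGram, Finset.mul_sum, mul_left_comm]
  refl := fun x y h => σ.injective (by rw [hG.swap, h, mul_zero, map_zero])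
  nondeg := fun v hv => by
    by_contra h0
    obtain ⟨x, hx⟩ := (formOfGram_nondeg σ J.isUnit v h0).1
    exact hx (by rw [← hG.eq_gram]; exact hv x)

theorem Geom.isSim_iff (hG : Geom σ f J ε) (g : Matrix ι ι F) (c : F) :
    IsSim σ (J : Matrix ι ι F) g c ↔ ∀ u v, f (g *ᵥ u) (g *ᵥ v) = c * f u v := by
  rw [hG.eq_gram]
  refine ⟨fun h u v => by rw [formOfGram_mulVec, h, formOfGram_smul], fun h => gram_inj σ fun u v => ?_⟩
  rw [← formOfGram_mulVec, h, formOfGram_smul]

theorem Geom.mem_similarity_iff [Nonempty ι] (hG : Geom σ f J ε) (g : GL ι F) :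
    g ∈ similarityGroup f ↔ ∃ c : F, IsSim σ (J : Matrix ι ι F) (g : Matrix ι ι F) c := by
  refine ⟨?_, ?_⟩
  · rintro ⟨c, hc⟩
    exact ⟨c, (hG.isSim_iff _ _).2 hc⟩
  · rintro ⟨c, hc⟩
    exact ⟨Units.mk0 c (isSim_ne_zero hc), (hG.isSim_iff _ _).1 hc⟩

theorem Geom.scalars_le (hG : Geom σ f J ε) : scalars ι F ≤ similarityGroup f := by
  intro g hg
  obtain ⟨c, rfl⟩ := exists_sc hg
  refine ⟨c * Units.map σ.toRingHom.toMonoidHom c, (hG.isSim_iff _ _).1 ?_⟩
  rw [sc_val]
  simpa using isSim_smul (isSim_one σ (J : Matrix ι ι F)) (c : F)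

theorem Geom.adjClosed_iff (hG : Geom σ f J ε) (K : Subalgebra F (Matrix ι ι F)) :
    IsAdjointClosedFor f K ↔ ∀ k ∈ K, adj σ J k ∈ K := by
  refine ⟨fun h k hk => ?_, fun h k hk => ⟨_, h k hk, hG.mulVec_left k⟩⟩
  obtain ⟨k', hk', h'⟩ := h k hk
  rwa [show adj σ J k = k' from hG.rform.adjoint_unique fun u v => by rw [← hG.mulVec_left, h']]

theorem Geom.selfAdj_iff (hG : Geom σ f J ε) (K : Subalgebra F (Matrix ι ι F)) :
    IsSelfAdjointFor f K ↔ ∀ k ∈ K, adj σ J k = k :=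
  ⟨fun h k hk => hG.rform.adjoint_unique fun u v => by rw [← hG.mulVec_left, h k hk],
    fun h k hk u v => by rw [hG.mulVec_left, h k hk]⟩

variable [Nonempty ι]

theorem Geom.adj_mem_alg (hG : Geom σ f J ε) {N : Subgroup (GL ι F)} (hN : N ≤ similarityGroup f)
    {x : Matrix ι ι F} (hx : x ∈ alg N) : adj σ J x ∈ alg N := by
  induction hx using Algebra.adjoin_induction with
  | mem x hx =>
    obtain ⟨g, hg, rfl⟩ := hx
    obtain ⟨c, hc⟩ := (hG.mem_similarity_iff g).1 (hN hg)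
    rw [adj_sim hc]
    exact Subalgebra.smul_mem _ (val_mem_alg (N.inv_mem hg)) _
  | algebraMap c => rw [adj_algebraMap]; exact Subalgebra.algebraMap_mem _ _
  | add x y _ _ hx hy => rw [adj_add]; exact add_mem hx hy
  | mul x y _ _ hx hy => rw [adj_mul]; exact mul_mem hy hx

theorem Geom.adj_mem_cent (hG : Geom σ f J ε) {N : Subgroup (GL ι F)} (hN : N ≤ similarityGroup f)
    {x : Matrix ι ι F} (hx : x ∈ cent (matrixSet N)) : adj σ J x ∈ cent (matrixSet N) := by
  refine mem_cent.2 ?_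
  rintro _ ⟨g, hg, rfl⟩
  obtain ⟨c, hc⟩ := (hG.mem_similarity_iff g⁻¹).1 (hN (N.inv_mem hg))
  have h1 := congrArg (adj σ J) (mem_cent.1 hx _ (val_mem_matrixSet (N.inv_mem hg)))
  rw [adj_mul, adj_mul, adj_sim hc, inv_inv, Matrix.mul_smul, Matrix.smul_mul] at h1
  refine (smul_right_injective (Matrix ι ι F) ?_ h1).symm
  exact fun e => isSim_ne_zero hc (σ.symm.injective (e.trans (map_zero σ.symm).symm))

theorem Geom.adjClosed_algCenter (hG : Geom σ f J ε) {N : Subgroup (GL ι F)} (hN : N ≤ similarityGroup f) :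
    IsAdjointClosedFor f (algCenter N) :=
  (hG.adjClosed_iff _).2 fun _ hk => ⟨hG.adj_mem_alg hN hk.1, hG.adj_mem_cent hN hk.2⟩

/-- Commutators of similitudes are isometries. -/
theorem Geom.commutator_isometry (hG : Geom σ f J ε) {g h : GL ι F} (hg : g ∈ similarityGroup f)
    (hh : h ∈ similarityGroup f) : IsSim σ (J : Matrix ι ι F) ((g * h * g⁻¹ * h⁻¹ : GL ι F) : Matrix ι ι F) 1 := by
  obtain ⟨a, ha⟩ := (hG.mem_similarity_iff g).1 hg
  obtain ⟨b, hb⟩ := (hG.mem_similarity_iff h).1 hh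
  obtain ⟨a', ha'⟩ := (hG.mem_similarity_iff g⁻¹).1 (inv_mem hg)
  obtain ⟨b', hb'⟩ := (hG.mem_similarity_iff h⁻¹).1 (inv_mem hh)
  have h1 : a * a' = 1 := isSim_unique (J := J)
    (by have := isSim_mul ha ha'; rwa [← Units.val_mul, mul_inv_cancel, Units.val_one] at this)
    (isSim_one σ _)
  have h2 : b * b' = 1 := isSim_unique (J := J)
    (by have := isSim_mul hb hb'; rwa [← Units.val_mul, mul_inv_cancel, Units.val_one] at this)
    (isSim_one σ _)
  have h3 := isSim_mul (isSim_mul (isSim_mul ha hb) ha') hb'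
  rw [show a * b * a' * b' = (a * a') * (b * b') by ring, h1, h2, one_mul] at h3
  simpa only [Units.val_mul] using h3

end CfsgLib.AschbacherForm
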