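import Mathlib
import Cfsg.Prelude.Def_GeometricClasses

/-!
Reflexive sesquilinear forms given as functions: orthogonal complements and reducible isometry groups.
-/

set_option autoImplicit false

namespace CfsgLib.AschbacherForm

open scoped Matrix MatrixGroups

variable {ι : Type} [Fintype ι] [DecidableEq ι] {F : Type*} [Field F]


/-- A non-degenerate reflexive sesquilinear form. -/
structure RForm (σ : F →+* F) (f : (ι → F) → (ι → F) → F) : Prop where
  add_left : ∀ x y v, f (x + y) v = f x v + f y v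
  smul_left : ∀ (c : F) (x v : (ι → F)), f (c • x) v = c * f x v
  add_right : ∀ v x y, f v (x + y) = f v x + f v y
  smul_right : ∀ (c : F) (v x : (ι → F)), f v (c • x) = σ c * f v x
  refl : ∀ x y, f x y = 0 → f y x = 0
  nondeg : ∀ v, (∀ x, f x v = 0) → v = 0

theorem rform_of_symplectic {f : (ι → F) → (ι → F) → F} (h : Cfsg.Geo.IsSymplecticForm f) : RForm (RingHom.id F) f where
  add_left := h.bilinear.add_left
  smul_left := h.bilinear.smul_left
  add_right := h.bilinear.add_right
  smul_right := h.bilinear.smul_right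
  refl := fun x y hxy => by rw [h.skew, hxy, neg_zero]
  nondeg := fun v hv => by
    by_contra h0
    obtain ⟨x, hx⟩ := (h.nondegenerate v h0).1
    exact hx (hv x)

theorem rform_of_unitary {σ : F ≃+* F} {f : (ι → F) → (ι → F) → F} (h : Cfsg.Geo.IsUnitaryForm σ f) :
    RForm σ.toRingHom f where
  add_left := h.add_left
  smul_left := h.smul_left
  add_right := fun v x y => by rw [h.herm v, h.add_left, map_add, ← h.herm, ← h.herm]
  smul_right := fun c v x => by rw [h.herm v, h.smul_left, map_mul, ← h.herm]; rfl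
  refl := fun x y hxy => by rw [h.herm, hxy, map_zero]
  nondeg := fun v hv => by
    by_contra h0
    obtain ⟨x, hx⟩ := (h.nondegenerate v h0).1
    exact hx (hv x)

variable {σ : F →+* F} {f : (ι → F) → (ι → F) → F} (hf : RForm σ f)
include hf

theorem RForm.zero_left (v : (ι → F)) : f 0 v = 0 := by
  have := hf.smul_left 0 0 v
  rwa [zero_smul, zero_mul] at this

theorem RForm.zero_right (v : (ι → F)) : f v 0 = 0 := hf.refl _ _ (hf.zero_left v)

theorem RForm.sum_right (v : (ι → F)) {α : Type*} (s : Finset α) (x : α → (ι → F)) :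
    f v (∑ i ∈ s, x i) = ∑ i ∈ s, f v (x i) := by
  classical
  induction s using Finset.induction_on with
  | empty => simpa using hf.zero_right v
  | insert a s ha ih => rw [Finset.sum_insert ha, Finset.sum_insert ha, hf.add_right, ih]

/-- Pairing against a fixed vector on the right, as a linear map. -/
def RForm.left (v : (ι → F)) : (ι → F) →ₗ[F] F where
  toFun x := f x v
  map_add' x y := hf.add_left x y v
  map_smul' c x := hf.smul_left c x v

/-- The orthogonal subspace. -/
def RForm.perp (W : Submodule F (ι → F)) : Submodule F (ι → F) where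
  carrier := {x | ∀ w ∈ W, f x w = 0}
  add_mem' := fun {x y} hx hy w hw => by rw [hf.add_left, hx w hw, hy w hw, add_zero]
  zero_mem' := fun w _ => hf.zero_left w
  smul_mem' := fun c x hx w hw => by rw [hf.smul_left, hx w hw, mul_zero]

theorem RForm.mem_perp {W : Submodule F (ι → F)} {x : (ι → F)} : x ∈ hf.perp W ↔ ∀ w ∈ W, f x w = 0 := Iff.rfl

theorem RForm.isNondegenerateOn_iff (W : Submodule F (ι → F)) :
    Cfsg.Geo.IsNondegenerateOn f W ↔ W ⊓ hf.perp W = ⊥ := by
  refine ⟨fun h => (Submodule.eq_bot_iff _).2 fun w hw => ?_, fun h w hw hw0 => ?_⟩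
  · by_contra h0
    obtain ⟨-, x, hx, hne⟩ := h w hw.1 h0
    exact hne (hw.2 x hx)
  · have hnp : w ∉ hf.perp W := fun hp => hw0 ((Submodule.eq_bot_iff _).1 h w ⟨hw, hp⟩)
    obtain ⟨x, hx, hne⟩ : ∃ x ∈ W, f w x ≠ 0 := by
      by_contra hcon
      push Not at hcon
      exact hnp hcon
    exact ⟨⟨x, hx, fun h0 => hne (hf.refl _ _ h0)⟩, ⟨x, hx, hne⟩⟩

theorem RForm.finrank_perp (W : Submodule F (ι → F)) :
    Fintype.card ι ≤ Module.finrank F W + Module.finrank F (hf.perp W) := by
  classical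
  let b := Module.finBasis F W
  let g : (ι → F) →ₗ[F] (Fin (Module.finrank F W) → F) := LinearMap.pi fun i => hf.left (b i : (ι → F))
  have hk : LinearMap.ker g = hf.perp W := by
    refine le_antisymm (fun x hx w hw => ?_) fun x hx => funext fun i => hx _ (b i).2
    have hxi : ∀ i, f x (b i : (ι → F)) = 0 := fun i => congrFun (LinearMap.mem_ker.1 hx) i
    have hw' : w = ∑ i, (b.repr ⟨w, hw⟩ i) • (b i : (ι → F)) := by
      have := congrArg W.subtype (b.sum_repr ⟨w, hw⟩)
      simp only [map_sum, map_smul, Submodule.subtype_apply] at this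
      exact this.symm
    rw [hw', hf.sum_right]
    exact Finset.sum_eq_zero fun i _ => by rw [hf.smul_right, hxi, mul_zero]
  have h1 := g.finrank_range_add_finrank_ker
  rw [hk, Module.finrank_fintype_fun_eq_card] at h1
  have h2 := (LinearMap.range g).finrank_le
  rw [Module.finrank_fin_fun] at h2
  omega

/-- A non-degenerate subspace is complemented by its orthogonal. -/
theorem RForm.isCompl_perp {W : Submodule F (ι → F)} (hW : Cfsg.Geo.IsNondegenerateOn f W) :
    IsCompl W (hf.perp W) ∧ Cfsg.Geo.IsNondegenerateOn f (hf.perp W) := by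
  have hd := (hf.isNondegenerateOn_iff W).1 hW
  have h1 := Submodule.finrank_sup_add_finrank_inf_eq W (hf.perp W)
  rw [hd, finrank_bot, add_zero] at h1
  have htop : W ⊔ hf.perp W = ⊤ := by
    refine Submodule.eq_top_of_finrank_eq (le_antisymm (Submodule.finrank_le _) ?_)
    rw [h1, Module.finrank_fintype_fun_eq_card]
    exact hf.finrank_perp W
  refine ⟨⟨disjoint_iff.2 hd, codisjoint_iff.2 htop⟩, (hf.isNondegenerateOn_iff _).2 ?_⟩
  refine (Submodule.eq_bot_iff _).2 fun x hx => hf.nondeg x fun y => ?_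
  obtain ⟨w, hw, p, hp, rfl⟩ := Submodule.mem_sup.1 (htop ▸ Submodule.mem_top : y ∈ W ⊔ hf.perp W)
  rw [hf.add_left, hf.refl _ _ (hx.1 w hw), hf.refl _ _ (hx.2 p hp), add_zero]

omit hf in
/-- An invertible matrix mapping a finite set into itself maps it onto itself. -/
theorem mem_subspaceStabilizer [Finite F] {W : Submodule F (ι → F)} {g : GL ι F}
    (h : ∀ v ∈ W, (g : Matrix ι ι F) *ᵥ v ∈ W) : g ∈ Cfsg.Geo.subspaceStabilizer W := by
  intro v
  refine ⟨h v, fun hv => ?_⟩
  have hinj : Function.Injective fun w : W => (⟨(g : Matrix ι ι F) *ᵥ (w : (ι → F)), h w w.2⟩ : W) :=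
    fun a b hab => Subtype.ext (Matrix.mulVec_injective_of_isUnit g.isUnit (congrArg Subtype.val hab))
  obtain ⟨w, hw⟩ := Finite.injective_iff_surjective.1 hinj ⟨_, hv⟩
  have : (w : (ι → F)) = v := Matrix.mulVec_injective_of_isUnit g.isUnit (congrArg Subtype.val hw)
  exact this ▸ w.2

theorem RForm.perp_invariant [Finite F] {H : Subgroup (GL ι F)}
    (hH : ∀ h ∈ H, ∀ u v, f ((h : Matrix ι ι F) *ᵥ u) ((h : Matrix ι ι F) *ᵥ v) = f u v)
    {W : Submodule F (ι → F)} (hW : H ≤ Cfsg.Geo.subspaceStabilizer W) :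
    H ≤ Cfsg.Geo.subspaceStabilizer (hf.perp W) := by
  refine fun g hg => mem_subspaceStabilizer fun x hx w hw => ?_
  have hw' : ((g⁻¹ : GL ι F) : Matrix ι ι F) *ᵥ w ∈ W := (hW (inv_mem hg) w).1 hw
  rw [← hH (g⁻¹) (inv_mem hg), Matrix.mulVec_mulVec, ← Units.val_mul, inv_mul_cancel, Units.val_one,
    Matrix.one_mulVec]
  exact hx _ hw'

/-- A reducible group of isometries lies in a member of the first or second class. -/
theorem RForm.reducible [Finite F] {H : Subgroup (GL ι F)}
    (hH : ∀ h ∈ H, ∀ u v, f ((h : Matrix ι ι F) *ᵥ u) ((h : Matrix ι ι F) *ᵥ v) = f u v)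
    {W : Submodule F (ι → F)} (hW0 : W ≠ ⊥) (hW1 : W ≠ ⊤) (hW : H ≤ Cfsg.Geo.subspaceStabilizer W) :
    (∃ U : Submodule F (ι → F), U ≠ ⊥ ∧ Cfsg.Geo.IsTotallySingularFor f U ∧ H ≤ Cfsg.Geo.subspaceStabilizer U) ∨
    (∃ U : Submodule F (ι → F), U ≠ ⊥ ∧ Cfsg.Geo.IsNondegenerateOn f U ∧ 2 * Module.finrank F U < Fintype.card ι ∧
      H ≤ Cfsg.Geo.subspaceStabilizer U) ∨
    (∃ (k : ℕ) (D : Fin 2 → Submodule F (ι → F)), 2 * k = Fintype.card ι ∧
      Cfsg.Geo.IsNondegenerateMDecomposition f k D ∧ H ≤ Cfsg.Geo.decompositionStabilizer D) := by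
  have hWp := hf.perp_invariant hH hW
  by_cases hrad : W ⊓ hf.perp W = ⊥
  swap
  · refine Or.inl ⟨_, hrad, fun u hu v hv => hu.2 v hv.1, fun g hg v => ?_⟩
    exact and_congr (hW hg v) (hWp hg v)
  have hnd := (hf.isNondegenerateOn_iff W).2 hrad
  obtain ⟨hc, hnd'⟩ := hf.isCompl_perp hnd
  have hsum : Module.finrank F W + Module.finrank F (hf.perp W) = Fintype.card ι := by
    rw [Submodule.finrank_add_eq_of_isCompl hc, Module.finrank_fintype_fun_eq_card]
  have hne : hf.perp W ≠ ⊥ := fun h0 => hW1 (by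
    have := hc.sup_eq_top; rwa [h0, sup_bot_eq] at this)
  rcases lt_trichotomy (Module.finrank F W) (Module.finrank F (hf.perp W)) with h | h | h
  · exact Or.inr (Or.inl ⟨W, hW0, hnd, by omega, hW⟩)
  · refine Or.inr (Or.inr ⟨Module.finrank F W, ![W, hf.perp W], by omega, ⟨⟨le_rfl, ?_, ?_, ?_, ?_⟩, ?_, ?_⟩, ?_⟩)
    · exact Nat.pos_of_ne_zero fun h0 => hW0 (Submodule.finrank_eq_zero.1 h0)
    · intro i; fin_cases i
      · rfl
      · exact h.symm
    · rw [iSupIndep_pair (i := (0 : Fin 2)) (j := 1) (by decide) (fun i => by fin_cases i <;> simp)]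
      exact hc.disjoint
    · rw [eq_top_iff, ← hc.sup_eq_top]
      exact sup_le (le_iSup (![W, hf.perp W]) 0) (le_iSup (![W, hf.perp W]) 1)
    · intro i; fin_cases i
      · exact hnd
      · exact hnd'
    · intro i j hij; fin_cases i <;> fin_cases j
      · exact absurd rfl hij
      · exact fun u hu v hv => hf.refl _ _ (hv u hu)
      · exact fun u hu v hv => hu v hv
      · exact absurd rfl hij
    · intro g hg
      refine ⟨1, fun i => ?_⟩
      have key : ∀ U : Submodule F (ι → F), H ≤ Cfsg.Geo.subspaceStabilizer U →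
          U.map (Matrix.toLin' (g : Matrix ι ι F)) = U := by
        intro U hU
        refine le_antisymm ?_ fun v hv => ?_
        · rintro _ ⟨v, hv, rfl⟩; exact (hU hg v).1 hv
        · refine ⟨((g⁻¹ : GL ι F) : Matrix ι ι F) *ᵥ v, (hU (inv_mem hg) v).1 hv, ?_⟩
          rw [Matrix.toLin'_apply, Matrix.mulVec_mulVec, ← Units.val_mul, mul_inv_cancel, Units.val_one,
            Matrix.one_mulVec]
      fin_cases i
      · exact key _ hW
      · exact key _ hWp
  · exact Or.inr (Or.inl ⟨hf.perp W, hne, hnd', by omega, hWp⟩)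

end CfsgLib.AschbacherForm
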