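import Cfsg.Agent.Lib.AschbacherForm.Adjoint
import Cfsg.Agent.Lib.Aschbacher.Wreath

/-!
Normalisers of tensor factors and changes of coordinates.
-/

set_option autoImplicit false
set_option linter.unusedSectionVars false

namespace CfsgLib.AschbacherForm

open Cfsg Cfsg.Geo CfsgLib.Aschbacher
open scoped Matrix MatrixGroups Kronecker

universe u
variable {F : Type u} [Field F]

section kron

variable {κ μ : Type} [Fintype κ] [DecidableEq κ] [Fintype μ] [DecidableEq μ]

theorem kron_one_injective [Nonempty μ] :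
    Function.Injective fun a : Matrix κ κ F => a ⊗ₖ (1 : Matrix μ μ F) := by
  obtain ⟨j⟩ := ‹Nonempty μ›
  intro a b h
  ext x y
  simpa [Matrix.kronecker_apply] using congrFun (congrFun h (x, j)) (y, j)

/-- A Kronecker product of invertible matrices. -/
def kronGL (A : GL κ F) (B : GL μ F) : GL (κ × μ) F :=
  ⟨(A : Matrix κ κ F) ⊗ₖ (B : Matrix μ μ F), (↑A⁻¹ : Matrix κ κ F) ⊗ₖ (↑B⁻¹ : Matrix μ μ F),
    by rw [← Matrix.mul_kronecker_mul, Units.mul_inv, Units.mul_inv, Matrix.one_kronecker_one],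
    by rw [← Matrix.mul_kronecker_mul, Units.inv_mul, Units.inv_mul, Matrix.one_kronecker_one]⟩

theorem kronGL_val (A : GL κ F) (B : GL μ F) :
    (kronGL A B : Matrix (κ × μ) (κ × μ) F) = (A : Matrix κ κ F) ⊗ₖ (B : Matrix μ μ F) := rfl

/-- An element normalising the first factor is a Kronecker product. -/
theorem kron_decomp [Nonempty κ] [Nonempty μ] (u : GL (κ × μ) F)
    (h : ∀ a : Matrix κ κ F, ∃ a' : Matrix κ κ F,
      cj u (a ⊗ₖ (1 : Matrix μ μ F)) = a' ⊗ₖ (1 : Matrix μ μ F)) :
    ∃ (A : GL κ F) (B : GL μ F), u = kronGL A B := by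
  classical
  choose θ hθ using h
  have inj := kron_one_injective (F := F) (κ := κ) (μ := μ)
  have hadd : ∀ a b, θ (a + b) = θ a + θ b := fun a b => inj (by
    show θ (a + b) ⊗ₖ (1 : Matrix μ μ F) = (θ a + θ b) ⊗ₖ (1 : Matrix μ μ F)
    rw [← hθ, Matrix.add_kronecker, Matrix.add_kronecker, map_add, hθ, hθ])
  have hsmul : ∀ (c : F) a, θ (c • a) = c • θ a := fun c a => inj (by
    show θ (c • a) ⊗ₖ (1 : Matrix μ μ F) = (c • θ a) ⊗ₖ (1 : Matrix μ μ F)
    rw [← hθ, Matrix.smul_kronecker, Matrix.smul_kronecker, map_smul, hθ])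
  have h1 : θ 1 = 1 := inj (by
    show θ 1 ⊗ₖ (1 : Matrix μ μ F) = (1 : Matrix κ κ F) ⊗ₖ (1 : Matrix μ μ F)
    rw [← hθ, Matrix.one_kronecker_one, map_one])
  have hmul : ∀ a b, θ (a * b) = θ a * θ b := fun a b => inj (by
    show θ (a * b) ⊗ₖ (1 : Matrix μ μ F) = (θ a * θ b) ⊗ₖ (1 : Matrix μ μ F)
    rw [← hθ]
    conv_lhs => rw [← mul_one (1 : Matrix μ μ F), Matrix.mul_kronecker_mul, map_mul, hθ, hθ]
    rw [← Matrix.mul_kronecker_mul, mul_one])
  obtain ⟨A, hA⟩ := skolem_noether (AlgHom.ofLinearMap ⟨⟨θ, hadd⟩, hsmul⟩ h1 hmul)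
  have hA' : ∀ a, θ a = cj A a := hA
  set v := (kronGL A (1 : GL μ F))⁻¹ * u with hv
  have hfix : ∀ a : Matrix κ κ F, cj v (a ⊗ₖ (1 : Matrix μ μ F)) = a ⊗ₖ (1 : Matrix μ μ F) := fun a => by
    rw [hv, ← cj_cj, hθ, hA']
    show ((↑A⁻¹ : Matrix κ κ F) ⊗ₖ (((1 : GL μ F)⁻¹ : GL μ F) : Matrix μ μ F)) * (cj A a ⊗ₖ (1 : Matrix μ μ F)) *
      ((A : Matrix κ κ F) ⊗ₖ ((1 : GL μ F) : Matrix μ μ F)) = _
    rw [← Matrix.mul_kronecker_mul, ← Matrix.mul_kronecker_mul]
    simp [cj_apply, mul_assoc]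
  obtain ⟨B, hB⟩ := block_of_commutes fun a => (cj_eq_self_iff v _).1 (hfix a)
  obtain ⟨B', hB'⟩ := block_of_commutes (u := (↑v⁻¹ : Matrix (κ × μ) (κ × μ) F)) fun a =>
    (cj_eq_self_iff v⁻¹ _).1 (by conv_lhs => rw [← hfix a, cj_inv_cj])
  have key : ∀ C D : Matrix μ μ F, (1 : Matrix κ κ F) ⊗ₖ (C * D) = 1 → C * D = 1 := fun C D e => by
    ext i j
    have := congrFun (congrFun e (Classical.arbitrary κ, i)) (Classical.arbitrary κ, j)
    simpa [Matrix.kronecker_apply, Matrix.one_apply] using this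
  refine ⟨A, ⟨B, B', key _ _ ?_, key _ _ ?_⟩, ?_⟩
  · rw [← mul_one (1 : Matrix κ κ F), Matrix.mul_kronecker_mul, ← hB, ← hB', Units.mul_inv]
  · rw [← mul_one (1 : Matrix κ κ F), Matrix.mul_kronecker_mul, ← hB, ← hB', Units.inv_mul]
  · refine Units.ext ?_
    rw [show u = kronGL A 1 * v by rw [hv]; group, Units.val_mul]
    refine (congrArg (((kronGL A 1 : GL (κ × μ) F) : Matrix (κ × μ) (κ × μ) F) * ·) hB).trans ?_
    rw [kronGL_val, kronGL_val, ← Matrix.mul_kronecker_mul]
    simp

/-- Equal Kronecker products have proportional factors. -/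
theorem kron_proportional {A A' : Matrix κ κ F} {B B' : Matrix μ μ F} (hA : A ≠ 0) (hB : B ≠ 0)
    (h : A ⊗ₖ B = A' ⊗ₖ B') : ∃ c : F, c ≠ 0 ∧ A' = c • A ∧ B = c • B' := by
  obtain ⟨i, j, hij⟩ : ∃ i j, A i j ≠ 0 := by
    by_contra hc; push Not at hc; exact hA (Matrix.ext hc)
  have he : ∀ x y k l, A x y * B k l = A' x y * B' k l := fun x y k l =>
    congrFun (congrFun h (x, k)) (y, l)
  have hB2 : B = (A' i j / A i j) • B' := by
    ext k l
    rw [Matrix.smul_apply, smul_eq_mul, div_mul_eq_mul_div, eq_div_iff hij, ← he i j k l]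
    ring
  have hc : A' i j / A i j ≠ 0 := fun e => hB (by rw [hB2, e, zero_smul])
  refine ⟨_, hc, ?_, hB2⟩
  obtain ⟨k, l, hkl⟩ : ∃ k l, B' k l ≠ 0 := by
    by_contra hc'; push Not at hc'; exact hB (by rw [hB2, Matrix.ext hc' (N := 0), smul_zero])
  ext x y
  have := he x y k l
  rw [hB2, Matrix.smul_apply, smul_eq_mul] at this
  rw [Matrix.smul_apply, smul_eq_mul]
  exact mul_right_cancel₀ hkl (by linear_combination -this)

end kron

section pure

variable {d s : ℕ}

theorem pure'_smul (c : Fin s → F) (a : Fin s → Matrix (Fin d) (Fin d) F) :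
    pure' (fun i => c i • a i) = (∏ i, c i) • pure' a := by
  ext x y; simp [pure', Finset.prod_mul_distrib]

theorem pureGL_mul (A B : Fin s → GL (Fin d) F) : pureGL (fun i => A i * B i) = pureGL A * pureGL B :=
  Units.ext (pure'_mul _ _).symm

theorem slot_apply_self (i : Fin s) (a : Matrix (Fin d) (Fin d) F) (x : Fin s → Fin d) (p q : Fin d) :
    slot i a (Function.update x i p) (Function.update x i q) = a p q := by
  simp only [slot, Matrix.of_apply, Function.update_self]
  rw [if_pos fun j hj => by rw [Function.update_of_ne hj, Function.update_of_ne hj]]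

theorem slot_injective [Nonempty (Fin d)] (i : Fin s) : Function.Injective (slot (F := F) (d := d) i) :=
  fun a a' h => Matrix.ext fun p q => by
    rw [← slot_apply_self i a (fun _ => Classical.arbitrary _) p q, h, slot_apply_self]

theorem slot_mul (i : Fin s) (a a' : Matrix (Fin d) (Fin d) F) : slot i (a * a') = slot i a * slot i a' := by
  rw [slot_eq_pure, slot_eq_pure, slot_eq_pure, pure'_mul]
  congr 1
  funext j
  rcases eq_or_ne j i with rfl | hj
  · simp
  · simp [hj]

theorem slot_add (i : Fin s) (a a' : Matrix (Fin d) (Fin d) F) : slot i (a + a') = slot i a + slot i a' := by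
  ext x y; simp only [slot, Matrix.of_apply, Matrix.add_apply]; split_ifs <;> simp

theorem slot_smul (i : Fin s) (c : F) (a : Matrix (Fin d) (Fin d) F) : slot i (c • a) = c • slot i a := by
  ext x y; simp only [slot, Matrix.of_apply, Matrix.smul_apply]; split_ifs <;> simp

theorem slot_one (i : Fin s) : slot (F := F) (d := d) i 1 = 1 := by
  rw [slot_eq_pure, Function.update_eq_self_iff.2 rfl, pure'_one]

theorem scalar_of_commutes_slots (M : Matrix (Fin s → Fin d) (Fin s → Fin d) F)
    (h : ∀ i a, slot i a * M = M * slot i a) : ∃ c : F, M = c • 1 := by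
  classical
  have hpure : ∀ (S : Finset (Fin s)) (a : Fin s → Matrix (Fin d) (Fin d) F), (∀ i ∉ S, a i = 1) →
      Commute (pure' a) M := by
    intro S
    induction S using Finset.induction_on with
    | empty =>
      intro a ha
      rw [show a = fun _ => 1 from funext fun i => ha i (Finset.notMem_empty i), pure'_one]
      exact Commute.one_left M
    | insert i S hi ih =>
      intro a ha
      have e : pure' a = slot i (a i) * pure' (Function.update a i 1) := by
        rw [slot_eq_pure, pure'_mul]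
        congr 1
        funext j
        rcases eq_or_ne j i with rfl | hj
        · simp
        · simp [hj]
      rw [e]
      refine Commute.mul_left (h i (a i)) (ih _ fun j hj => ?_)
      rcases eq_or_ne j i with rfl | hji
      · simp
      · rw [Function.update_of_ne hji]; exact ha j (by simp [hji, hj])
  obtain ⟨c, hc⟩ : M ∈ Set.range (Matrix.scalar (Fin s → Fin d) : F →+* _) := by
    refine Matrix.mem_range_scalar_of_commute_single fun x y _ => ?_
    have e : Matrix.single x y (1 : F) = pure' fun i => Matrix.single (x i) (y i) (1 : F) := by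
      ext u v
      simp only [pure', Matrix.of_apply, Matrix.single, Matrix.of_apply]
      by_cases hxy : x = u ∧ y = v
      · obtain ⟨rfl, rfl⟩ := hxy
        simp
      · rw [if_neg hxy]
        obtain ⟨i, hi⟩ : ∃ i, ¬ (x i = u i ∧ y i = v i) := by
          by_contra hc; push Not at hc
          exact hxy ⟨funext fun i => (hc i).1, funext fun i => (hc i).2⟩
        exact (Finset.prod_eq_zero (Finset.mem_univ i) (if_neg hi)).symm
    show Commute _ M
    rw [e]
    exact hpure Finset.univ _ fun i hi => absurd (Finset.mem_univ i) hi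
  exact ⟨c, by rw [← hc]; simp [Matrix.smul_one_eq_diagonal]⟩

/-- An element permuting the slots is a permutation times a pure tensor. -/
theorem slot_decomp [Nonempty (Fin d)] (hs : 0 < s) (u : GL (Fin s → Fin d) F) (π : Equiv.Perm (Fin s))
    (h : ∀ i a, ∃ a', cj u (slot i a) = slot (π i) a') :
    ∃ A : Fin s → GL (Fin d) F, u = permGL π * pureGL A := by
  classical
  set v := (permGL π)⁻¹ * u with hv
  have h' : ∀ i a, ∃ a', cj v (slot i a) = slot i a' := fun i a => by
    obtain ⟨a', ha'⟩ := h i a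
    exact ⟨a', by rw [hv, ← cj_cj, ha', ← permGL_conj_slot, cj_inv_cj]⟩
  choose θ hθ using h'
  have hA : ∀ i, ∃ A : GL (Fin d) F, ∀ a, θ i a = cj A a := fun i =>
    skolem_noether (AlgHom.ofLinearMap
      ⟨⟨θ i, fun a a' => slot_injective i (by rw [← hθ, slot_add, slot_add, map_add, hθ, hθ])⟩,
        fun c a => slot_injective i (by
          show slot i (θ i (c • a)) = slot i (c • θ i a)
          rw [← hθ, slot_smul, slot_smul, map_smul, hθ])⟩
      (slot_injective i (by show slot i (θ i 1) = slot i 1; rw [← hθ, slot_one, map_one]))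
      fun a a' => slot_injective i (by
        show slot i (θ i (a * a')) = slot i (θ i a * θ i a')
        rw [← hθ, slot_mul, slot_mul, map_mul, hθ, hθ]))
  choose A hA using hA
  set w := (pureGL A)⁻¹ * v with hw
  have hfix : ∀ i a, cj w (slot i a) = slot i a := fun i a => by
    rw [hw, ← cj_cj, hθ, hA]
    show pure' (fun j => (↑(A j)⁻¹ : Matrix (Fin d) (Fin d) F)) * slot i (cj (A i) a) *
      pure' (fun j => (A j : Matrix (Fin d) (Fin d) F)) = _
    have := pure'_conj_slot (fun j => (A j)⁻¹) i (cj (A i) a)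
    simpa [cj_inv_cj] using this
  obtain ⟨c, hc⟩ := scalar_of_commutes_slots (w : Matrix _ _ F) fun i a =>
    ((cj_eq_self_iff w _).1 (hfix i a)).symm
  have hc0 : c ≠ 0 := fun e => by
    haveI : Nonempty (Fin s → Fin d) := inferInstance
    exact w.isUnit.ne_zero (by rw [hc, e, zero_smul])
  let i₀ : Fin s := ⟨0, hs⟩
  refine ⟨fun i => if i = i₀ then sc (Units.mk0 c hc0) * A i else A i, ?_⟩
  rw [show u = permGL π * (pureGL A * w) by rw [hw, hv]; group]
  congr 1
  refine Units.ext ?_
  rw [Units.val_mul, hc, Matrix.mul_smul, mul_one]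
  show c • pure' (fun i => (A i : Matrix (Fin d) (Fin d) F)) =
    pure' fun i => ((if i = i₀ then sc (Units.mk0 c hc0) * A i else A i : GL (Fin d) F) : Matrix (Fin d) (Fin d) F)
  rw [show (fun i => ((if i = i₀ then sc (Units.mk0 c hc0) * A i else A i : GL (Fin d) F) : Matrix (Fin d) (Fin d) F)) =
    fun i => (if i = i₀ then c else 1) • (A i : Matrix (Fin d) (Fin d) F) from funext fun i => by
      split_ifs
      · rw [sc_mul_val, Units.val_mk0]
      · rw [one_smul], pure'_smul, Finset.prod_ite_eq']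
  simp

/-- Proportional pure tensors have proportional factors. -/
theorem pure_proportional [Nonempty (Fin d)] {A B : Fin s → GL (Fin d) F} {c : F}
    (h : pure' (fun i => (A i : Matrix (Fin d) (Fin d) F)) = c • pure' fun i => (B i : Matrix (Fin d) (Fin d) F))
    (i : Fin s) : ∃ a : F, a ≠ 0 ∧ (A i : Matrix (Fin d) (Fin d) F) = a • (B i : Matrix (Fin d) (Fin d) F) := by
  classical
  let C : Fin s → Matrix (Fin d) (Fin d) F := fun j => (↑(B j)⁻¹ : Matrix (Fin d) (Fin d) F) * (A j : Matrix (Fin d) (Fin d) F)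
  have hC : pure' C = c • 1 := by
    show pure' (fun j => (↑(B j)⁻¹ : Matrix (Fin d) (Fin d) F) * (A j : Matrix (Fin d) (Fin d) F)) = _
    rw [← pure'_mul, h, Matrix.mul_smul, pure'_mul]
    simp [pure'_one]
  have hC0 : ∀ j, ∃ a b, C j a b ≠ 0 := fun j => by
    by_contra hc; push Not at hc
    exact ((B j)⁻¹ * A j).isUnit.ne_zero (Matrix.ext hc)
  choose a b hab using hC0
  set k := ∏ j ∈ Finset.univ.erase i, C j (a j) (b j) with hk
  have hk0 : k ≠ 0 := Finset.prod_ne_zero_iff.2 fun j _ => hab j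
  have hent : ∀ p q, C i p q * k = c * if Function.update a i p = Function.update b i q then 1 else 0 := by
    intro p q
    have h1 := congrFun (congrFun hC (Function.update a i p)) (Function.update b i q)
    simp only [pure', Matrix.of_apply, Matrix.smul_apply, Matrix.one_apply, smul_eq_mul] at h1
    rw [← h1, ← Finset.mul_prod_erase _ _ (Finset.mem_univ i), Function.update_self, Function.update_self]
    congr 1
    exact Finset.prod_congr rfl fun j hj => by
      rw [Function.update_of_ne (Finset.mem_erase.1 hj).1, Function.update_of_ne (Finset.mem_erase.1 hj).1]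
  have hdiag : ∀ j, j ≠ i → a j = b j := fun j hj => by
    by_contra hne
    refine hab i (mul_right_cancel₀ hk0 ?_)
    rw [zero_mul, hent, if_neg, mul_zero]
    intro e
    have := congrFun e j
    rw [Function.update_of_ne hj, Function.update_of_ne hj] at this
    exact hne this
  have hCi : C i = (c / k) • 1 := by
    ext p q
    rw [Matrix.smul_apply, smul_eq_mul, Matrix.one_apply, div_mul_eq_mul_div, eq_div_iff hk0, hent]
    congr 1
    refine if_congr ⟨fun e => by simpa using congrFun e i, fun e => funext fun j => ?_⟩ rfl rfl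
    rcases eq_or_ne j i with rfl | hj
    · simp [e]
    · simp [hj, hdiag j hj]
  refine ⟨c / k, fun e => hab i (by rw [hCi, e, zero_smul]; rfl), ?_⟩
  have := congrArg ((B i : Matrix (Fin d) (Fin d) F) * ·) hCi
  simpa [C, ← mul_assoc] using this

end pure

section coord

variable {ι κ : Type} [Fintype ι] [DecidableEq ι] [Fintype κ] [DecidableEq κ]

theorem smul_submatrix (c : F) (M : Matrix ι ι F) (g : κ → ι) : c • M.submatrix g g = (c • M).submatrix g g := rfl

/-- Coordinates along a basis and a bijection of index types. -/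
def coordR (e : ι ≃ κ) (P : GL ι F) : Matrix ι ι F ≃ₐ[F] Matrix κ κ F :=
  (cj P⁻¹).trans (Matrix.reindexAlgEquiv F F e)

/-- The Gram matrix in coordinates. -/
def coordJ (σ : F ≃+* F) (e : ι ≃ κ) (P J : GL ι F) : GL κ F :=
  glReindex e (⟨(P : Matrix ι ι F)ᵀ, (↑P⁻¹ : Matrix ι ι F)ᵀ,
    by rw [← Matrix.transpose_mul, Units.inv_mul, Matrix.transpose_one],
    by rw [← Matrix.transpose_mul, Units.mul_inv, Matrix.transpose_one]⟩ * J *
    Units.map (RingHom.mapMatrix (σ : F →+* F) : Matrix ι ι F →+* Matrix ι ι F).toMonoidHom P)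

theorem coordR_apply (e : ι ≃ κ) (P : GL ι F) (x : Matrix ι ι F) :
    coordR e P x = ((↑P⁻¹ : Matrix ι ι F) * x * (P : Matrix ι ι F)).submatrix e.symm e.symm := by
  simp [coordR, cj_apply]

theorem coordJ_val (σ : F ≃+* F) (e : ι ≃ κ) (P J : GL ι F) :
    (coordJ σ e P J : Matrix κ κ F) =
      ((P : Matrix ι ι F)ᵀ * (J : Matrix ι ι F) * (P : Matrix ι ι F).map σ).submatrix e.symm e.symm := rfl

theorem coordR_gl (e : ι ≃ κ) (P g : GL ι F) :
    coordR e P (g : Matrix ι ι F) = ((glReindex e (P⁻¹ * g * P) : GL κ F) : Matrix κ κ F) := by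
  rw [coordR_apply]; simp [glReindex]

theorem coord_adj (σ : F ≃+* F) (e : ι ≃ κ) (P J : GL ι F) (x : Matrix ι ι F) :
    adj σ (coordJ σ e P J) (coordR e P x) = coordR e P (adj σ J x) := by
  refine adj_eq ?_
  rw [coordR_apply, coordR_apply, coordJ_val, Matrix.transpose_submatrix, Matrix.submatrix_mul_equiv,
    ← Matrix.submatrix_map, Matrix.submatrix_mul_equiv]
  congr 1
  simp only [Matrix.transpose_mul, map_mul_equiv]
  calc (P : Matrix ι ι F)ᵀ * (xᵀ * (↑P⁻¹ : Matrix ι ι F)ᵀ) *
        ((P : Matrix ι ι F)ᵀ * (J : Matrix ι ι F) * (P : Matrix ι ι F).map σ)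
      = (P : Matrix ι ι F)ᵀ * (xᵀ * ((↑P⁻¹ : Matrix ι ι F)ᵀ * (P : Matrix ι ι F)ᵀ) * (J : Matrix ι ι F)) *
          (P : Matrix ι ι F).map σ := by simp only [mul_assoc]
    _ = (P : Matrix ι ι F)ᵀ * ((J : Matrix ι ι F) * (adj σ J x).map σ) * (P : Matrix ι ι F).map σ := by
        rw [← Matrix.transpose_mul, Units.mul_inv, Matrix.transpose_one, mul_one, adj_gram σ J x]
    _ = (P : Matrix ι ι F)ᵀ * (J : Matrix ι ι F) * (((P : Matrix ι ι F).map σ * (↑P⁻¹ : Matrix ι ι F).map σ) *
          (adj σ J x).map σ * (P : Matrix ι ι F).map σ) := by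
        rw [← map_mul_equiv, Units.mul_inv, Matrix.map_one σ (map_zero σ) (map_one σ), one_mul]
        simp only [mul_assoc]
    _ = _ := by simp only [mul_assoc]

theorem coord_sim (σ : F ≃+* F) (e : ι ≃ κ) (P J g : GL ι F) (c : F)
    (h : IsSim σ (J : Matrix ι ι F) (g : Matrix ι ι F) c) :
    IsSim σ (coordJ σ e P J : Matrix κ κ F) (coordR e P (g : Matrix ι ι F)) c := by
  unfold IsSim at h ⊢
  rw [coordR_apply, coordJ_val, Matrix.transpose_submatrix, Matrix.submatrix_mul_equiv,
    ← Matrix.submatrix_map, Matrix.submatrix_mul_equiv]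
  rw [smul_submatrix]
  refine congrArg (fun M : Matrix ι ι F => M.submatrix e.symm e.symm) ?_
  simp only [Matrix.transpose_mul, map_mul_equiv]
  calc (P : Matrix ι ι F)ᵀ * ((g : Matrix ι ι F)ᵀ * (↑P⁻¹ : Matrix ι ι F)ᵀ) *
        ((P : Matrix ι ι F)ᵀ * (J : Matrix ι ι F) * (P : Matrix ι ι F).map σ) *
        ((↑P⁻¹ : Matrix ι ι F).map σ * (g : Matrix ι ι F).map σ * (P : Matrix ι ι F).map σ)
      = (P : Matrix ι ι F)ᵀ * ((g : Matrix ι ι F)ᵀ * ((↑P⁻¹ : Matrix ι ι F)ᵀ * (P : Matrix ι ι F)ᵀ) *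
          (J : Matrix ι ι F) * ((P : Matrix ι ι F).map σ * (↑P⁻¹ : Matrix ι ι F).map σ) *
          (g : Matrix ι ι F).map σ) * (P : Matrix ι ι F).map σ := by simp only [mul_assoc]
    _ = (P : Matrix ι ι F)ᵀ * ((g : Matrix ι ι F)ᵀ * (J : Matrix ι ι F) * (g : Matrix ι ι F).map σ) *
          (P : Matrix ι ι F).map σ := by
        rw [← Matrix.transpose_mul, ← map_mul_equiv, Units.mul_inv, Matrix.transpose_one,
          Matrix.map_one σ (map_zero σ) (map_one σ), mul_one, mul_one]
    _ = _ := by rw [h, Matrix.mul_smul, Matrix.smul_mul]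

theorem coord_symm {σ : F ≃+* F} {f : (ι → F) → (ι → F) → F} {J : GL ι F} {ε : F} (hG : Geom σ f J ε)
    (e : ι ≃ κ) (P : GL ι F) :
    ((coordJ σ e P J : Matrix κ κ F).map σ)ᵀ = ε • (coordJ σ e P J : Matrix κ κ F) := by
  rw [coordJ_val, ← Matrix.submatrix_map, Matrix.transpose_submatrix]
  rw [smul_submatrix]
  refine congrArg (fun M : Matrix ι ι F => M.submatrix e.symm e.symm) ?_
  have h2 : ∀ M : Matrix ι ι F, (M.map σ).map σ = M := fun M => by ext; simp [hG.invol]
  simp only [map_mul_equiv, Matrix.transpose_mul, h2, Matrix.transpose_map, Matrix.transpose_transpose,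
    hG.symm, Matrix.smul_mul, Matrix.mul_smul, mul_assoc]

theorem coord_form {σ : F ≃+* F} {f : (ι → F) → (ι → F) → F} {J : GL ι F} {ε : F} (hG : Geom σ f J ε)
    (e : ι ≃ κ) (P : GL ι F) (x y : κ → F) :
    f ((P : Matrix ι ι F) *ᵥ (x ∘ e)) ((P : Matrix ι ι F) *ᵥ (y ∘ e)) =
      formOfGram σ (coordJ σ e P J : Matrix κ κ F) x y := by
  rw [hG.eq_gram, formOfGram_mulVec, coordJ_val]
  simp only [formOfGram, Function.comp_apply, Matrix.submatrix_apply]
  refine Fintype.sum_equiv e _ _ fun a => Fintype.sum_equiv e _ _ fun b => ?_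
  simp

theorem mem_of_coord (e : ι ≃ κ) (P : GL ι F) (S : Subgroup (GL κ F)) {g : GL ι F} (T : GL κ F) (hT : T ∈ S)
    (hg : coordR e P (g : Matrix ι ι F) = (T : Matrix κ κ F)) :
    g ∈ (S.map (glReindex e.symm).toMonoidHom).map (MulAut.conj P).toMonoidHom := by
  refine ⟨P⁻¹ * g * P, ⟨T, hT, ?_⟩, by simp [mul_assoc]⟩
  have h1 : glReindex e (P⁻¹ * g * P) = T := Units.ext ((coordR_gl e P g).symm.trans hg)
  rw [← h1]
  refine Units.ext ?_
  ext i j
  simp [glReindex]

end coord

end CfsgLib.AschbacherForm
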