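import Cfsg.Agent.Lib.AschbacherForm.Descent
import Cfsg.Agent.Lib.Aschbacher.Realise

/-!
Groups realised over a subfield: the fifth class, with the form.
-/

set_option autoImplicit false
set_option linter.unusedSectionVars false

namespace CfsgLib.AschbacherForm

open Cfsg Cfsg.Geo CfsgLib.Aschbacher
open scoped Matrix MatrixGroups

variable {ι : Type} [Fintype ι] [DecidableEq ι] {F : Type*} [Field F]

theorem mem_subfield_iff [Finite F] (F₁ : Subfield F) {x : F} : x ∈ F₁ ↔ x ^ Nat.card F₁ = x := by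
  classical
  haveI : Fintype F₁ := Fintype.ofFinite _
  have h1 : ∀ y ∈ F₁, y ^ Nat.card F₁ = y := fun y hy => by
    rw [Nat.card_eq_fintype_card]
    exact congrArg Subtype.val (FiniteField.pow_card (⟨y, hy⟩ : F₁))
  refine ⟨h1 x, fun hx => ?_⟩
  have hc : Nat.card {y : F // y ^ Nat.card F₁ = y} = Nat.card F₁ := by
    refine natCard_fixed F Finite.one_lt_card ?_
    rw [Module.natCard_eq_pow_finrank (K := F₁) (V := F)]
    simpa using sub_one_dvd_pow (a := Nat.card F₁) (one_dvd (Module.finrank F₁ F))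
  haveI : Finite {y : F // y ^ Nat.card F₁ = y} := Subtype.finite
  let i : F₁ → {y : F // y ^ Nat.card F₁ = y} := fun y => ⟨y, h1 y y.2⟩
  have hi : Function.Injective i := fun a b h => Subtype.ext (congrArg Subtype.val h :)
  obtain ⟨y, hy⟩ := (hi.bijective_of_nat_card_le hc.le).2 ⟨x, hx⟩
  rw [← show (y : F) = x from congrArg Subtype.val hy]
  exact y.2

theorem map_mem_subfield [Finite F] (σ : F ≃+* F) (F₁ : Subfield F) {x : F} (hx : x ∈ F₁) : σ x ∈ F₁ :=
  (mem_subfield_iff F₁).2 (by rw [← map_pow, (mem_subfield_iff F₁).1 hx])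

/-- The matrices with entries in a subfield. -/
def Rat' (F₁ : Subfield F) (M : Matrix ι ι F) : Prop := ∀ i j, M i j ∈ F₁

/-- An intertwiner of rational absolutely irreducible sets is rational up to a scalar. -/
theorem rat_intertwine [Finite F] [Nonempty ι] {F₁ : Subfield F} {S : Set (Matrix ι ι F)}
    (hS : ∀ M : Matrix ι ι F, (∀ s ∈ S, s * M = M * s) → ∃ c : F, M = c • (1 : Matrix ι ι F)) (K : GL ι F)
    (hK : ∀ s ∈ S, Rat' F₁ s ∧ ∃ y, Rat' F₁ y ∧ (K : Matrix ι ι F) * s = y * (K : Matrix ι ι F)) :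
    ∃ z : F, z ≠ 0 ∧ Rat' F₁ (z • (K : Matrix ι ι F)) := by
  classical
  obtain ⟨i₀, j₀, h₀⟩ : ∃ i j, (K : Matrix ι ι F) i j ≠ 0 := by
    by_contra h
    push Not at h
    exact K.isUnit.ne_zero (Matrix.ext h)
  set z := ((K : Matrix ι ι F) i₀ j₀)⁻¹
  have hz : z ≠ 0 := inv_ne_zero h₀
  obtain ⟨π, hπ⟩ := (Algebra.linearMap F₁ F).exists_leftInverse_of_injective
    (LinearMap.ker_eq_bot.2 (algebraMap F₁ F).injective)
  have hπ1 : ∀ a : F₁, π (a : F) = a := fun a => LinearMap.congr_fun hπ a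
  have hπm : ∀ (a : F) (b : F), b ∈ F₁ → ((π (a * b) : F₁) : F) = π a * b := fun a b hb => by
    rw [mul_comm a, show b * a = (⟨b, hb⟩ : F₁) • a from rfl, map_smul, smul_eq_mul, mul_comm]
    rfl
  set L := z • (K : Matrix ι ι F)
  let Lp : Matrix ι ι F := fun i j => ((π (L i j) : F₁) : F)
  have hL : ∀ s ∈ S, ∃ y, Rat' F₁ y ∧ L * s = y * L := fun s hs => by
    obtain ⟨-, y, hy, hys⟩ := hK s hs
    exact ⟨y, hy, by rw [Matrix.smul_mul, hys, Matrix.mul_smul]⟩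
  have hLp : ∀ s ∈ S, ∀ y, Rat' F₁ y → L * s = y * L → Lp * s = y * Lp := fun s hs y hy e => by
    ext i j
    have h1 := congrArg (fun a : F => ((π a : F₁) : F)) (congrFun (congrFun e i) j)
    simp only [Matrix.mul_apply, map_sum, AddSubmonoidClass.coe_finset_sum] at h1 ⊢
    refine (Finset.sum_congr rfl fun k _ => (hπm _ _ ((hK s hs).1 k j)).symm).trans (h1.trans ?_)
    refine Finset.sum_congr rfl fun k _ => ?_
    rw [mul_comm, hπm _ _ (hy i k), mul_comm]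
  let Lu : GL ι F := sc (Units.mk0 z hz) * K
  have hLu : (Lu : Matrix ι ι F) = L := sc_mul_val _ _
  obtain ⟨c, hc⟩ := hS ((↑Lu⁻¹ : Matrix ι ι F) * Lp) fun s hs => by
    obtain ⟨y, hy, e⟩ := hL s hs
    have e1 : (↑Lu⁻¹ : Matrix ι ι F) * y = s * (↑Lu⁻¹ : Matrix ι ι F) := by
      rw [← hLu] at e
      calc (↑Lu⁻¹ : Matrix ι ι F) * y = (↑Lu⁻¹ : Matrix ι ι F) * (y * (Lu : Matrix ι ι F)) * (↑Lu⁻¹ : Matrix ι ι F) := by
            simp [mul_assoc]
        _ = s * (↑Lu⁻¹ : Matrix ι ι F) := by rw [← e]; simp [mul_assoc]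
    rw [mul_assoc, hLp s hs y hy e, ← mul_assoc, ← mul_assoc, e1]
  have hcL : Lp = c • L := by
    have := congrArg ((Lu : Matrix ι ι F) * ·) hc
    rw [← mul_assoc, Units.mul_inv, one_mul, Matrix.mul_smul, mul_one, hLu] at this
    exact this
  have hc1 : c = 1 := by
    have h1 := congrFun (congrFun hcL i₀) j₀
    have h2 : L i₀ j₀ = ((1 : F₁) : F) := inv_mul_cancel₀ h₀
    simp only [Lp, Matrix.smul_apply, smul_eq_mul, h2, hπ1] at h1
    simpa using h1.symm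
  rw [hc1, one_smul] at hcL
  refine ⟨z, hz, fun i j => ?_⟩
  show L i j ∈ F₁
  rw [← show Lp i j = L i j from congrFun (congrFun hcL i) j]
  exact (π _).2

theorem mem_subfieldSubgroup [Finite F] {F₁ : Subfield F} (Q : GL ι F) (g : GL ι F) {z : F} (hz : z ≠ 0)
    (h : Rat' F₁ (z • ((Q⁻¹ * g * Q : GL ι F) : Matrix ι ι F))) : g ∈ subfieldSubgroup F₁ Q := by
  classical
  let M₀ : Matrix ι ι F₁ := fun i j => ⟨_, h i j⟩
  have hM : M₀.map F₁.subtype = ((sc (Units.mk0 z hz) * (Q⁻¹ * g * Q) : GL ι F) : Matrix ι ι F) := by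
    rw [sc_mul_val]; rfl
  have hu : IsUnit M₀ := by
    rw [Matrix.isUnit_iff_isUnit_det, isUnit_iff_ne_zero]
    intro e
    have h1 := congrArg F₁.subtype e
    rw [RingHom.map_det, map_zero, RingHom.mapMatrix_apply, hM] at h1
    exact ((Matrix.isUnit_iff_isUnit_det _).1 (Units.isUnit _)).ne_zero h1
  refine ⟨Q⁻¹ * g * Q, ?_, by simp [mul_assoc]⟩
  rw [show Q⁻¹ * g * Q = sc (Units.mk0 z hz)⁻¹ * (sc (Units.mk0 z hz) * (Q⁻¹ * g * Q)) by rw [sc_inv]; group]
  refine Subgroup.mul_mem _ (Subgroup.mem_sup_right (sc_mem _)) (Subgroup.mem_sup_left ⟨hu.unit, Units.ext ?_⟩)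
  exact hM

/-- The fifth class: a subfield group and a rational multiple of the form. -/
theorem subfield_data [Finite F] [Nonempty ι] {G P : Subgroup (GL ι F)}
    (hP : ActsAbsolutelyIrreducibly (matrixSet P)) (hG : ∀ g ∈ G, ∀ x ∈ P, g * x * g⁻¹ ∈ P)
    (σ : F ≃+* F) (J : GL ι F) {F₀ : Subfield F} (hF : F₀ ≠ ⊤) (hr : RealisableOver F₀ (matrixSet P))
    (hμ : ∀ x ∈ P, ∃ μ ∈ F₀, IsSim σ (J : Matrix ι ι F) (x : Matrix ι ι F) μ) :
    ∃ (F₁ : Subfield F) (r : ℕ) (Q : GL ι F) (ζ : F), r.Prime ∧ Nat.card F = Nat.card F₁ ^ r ∧ ζ ≠ 0 ∧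
      G ≤ subfieldSubgroup F₁ Q ∧
      Rat' F₁ (ζ • ((Q : Matrix ι ι F)ᵀ * (J : Matrix ι ι F) * (Q : Matrix ι ι F).map σ)) ∧
      ∀ x ∈ P, Rat' F₁ (((Q⁻¹ * x * Q : GL ι F)) : Matrix ι ι F) := by
  classical
  obtain ⟨F₁, r, hr', hle, hcard⟩ := exists_primeIndex hF
  obtain ⟨B, hB⟩ := hr
  set Q := B⁻¹ with hQ
  have hrat : ∀ x ∈ P, Rat' F₁ (((Q⁻¹ * x * Q : GL ι F)) : Matrix ι ι F) := fun x hx i j => by
    rw [hQ, inv_inv, Units.val_mul, Units.val_mul]
    exact hle (hB _ ⟨x, hx, rfl⟩ i j)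
  have hcent : ∀ M : Matrix ι ι F, (∀ x ∈ P, ((Q⁻¹ * x * Q : GL ι F) : Matrix ι ι F) * M =
      M * ((Q⁻¹ * x * Q : GL ι F) : Matrix ι ι F)) → ∃ c : F, M = c • (1 : Matrix ι ι F) := fun M hM => by
    obtain ⟨c, hc⟩ := eq_smul_one_of_commutes hP (x := cj Q M) fun x hx => by
      have h1 := congrArg (cj Q) (hM x hx)
      rw [map_mul, map_mul, cj_val, show Q * (Q⁻¹ * x * Q) * Q⁻¹ = x by group] at h1
      exact h1.symm
    refine ⟨c, ?_⟩
    rw [← cj_inv_cj Q M, hc, map_smul, map_one]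
  refine ⟨F₁, r, Q, ?_⟩
  have hGle : G ≤ subfieldSubgroup F₁ Q := fun g hg => by
    obtain ⟨z, hz, hK⟩ := rat_intertwine (F₁ := F₁)
      (S := (fun x : GL ι F => ((Q⁻¹ * x * Q : GL ι F) : Matrix ι ι F)) '' (P : Set (GL ι F)))
      (fun M hM => hcent M fun x hx => hM _ ⟨x, hx, rfl⟩) (Q⁻¹ * g * Q) (by
        rintro _ ⟨x, hx, rfl⟩
        refine ⟨hrat x hx, _, hrat _ (hG g hg x hx), ?_⟩
        rw [← Units.val_mul, ← Units.val_mul]
        congr 1
        group)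
    exact mem_subfieldSubgroup Q g hz hK
  have hJ1 : IsUnit ((Q : Matrix ι ι F)ᵀ * (J : Matrix ι ι F) * (Q : Matrix ι ι F).map σ) :=
    (((Matrix.isUnit_transpose _).2 Q.isUnit).mul J.isUnit).mul (Q.isUnit.map (RingHom.mapMatrix (σ : F →+* F)))
  obtain ⟨ζ, hζ, hK⟩ := rat_intertwine (F₁ := F₁)
    (S := (fun x : GL ι F => ((Q⁻¹ * x * Q : GL ι F) : Matrix ι ι F).map σ) '' (P : Set (GL ι F)))
    (fun M hM => by
      obtain ⟨c, hc⟩ := hcent (M.map σ.symm) fun x hx => by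
        have h1 := congrArg (fun A : Matrix ι ι F => A.map σ.symm) (hM _ ⟨x, hx, rfl⟩)
        simpa [map_mul_equiv, Matrix.map_map, Function.comp_def] using h1
      refine ⟨σ c, ?_⟩
      have := congrArg (fun A : Matrix ι ι F => A.map σ) hc
      simpa [Matrix.map_map, Function.comp_def, Matrix.map_smul', Matrix.map_one] using this)
    hJ1.unit (by
      rintro _ ⟨x, hx, rfl⟩
      obtain ⟨μ, hμ0, hxμ⟩ := hμ x hx
      set x' := Q⁻¹ * x * Q with hx'
      refine ⟨fun i j => map_mem_subfield σ F₁ (hrat x hx i j), μ • ((↑x'⁻¹ : Matrix ι ι F))ᵀ, fun i j => ?_, ?_⟩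
      · simp only [Matrix.smul_apply, Matrix.transpose_apply, smul_eq_mul]
        refine F₁.mul_mem (hle hμ0) ?_
        rw [hx', show (Q⁻¹ * x * Q)⁻¹ = Q⁻¹ * x⁻¹ * Q by group]
        exact hrat _ (P.inv_mem hx) j i
      · rw [IsUnit.unit_spec]
        have hQx : (Q : Matrix ι ι F) * (x' : Matrix ι ι F) = (x : Matrix ι ι F) * Q := by
          rw [← Units.val_mul, ← Units.val_mul, hx']; congr 1; group
        have e : (x' : Matrix ι ι F)ᵀ * ((Q : Matrix ι ι F)ᵀ * (J : Matrix ι ι F) * (Q : Matrix ι ι F).map σ) *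
            (x' : Matrix ι ι F).map σ = μ • ((Q : Matrix ι ι F)ᵀ * (J : Matrix ι ι F) * (Q : Matrix ι ι F).map σ) := by
          calc _ = ((Q : Matrix ι ι F) * (x' : Matrix ι ι F))ᵀ * (J : Matrix ι ι F) *
                ((Q : Matrix ι ι F) * (x' : Matrix ι ι F)).map σ := by
                simp only [Matrix.transpose_mul, map_mul_equiv, mul_assoc]
            _ = (Q : Matrix ι ι F)ᵀ * ((x : Matrix ι ι F)ᵀ * (J : Matrix ι ι F) * (x : Matrix ι ι F).map σ) *
                (Q : Matrix ι ι F).map σ := by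
              rw [hQx]; simp only [Matrix.transpose_mul, map_mul_equiv, mul_assoc]
            _ = _ := by rw [hxμ, Matrix.mul_smul, Matrix.smul_mul]
        have h2 := congrArg ((↑x'⁻¹ : Matrix ι ι F)ᵀ * ·) e
        simp only [Matrix.mul_smul] at h2
        rw [Matrix.smul_mul, ← h2]
        simp only [← mul_assoc]
        rw [← Matrix.transpose_mul, Units.mul_inv, Matrix.transpose_one, one_mul])
  rw [IsUnit.unit_spec] at hK
  exact ⟨ζ, hr', hcard, hζ, hGle, hK, hrat⟩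

/-- The form rationality predicate from a rational Gram matrix. -/
theorem formRational_of_rat [Finite F] {σ : F ≃+* F} {f : (ι → F) → (ι → F) → F} {J : GL ι F} {ε : F}
    (hG : Geom σ f J ε) {F₁ : Subfield F} {Q : GL ι F} {ζ : F}
    (h : Rat' F₁ (ζ • ((Q : Matrix ι ι F)ᵀ * (J : Matrix ι ι F) * (Q : Matrix ι ι F).map σ))) :
    IsFormRationalStructure f F₁ ζ Q := fun u v hu hv => by
  rw [hG.eq_gram, formOfGram_mulVec, ← formOfGram_smul]
  exact F₁.sum_mem fun a _ => F₁.sum_mem fun b _ =>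
    F₁.mul_mem (F₁.mul_mem (hu a) (h a b)) (map_mem_subfield σ F₁ (hv b))

end CfsgLib.AschbacherForm
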