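import Cfsg.Agent.Lib.AschbacherForm.Core

/-!
The symplectic geometry and the members of the eight classes.
-/

set_option autoImplicit false
set_option linter.unusedSectionVars false

namespace CfsgLib.AschbacherForm

open Cfsg Cfsg.Geo CfsgLib.Aschbacher
open scoped Matrix MatrixGroups

variable {F : Type*} [Field F] {m : ℕ}

local notation "I₂" => Fin m ⊕ Fin m

theorem sympForm_eq_gram (m : ℕ) (F : Type*) [Field F] :
    sympForm m F = formOfGram (RingEquiv.refl F) (Matrix.J (Fin m) F) := by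
  funext u v; rw [formOfGram_eq]; rfl

theorem J_diag (m : ℕ) (F : Type*) [Field F] (i : Fin m ⊕ Fin m) : Matrix.J (Fin m) F i i = 0 := by
  rcases i with i | i <;> simp [Matrix.J]

/-- The standard Gram matrix as an invertible matrix. -/
def Jgl (m : ℕ) (F : Type*) [Field F] : GL (Fin m ⊕ Fin m) F :=
  ⟨Matrix.J (Fin m) F, -Matrix.J (Fin m) F, by rw [mul_neg, Matrix.J_squared, neg_neg],
    by rw [neg_mul, Matrix.J_squared, neg_neg]⟩

theorem sympGeom (m : ℕ) (F : Type*) [Field F] :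
    Geom (RingEquiv.refl F) (sympForm m F) (Jgl m F) (-1) where
  eq_gram := sympForm_eq_gram m F
  invol := fun _ => rfl
  eps_ne := by simp
  symm := by
    show ((Matrix.J (Fin m) F).map id)ᵀ = _
    rw [Matrix.map_id, Matrix.J_transpose, neg_one_smul]
    rfl

theorem sympForm_symplectic (m : ℕ) (F : Type*) [Field F] : IsSymplecticForm (sympForm m F) := by
  rw [sympForm_eq_gram]
  exact symplectic_of_gram (Jgl m F).isUnit (Matrix.J_transpose _ _) (J_diag m F)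

theorem mem_spGL_iff {g : GL I₂ F} :
    g ∈ spGL m F ↔ ∀ u v, sympForm m F ((g : Matrix I₂ I₂ F) *ᵥ u) ((g : Matrix I₂ I₂ F) *ᵥ v) = sympForm m F u v :=
  Iff.rfl

theorem isSim_of_mem_spGL {g : GL I₂ F} (hg : g ∈ spGL m F) :
    IsSim (RingEquiv.refl F) (Jgl m F : Matrix I₂ I₂ F) (g : Matrix I₂ I₂ F) 1 :=
  ((sympGeom m F).isSim_iff _ _).2 fun u v => by rw [one_mul]; exact mem_spGL_iff.1 hg u v

theorem finite_two_iff [Fintype F] : (2 : F) = 0 ↔ ¬ Odd (Fintype.card F) := by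
  obtain ⟨p, hp⟩ := CharP.exists F
  haveI : Fact p.Prime := ⟨CharP.char_is_prime F p⟩
  obtain ⟨e, -, he⟩ := FiniteField.card F p
  rw [he]
  constructor
  · intro h hodd
    have h2 : ((2 : ℕ) : F) = 0 := by exact_mod_cast h
    rw [CharP.cast_eq_zero_iff F p] at h2
    have := (Nat.prime_two.eq_one_or_self_of_dvd p h2).resolve_left (CharP.char_is_prime F p).ne_one
    subst this
    exact absurd hodd (by rw [Nat.odd_pow_iff e.pos.ne']; decide)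
  · intro h
    rcases (CharP.char_is_prime F p).eq_two_or_odd' with rfl | hodd
    · exact_mod_cast CharP.cast_eq_zero F 2
    · exact absurd hodd.pow h

/-- The conditions on `X` for `X ⊓ spGL` to be a member of one of the eight classes, with the degree recorded. -/
def SympShape (m : ℕ) (F : Type*) [Field F] [Fintype F] (X : Subgroup (GL (Fin m ⊕ Fin m) F)) : Prop :=
  let f := sympForm m F
  (∃ W : Submodule F (Fin m ⊕ Fin m → F), W ≠ ⊥ ∧ IsTotallySingularFor f W ∧ X = subspaceStabilizer W) ∨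
  (∃ W : Submodule F (Fin m ⊕ Fin m → F), W ≠ ⊥ ∧ IsNondegenerateOn f W ∧ Module.finrank F W < m ∧
      X = subspaceStabilizer W) ∨
  (∃ (t k : ℕ) (D : Fin t → Submodule F (Fin m ⊕ Fin m → F)), IsNondegenerateMDecomposition f k D ∧
      X = decompositionStabilizer D) ∨
  (∃ (D : Fin 2 → Submodule F (Fin m ⊕ Fin m → F)), Odd (Fintype.card F) ∧ IsMDecomposition m D ∧
      (∀ i, IsTotallySingularFor f (D i)) ∧ X = decompositionStabilizer D) ∨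
  (∃ (F₀ : Subfield F) (r : ℕ) (P : GL (Fin m ⊕ Fin m) F) (ζ : F), r.Prime ∧ Fintype.card F = Nat.card F₀ ^ r ∧ ζ ≠ 0 ∧
      IsFormRationalStructure f F₀ ζ P ∧ X = subfieldSubgroup F₀ P) ∨
  (∃ (R : Subgroup (GL (Fin m ⊕ Fin m) F)) (p k : ℕ), IsSymplecticTypeGroup 2 R ∧
      ActsAbsolutelyIrreducibly (matrixSet R) ∧ R ≤ similarityGroup f ∧ p.Prime ∧ Odd p ∧ Fintype.card F = p ∧
      Nat.card R = 2 ^ (1 + 2 * k) ∧ Nat.card (Subgroup.center R) = 2 ∧ IsOfMinusType k R ∧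
      X = subgroupNormalizer R ∧ 2 * m = 2 ^ k ∧
      (∀ x ∈ R, ∀ y ∈ R, x * y * x⁻¹ * y⁻¹ ∈ scalars (Fin m ⊕ Fin m) F)) ∨
  (∃ Q : (Fin m ⊕ Fin m → F) → F, ¬ Odd (Fintype.card F) ∧ IsNondegenerateQuadraticForm Q ∧
      (∀ u v, QuadraticMap.polar Q u v = f u v) ∧ X = quadSimilarityGroup Q) ∨
  (∃ (r : ℕ) (K : Subalgebra F (Matrix (Fin m ⊕ Fin m) (Fin m ⊕ Fin m) F)), r.Prime ∧ IsFieldSubalgebra r K ∧
      IsSelfAdjointFor f K ∧ (∀ k ∈ K, ∀ v, f (k *ᵥ v) v = 0) ∧ X = subalgebraNormalizer K) ∨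
  (∃ K : Subalgebra F (Matrix (Fin m ⊕ Fin m) (Fin m ⊕ Fin m) F), Odd (Fintype.card F) ∧ IsFieldSubalgebra 2 K ∧
      IsAdjointClosedFor f K ∧ ¬ IsSelfAdjointFor f K ∧ X = subalgebraNormalizer K) ∨
  (∃ (n₁ n₂ : ℕ) (e : (Fin m ⊕ Fin m) ≃ Fin n₁ × Fin n₂) (P : GL (Fin m ⊕ Fin m) F)
      (f₁ : (Fin n₁ → F) → (Fin n₁ → F) → F) (f₂ : (Fin n₂ → F) → (Fin n₂ → F) → F),
      Odd (Fintype.card F) ∧ 3 ≤ n₂ ∧ IsSymplecticForm f₁ ∧ IsSymmetricForm f₂ ∧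
      IsTensorFormStructure id f f₁ f₂ e P ∧ X = tensorProductSubgroup n₁ n₂ e P) ∨
  (∃ (k t : ℕ) (e : (Fin m ⊕ Fin m) ≃ (Fin t → Fin k)) (P : GL (Fin m ⊕ Fin m) F) (f₁ : (Fin k → F) → (Fin k → F) → F),
      Odd (Fintype.card F) ∧ Odd t ∧ 3 ≤ t ∧ ¬ (Fintype.card F = 3 ∧ k = 2) ∧ IsSymplecticForm f₁ ∧
      IsTensorPowerFormStructure id f f₁ e P ∧ X = tensorWreathSubgroup k t e P)

/-- `H` lies in a member of one of the eight classes. -/
def SympOver (m : ℕ) [Fintype F] (H : Subgroup (GL (Fin m ⊕ Fin m) F)) : Prop :=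
  ∃ X, SympShape m F X ∧ H ≤ X

/-- The members given by the shapes. -/
theorem SympShape.toClass [Fintype F] {X : Subgroup (GL I₂ F)} (h : SympShape m F X) :
    InSymplecticClass m F (X ⊓ spGL m F) := by
  rcases h with ⟨W, h0, h1, rfl⟩ | ⟨W, h0, h1, h2, rfl⟩ | ⟨t, k, D, h0, rfl⟩ | ⟨D, h0, h1, h2, rfl⟩ |
    ⟨F₀, r, P, ζ, h0, h1, h2, h3, rfl⟩ | ⟨R, p, k, a, b, c, d, e, g, h', i, j, rfl, -⟩ |
    ⟨Q, h0, h1, h2, rfl⟩ | ⟨r, K, h0, h1, h2, h3, rfl⟩ | ⟨K, h0, h1, h2, h3, rfl⟩ |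
    ⟨n₁, n₂, e, P, f₁, f₂, h0, h1, h2, h3, h4, rfl⟩ | ⟨k, t, e, P, f₁, h0, h1, h2, h3, h4, h5, rfl⟩
  · exact Or.inl (Or.inl ⟨W, h0, h1, rfl⟩)
  · exact Or.inl (Or.inr (Or.inl ⟨W, h0, h1, h2, rfl⟩))
  · exact Or.inl (Or.inr (Or.inr (Or.inl ⟨t, k, D, h0, rfl⟩)))
  · exact Or.inl (Or.inr (Or.inr (Or.inr (Or.inl ⟨D, h0, h1, h2, rfl⟩))))
  · exact Or.inl (Or.inr (Or.inr (Or.inr (Or.inr (Or.inl ⟨F₀, r, P, ζ, h0, h1, h2, h3, rfl⟩)))))
  · exact Or.inl (Or.inr (Or.inr (Or.inr (Or.inr (Or.inr (Or.inl ⟨R, p, k, a, b, c, d, e, g, h', i, j, rfl⟩))))))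
  · exact Or.inl (Or.inr (Or.inr (Or.inr (Or.inr (Or.inr (Or.inr ⟨Q, h0, h1, h2, rfl⟩))))))
  · exact Or.inr (Or.inl ⟨r, K, h0, h1, h2, h3, rfl⟩)
  · exact Or.inr (Or.inr (Or.inl ⟨K, h0, h1, h2, h3, rfl⟩))
  · exact Or.inr (Or.inr (Or.inr (Or.inl ⟨n₁, n₂, e, P, f₁, f₂, h0, h1, h2, h3, h4, rfl⟩)))
  · exact Or.inr (Or.inr (Or.inr (Or.inr ⟨k, t, e, P, f₁, h0, h1, h2, h3, h4, h5, rfl⟩)))

theorem sympOver_quad [Fintype F] {H : Subgroup (GL I₂ F)} (h2 : (2 : F) = 0) {Q : (I₂ → F) → F}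
    (hQ : IsNondegenerateQuadraticForm Q) (hp : ∀ u v, QuadraticMap.polar Q u v = sympForm m F u v)
    (hH : H ≤ quadSimilarityGroup Q) : SympOver m H :=
  ⟨_, Or.inr (Or.inr (Or.inr (Or.inr (Or.inr (Or.inr (Or.inl ⟨Q, finite_two_iff.1 h2, hQ, hp, rfl⟩)))))), hH⟩

/-- A quadratic form with polar form `f` from its homogeneity and polarisation. -/
theorem nondeg_quad_of_polar {ι : Type} [Fintype ι] [DecidableEq ι] {f : (ι → F) → (ι → F) → F}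
    (hf : IsSymplecticForm f) {Q : (ι → F) → F} (hsmul : ∀ (c : F) v, Q (c • v) = c ^ 2 * Q v)
    (hp : ∀ u v, QuadraticMap.polar Q u v = f u v) : IsNondegenerateQuadraticForm Q where
  smul := hsmul
  polar_bilinear := by rw [show QuadraticMap.polar Q = f from funext fun u => funext (hp u)]; exact hf.bilinear
  nondegenerate := by rw [show QuadraticMap.polar Q = f from funext fun u => funext (hp u)]; exact hf.nondegenerate

/-- The second class for the symplectic groups. -/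
theorem symp_imprimitive [Fintype F] {H : Subgroup (GL I₂ F)} (hH : H ≤ spGL m F)
    (h : Imprimitive (sympForm m F) H) : SympOver m H := by
  rcases h with ⟨t, k, E, hE, hle⟩ | ⟨k, E, hk, hE, hts, hle⟩
  · exact ⟨_, Or.inr (Or.inr (Or.inl ⟨t, k, E, hE, rfl⟩)), hle⟩
  obtain rfl : k = m := by simp at hk; omega
  by_cases h2 : (2 : F) = 0
  swap
  · exact ⟨_, Or.inr (Or.inr (Or.inr (Or.inl
      ⟨E, not_not.1 (fun ho => h2 (finite_two_iff.2 ho)), hE, hts, rfl⟩))), hle⟩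
  have hc : IsCompl (E 0) (E 1) :=
    ⟨by simpa using hE.indep.pairwiseDisjoint (show (0 : Fin 2) ≠ 1 by decide),
      codisjoint_iff.2 (eq_top_iff.2 (hE.iSup_eq_top ▸ iSup_le fun i => by fin_cases i <;> simp))⟩
  obtain ⟨Q, hQ, hp, hQle⟩ := quad_of_singular_pair h2 (sympForm_symplectic k F) hc (hts 0) (hts 1)
    (fun g hg => mem_spGL_iff.1 (hH hg)) fun g hg => by
      obtain ⟨π, hπ⟩ := hle hg
      have hmem : ∀ i v, v ∈ E i → (g : Matrix (Fin k ⊕ Fin k) (Fin k ⊕ Fin k) F) *ᵥ v ∈ E (π i) := fun i v hv =>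
        hπ i ▸ ⟨v, hv, rfl⟩
      rcases (show ∀ ρ : Equiv.Perm (Fin 2), ρ 0 = 0 ∧ ρ 1 = 1 ∨ ρ 0 = 1 ∧ ρ 1 = 0 by decide) π with ⟨a, b⟩ | ⟨a, b⟩
      · exact Or.inl fun v => ⟨fun hv => a ▸ hmem 0 v hv, fun hv => b ▸ hmem 1 v hv⟩
      · exact Or.inr fun v => ⟨fun hv => a ▸ hmem 0 v hv, fun hv => b ▸ hmem 1 v hv⟩
  exact sympOver_quad h2 hQ hp hQle

theorem symp_reducible [Fintype F] {H : Subgroup (GL I₂ F)}
    (h : Reducible (sympForm m F) H) : SympOver m H := by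
  rcases h with ⟨U, h0, h1, hle⟩ | ⟨U, h0, h1, h2, hle⟩
  · exact ⟨_, Or.inl ⟨U, h0, h1, rfl⟩, hle⟩
  · exact ⟨_, Or.inr (Or.inl ⟨U, h0, h1, by simp at h2; omega, rfl⟩), hle⟩

end CfsgLib.AschbacherForm
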