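import Cfsg.Agent.Lib.AschbacherForm.AbelianTools
import Cfsg.Agent.Lib.AschbacherForm.Subfield
import Cfsg.Agent.Lib.AschbacherForm.SympBase

/-!
The sixth class for the symplectic groups.
-/

set_option autoImplicit false
set_option linter.unusedSectionVars false

namespace CfsgLib.AschbacherForm

open Cfsg Cfsg.Geo CfsgLib.Aschbacher
open scoped Matrix MatrixGroups

universe u
variable {F : Type u} [Field F] [Fintype F]

local notation "σ₀" => RingEquiv.refl F

/-- The prime subfield as the fixed points of `x ↦ x ^ p`. -/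
theorem exists_primeField : ∃ (p : ℕ) (F₀ : Subfield F), (p.Prime ∧
    (F₀ = ⊤ → Fintype.card F = p) ∧ (2 : F) = 0) ∨ ((2 : F) ≠ 0 ∧ p.Prime ∧ Odd p ∧ (F₀ = ⊤ → Fintype.card F = p)) := by
  classical
  obtain ⟨p, hp⟩ := CharP.exists F
  haveI : Fact p.Prime := ⟨CharP.char_is_prime F p⟩
  obtain ⟨e, hpP, he⟩ := FiniteField.card F p
  let F₀ : Subfield F := (frobenius F p).eqLocusField (RingHom.id F)
  have htop : F₀ = ⊤ → Fintype.card F = p := fun h => by
    have hall : ∀ x : F, x ^ p = x := fun x => (h ▸ Subfield.mem_top x : x ∈ F₀)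
    have hc := natCard_fixed F (M := p) hpP.one_lt (by
      rw [Nat.card_eq_fintype_card, he]
      simpa using sub_one_dvd_pow (a := p) (one_dvd (e : ℕ)))
    rw [Nat.card_congr (Equiv.subtypeUnivEquiv hall), Nat.card_eq_fintype_card] at hc
    exact hc
  refine ⟨p, F₀, ?_⟩
  rcases hpP.eq_two_or_odd' with h2 | hodd
  · refine Or.inl ⟨hpP, htop, ?_⟩
    subst h2
    exact_mod_cast CharP.cast_eq_zero F 2
  · refine Or.inr ⟨fun h2 => ?_, hpP, hodd, htop⟩
    have h2' : ((2 : ℕ) : F) = 0 := by exact_mod_cast h2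
    rw [CharP.cast_eq_zero_iff F p] at h2'
    have := (Nat.prime_two.eq_one_or_self_of_dvd p h2').resolve_left hpP.ne_one
    subst this
    exact absurd hodd (by decide)

variable {ι : Type} [Fintype ι] [DecidableEq ι]

/-- A self-adjoint totally singular orbit: the dimension bound for commutative self-adjoint algebras. -/
theorem selfAdjoint_bound (h2 : (2 : F) ≠ 0) {f : (ι → F) → (ι → F) → F} {J : GL ι F}
    (hG : Geom σ₀ f J (-1)) {B : Subalgebra F (Matrix ι ι F)}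
    (hc : ∀ x ∈ B, ∀ y ∈ B, x * y = y * x) (hsa : ∀ b ∈ B, adj σ₀ J b = b)
    (hq : ∀ b ∈ B, b ^ Fintype.card F = b) : 2 * Module.finrank F B ≤ Fintype.card ι := by
  classical
  let ev : (ι → F) → B →ₗ[F] (ι → F) := fun v =>
    { toFun := fun b => (b : Matrix ι ι F) *ᵥ v
      map_add' := fun a b => by simp [Matrix.add_mulVec]
      map_smul' := fun c b => by simp [Matrix.smul_mulVec] }
  have hq1 := Fintype.one_lt_card (α := F)
  have hnat : ∃ n, ∃ v, Module.finrank F (LinearMap.ker (ev v)) = n := ⟨_, 0, rfl⟩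
  obtain ⟨v, hv⟩ := Nat.find_spec hnat
  have hinj : LinearMap.ker (ev v) = ⊥ := by
    by_contra hne
    obtain ⟨b, hb, hb0⟩ := Submodule.exists_mem_ne_zero_of_ne_bot hne
    have hbv : (b : Matrix ι ι F) *ᵥ v = 0 := hb
    set e := (b : Matrix ι ι F) ^ (Fintype.card F - 1) with he
    have heB : e ∈ B := B.pow_mem b.2 _
    have hbe : (b : Matrix ι ι F) * e = b := by
      rw [he, ← pow_succ', Nat.sub_add_cancel hq1.le, hq _ b.2]
    have hee : e * e = e := by
      rw [he, ← pow_add, show Fintype.card F - 1 + (Fintype.card F - 1) = Fintype.card F + (Fintype.card F - 2) by omega,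
        pow_add, hq _ b.2, ← pow_succ', show Fintype.card F - 2 + 1 = Fintype.card F - 1 by omega]
    obtain ⟨w₀, hw₀⟩ : ∃ w, (b : Matrix ι ι F) *ᵥ w ≠ 0 := by
      by_contra hall
      push Not at hall
      exact hb0 (Subtype.ext (Matrix.toLin'.injective (LinearMap.ext fun w => by
        simpa using hall w)))
    have hev : e *ᵥ v = 0 := by
      rw [he, show Fintype.card F - 1 = Fintype.card F - 2 + 1 by omega, pow_succ, ← Matrix.mulVec_mulVec, hbv,
        Matrix.mulVec_zero]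
    refine Nat.find_min hnat (m := Module.finrank F (LinearMap.ker (ev (v + e *ᵥ w₀)))) ?_ ⟨_, rfl⟩
    rw [← hv]
    refine Submodule.finrank_lt_finrank_of_lt (lt_of_le_of_ne (fun c hc' => ?_) fun heq => hw₀ ?_)
    · have hc0 : (c : Matrix ι ι F) *ᵥ (v + e *ᵥ w₀) = 0 := hc'
      have h1 := congrArg ((1 - e) *ᵥ ·) hc0
      simp only [Matrix.mulVec_mulVec, Matrix.mulVec_zero] at h1
      rw [hc _ (B.sub_mem B.one_mem heB) _ c.2, ← Matrix.mulVec_mulVec] at h1
      have h3 : (1 - e) *ᵥ (v + e *ᵥ w₀) = v := by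
        rw [Matrix.sub_mulVec, Matrix.one_mulVec, Matrix.mulVec_add, hev, Matrix.mulVec_mulVec, hee, zero_add,
          add_sub_cancel_right]
      rw [h3] at h1
      exact h1
    · have hmem : b ∈ LinearMap.ker (ev (v + e *ᵥ w₀)) := heq.symm ▸ hb
      have h1 : (b : Matrix ι ι F) *ᵥ (v + e *ᵥ w₀) = 0 := hmem
      rwa [Matrix.mulVec_add, hbv, zero_add, Matrix.mulVec_mulVec, hbe] at h1
  set U := LinearMap.range (ev v)
  have hU : Module.finrank F U = Module.finrank F B :=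
    LinearMap.finrank_range_of_inj (LinearMap.ker_eq_bot.1 hinj)
  have hsing : ∀ u ∈ U, ∀ w ∈ U, f u w = 0 := by
    rintro _ ⟨b, rfl⟩ _ ⟨c, rfl⟩
    show f ((b : Matrix ι ι F) *ᵥ v) ((c : Matrix ι ι F) *ᵥ v) = 0
    rw [hG.mulVec_left, hsa _ b.2, Matrix.mulVec_mulVec]
    have hd : adj σ₀ J ((b : Matrix ι ι F) * (c : Matrix ι ι F)) = (b : Matrix ι ι F) * (c : Matrix ι ι F) :=
      hsa _ (B.mul_mem b.2 c.2)
    have hsw : f (((b : Matrix ι ι F) * (c : Matrix ι ι F)) *ᵥ v) v = -1 * f v (((b : Matrix ι ι F) * (c : Matrix ι ι F)) *ᵥ v) :=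
      hG.swap v _
    rw [hG.mulVec_left, hd] at hsw
    exact (mul_eq_zero.1 (show (2 : F) * f v (((b : Matrix ι ι F) * (c : Matrix ι ι F)) *ᵥ v) = 0 by
      linear_combination hsw)).resolve_left h2
  have hR := hG.rform
  let Φ : U →ₗ[F] U.dualAnnihilator :=
    LinearMap.codRestrict _ (LinearMap.mk
      ⟨fun u => hR.left (u : ι → F), fun a b => LinearMap.ext fun x => hR.add_right x a b⟩
      fun c a => LinearMap.ext fun x => hR.smul_right c x a)
      fun u => (Submodule.mem_dualAnnihilator _).2 fun w hw => hsing w hw u u.2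
  have hΦ : Function.Injective Φ := (injective_iff_map_eq_zero Φ).2 fun u hu => Subtype.ext (hR.nondeg _ fun x =>
    LinearMap.congr_fun (congrArg Subtype.val hu) x)
  have h1 := LinearMap.finrank_le_finrank_of_injective hΦ
  have h3 := Subspace.finrank_add_finrank_dualAnnihilator_eq U
  rw [Module.finrank_fintype_fun_eq_card] at h3
  omega

variable {m : ℕ}

set_option maxHeartbeats 1000000 in
/-- A minimal normal subgroup abelian modulo scalars leads to the fifth or sixth class. -/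
theorem symp_abelian_cases (hm : 1 ≤ m) {H : Subgroup (GL (Fin m ⊕ Fin m) F)} (hH : H ≤ spGL m F)
    {N : Subgroup (GL (Fin m ⊕ Fin m) F)} (h : AbelianData (H ⊔ scalars (Fin m ⊕ Fin m) F) N) :
    (∃ (F₁ : Subfield F) (r : ℕ) (Q : GL (Fin m ⊕ Fin m) F) (z : F), r.Prime ∧
      Fintype.card F = Nat.card F₁ ^ r ∧ z ≠ 0 ∧ IsFormRationalStructure (sympForm m F) F₁ z Q ∧
      H ≤ subfieldSubgroup F₁ Q) ∨
    (∃ (R : Subgroup (GL (Fin m ⊕ Fin m) F)) (p k : ℕ), IsSymplecticTypeGroup 2 R ∧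
      ActsAbsolutelyIrreducibly (matrixSet R) ∧ R ≤ similarityGroup (sympForm m F) ∧ p.Prime ∧ Odd p ∧
      Fintype.card F = p ∧ Nat.card R = 2 ^ (1 + 2 * k) ∧ Nat.card (Subgroup.center R) = 2 ∧ IsOfMinusType k R ∧
      2 * m = 2 ^ k ∧ (∀ x ∈ R, ∀ y ∈ R, x * y * x⁻¹ * y⁻¹ ∈ scalars (Fin m ⊕ Fin m) F) ∧
      H ≤ subgroupNormalizer R) := by
  classical
  have hG := sympGeom m F
  set J := Jgl m F
  haveI : Nonempty (Fin m ⊕ Fin m) := ⟨Sum.inl ⟨0, hm⟩⟩
  set G := H ⊔ scalars (Fin m ⊕ Fin m) F with hGdef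
  have hGs : G ≤ similarityGroup (sympForm m F) :=
    sup_le (fun g hg => ⟨1, fun u v => by rw [Units.val_one, one_mul]; exact mem_spGL_iff.1 (hH hg) u v⟩) hG.scalars_le
  obtain ⟨r, ζ, hr, hpow, hζ, x₀, hx₀, y₀, hy₀, hxy⟩ := abelian_exponent h
  have hζζ : (ζ : F) * ζ = 1 := comm_scalar_iso hG hGs h hx₀ hy₀ hxy
  have hζ1 : ζ ≠ 1 := fun e => by rw [e, orderOf_one] at hζ; exact hr.ne_one hζ.symm
  obtain rfl : r = 2 := by
    have h1 : orderOf ζ ∣ 2 := orderOf_dvd_of_pow_eq_one (Units.ext (by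
      rw [Units.val_pow_eq_pow_val, sq, hζζ, Units.val_one]))
    rw [hζ] at h1
    exact (Nat.prime_two.eq_one_or_self_of_dvd r h1).resolve_left hr.ne_one
  have hm1 : (ζ : F) = -1 := (mul_self_eq_one_iff.1 hζζ).resolve_left fun e => hζ1 (Units.ext e)
  obtain ⟨p, F₀, ⟨-, -, h2⟩ | ⟨h2, hpP, hpodd, htop⟩⟩ := exists_primeField (F := F)
  · exact absurd (Units.ext (by rw [hm1, Units.val_one]; linear_combination -h2)) hζ1
  -- the isometries in `N`
  set R := N ⊓ spGL m F with hRdef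
  have hRN : R ≤ N := inf_le_left
  have hRsim : ∀ x ∈ R, IsSim σ₀ (J : Matrix (Fin m ⊕ Fin m) (Fin m ⊕ Fin m) F) ((x : GL (Fin m ⊕ Fin m) F) : Matrix (Fin m ⊕ Fin m) (Fin m ⊕ Fin m) F) 1 :=
    fun x hx => isSim_of_mem_spGL hx.2
  have hmemR : ∀ x ∈ N, IsSim σ₀ (J : Matrix (Fin m ⊕ Fin m) (Fin m ⊕ Fin m) F) ((x : GL (Fin m ⊕ Fin m) F) : Matrix (Fin m ⊕ Fin m) (Fin m ⊕ Fin m) F) 1 → x ∈ R :=
    fun x hx hs => ⟨hx, mem_spGL_iff.2 fun u v => by
      rw [(hG.isSim_iff _ _).1 hs, one_mul]⟩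
  have hscR : ∀ c : Fˣ, sc c ∈ R ↔ c ^ 2 = 1 := fun c => by
    refine ⟨fun hc => Units.ext ?_, fun hc => hmemR _ (h.scal (sc_mem c)) ?_⟩
    · rw [Units.val_pow_eq_pow_val, sq, Units.val_one]
      exact isSim_unique (isSim_sc σ₀ J c) (hRsim _ hc)
    · have h1 := isSim_sc σ₀ J c
      rwa [RingEquiv.refl_apply, ← sq, ← Units.val_pow_eq_pow_val, hc, Units.val_one] at h1
  have hnorm : ∀ g ∈ G, ∀ x ∈ R, g * x * g⁻¹ ∈ R := fun g hg x hx => by
    obtain ⟨c, hc⟩ := (hG.mem_similarity_iff g).1 (hGs hg)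
    obtain ⟨c', hc'⟩ := (hG.mem_similarity_iff g⁻¹).1 (hGs (G.inv_mem hg))
    exact hmemR _ (h.normal g hg x hx.1) (sim_conj hc hc' (hRsim x hx))
  have hscale : ∀ x ∈ N, ∀ μ : F, IsSim σ₀ (J : Matrix (Fin m ⊕ Fin m) (Fin m ⊕ Fin m) F) ((x : GL (Fin m ⊕ Fin m) F) : Matrix (Fin m ⊕ Fin m) (Fin m ⊕ Fin m) F) μ →
      ∀ b : Fˣ, (b : F) * b = μ → sc b⁻¹ * x ∈ R := fun x hx μ hμ b hb => by
    refine hmemR _ (N.mul_mem (h.scal (sc_mem _)) hx) ?_
    have h1 := isSim_smul hμ (((b⁻¹ : Fˣ)) : F)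
    rw [← sc_mul_val, RingEquiv.refl_apply] at h1
    rwa [show ((b⁻¹ : Fˣ) : F) * ((b⁻¹ : Fˣ) : F) * μ = 1 by
      rw [← hb, ← Units.val_mul, ← Units.val_mul, ← Units.val_mul, show b⁻¹ * b⁻¹ * (b * b) = 1 by group,
        Units.val_one]] at h1
  have hlift : ∀ x ∈ N, ∃ c : Fˣ, sc c * x ∈ R := by
    by_contra hno
    push Not at hno
    obtain ⟨x, hx, hxno⟩ := hno
    rcases h.min (R ⊔ scalars (Fin m ⊕ Fin m) F) le_sup_right (sup_le hRN h.scal) (fun g hg a ha => by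
      obtain ⟨y, hy, s, hs, rfl⟩ := Subgroup.mem_sup_of_normal_right.1 ha
      obtain ⟨c, rfl⟩ := exists_sc hs
      rw [show g * (y * sc c) * g⁻¹ = (g * y * g⁻¹) * sc c by rw [mul_assoc g, mul_assoc y, sc_comm c g⁻¹]; group]
      exact Subgroup.mul_mem _ (Subgroup.mem_sup_left (hnorm g hg y hy)) (Subgroup.mem_sup_right (sc_mem c))) with hS | hS
    · -- all isometries in `N` are scalars: then all multipliers of non-scalars are non-squares
      have hns : ∀ y ∈ N, y ∉ scalars (Fin m ⊕ Fin m) F →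
          ∀ μ, IsSim σ₀ (J : Matrix (Fin m ⊕ Fin m) (Fin m ⊕ Fin m) F) ((y : GL (Fin m ⊕ Fin m) F) : Matrix (Fin m ⊕ Fin m) (Fin m ⊕ Fin m) F) μ → ∀ b : Fˣ, (b : F) * b ≠ μ := by
        intro y hy hys μ hμ b hb
        apply hys
        have h1 : sc b⁻¹ * y ∈ scalars (Fin m ⊕ Fin m) F :=
          hS ▸ Subgroup.mem_sup_left (hscale y hy μ hμ b hb)
        have h3 := Subgroup.mul_mem _ (sc_mem b) h1
        rwa [← mul_assoc, ← sc_mul, mul_inv_cancel, sc_one, one_mul] at h3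
      have hx0 : x₀ ∉ scalars (Fin m ⊕ Fin m) F := fun hs => hζ1 (sc_inj (ι := Fin m ⊕ Fin m) (by
        obtain ⟨c, rfl⟩ := exists_sc hs
        rw [← sc_comm c y₀] at hxy
        rw [sc_one]
        exact mul_eq_right.1 hxy.symm))
      have hy0 : y₀ ∉ scalars (Fin m ⊕ Fin m) F := fun hs => hζ1 (sc_inj (ι := Fin m ⊕ Fin m) (by
        obtain ⟨c, rfl⟩ := exists_sc hs
        rw [sc_comm c x₀] at hxy
        rw [sc_one]
        exact mul_eq_right.1 hxy.symm))
      have hxy0 : x₀ * y₀ ∉ scalars (Fin m ⊕ Fin m) F := fun hs => by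
        obtain ⟨c, hc⟩ := exists_sc hs
        apply hζ1
        refine sc_inj (ι := Fin m ⊕ Fin m) ?_
        have h1 : y₀ = x₀⁻¹ * sc c := by rw [hc]; group
        rw [h1, ← mul_assoc x₀, mul_inv_cancel, one_mul, mul_assoc, sc_comm c x₀, ← mul_assoc, inv_mul_cancel, one_mul] at hxy
        rw [sc_one]
        exact mul_eq_right.1 hxy.symm
      obtain ⟨a, ha⟩ := (hG.mem_similarity_iff x₀).1 (hGs (h.le hx₀))
      obtain ⟨b, hb⟩ := (hG.mem_similarity_iff y₀).1 (hGs (h.le hy₀))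
      have ha0 := isSim_ne_zero ha
      have hb0 := isSim_ne_zero hb
      obtain ⟨j, c, hc⟩ := solve_pow Nat.prime_two (μ := Units.mk0 a ha0)
        (fun c e => hns x₀ hx₀ hx0 a ha c (by rw [← sq, ← Units.val_pow_eq_pow_val, e, Units.val_mk0]))
        (Units.mk0 b hb0)
      have hc' : (c : F) * c = b * a ^ j := by
        rw [← sq, ← Units.val_pow_eq_pow_val, hc, Units.val_mul, Units.val_pow_eq_pow_val, Units.val_mk0, Units.val_mk0]
      rcases Nat.even_or_odd' j with ⟨i, rfl | rfl⟩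
      · refine hns y₀ hy₀ hy0 b hb (c * (Units.mk0 a ha0 ^ i)⁻¹) ?_
        rw [Units.val_mul, Units.val_inv_eq_inv_val, Units.val_pow_eq_pow_val, Units.val_mk0]
        field_simp
        rw [sq, hc']; ring
      · refine hns (x₀ * y₀) (N.mul_mem hx₀ hy₀) hxy0 (a * b) (by rw [Units.val_mul]; exact isSim_mul ha hb)
          (c * (Units.mk0 a ha0 ^ i)⁻¹) ?_
        rw [Units.val_mul, Units.val_inv_eq_inv_val, Units.val_pow_eq_pow_val, Units.val_mk0]
        field_simp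
        rw [sq, hc']; ring
    · obtain ⟨y, hy, s, hs, rfl⟩ := Subgroup.mem_sup_of_normal_right.1 (hS.symm ▸ hx)
      obtain ⟨c, rfl⟩ := exists_sc hs
      exact hxno c⁻¹ (by rw [← sc_comm c y, ← mul_assoc, ← sc_mul, inv_mul_cancel, sc_one, one_mul]; exact hy)
  obtain ⟨κ, _, t, b, htR, hb, hcov, hdist, hcard, e, he⟩ := h.exists_basis Nat.prime_two hpow hRN hlift
  obtain ⟨hcov', hcR, hcZ⟩ := card_lift h hζ hRN hscR htR hcov hdist
  have habs := absIrred_lift h hlift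
  by_cases hF₀ : F₀ = ⊤
  swap
  · have hreal : RealisableOver F₀ (matrixSet R) := by
      refine realisable_of_basis habs t ?_ hcard (fun x hx => ?_) htR
      · have := b.linearIndependent
        rwa [show ⇑b = fun k => (t k : Matrix (Fin m ⊕ Fin m) (Fin m ⊕ Fin m) F) from funext hb] at this
      · obtain ⟨k, c, hc, rfl⟩ := hcov' x hx
        have hcm : (c : F) ∈ F₀ := by
          rcases mul_self_eq_one_iff.1 (show (c : F) * c = 1 by
            rw [← sq, ← Units.val_pow_eq_pow_val, hc, Units.val_one]) with e | e <;> rw [e]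
          exacts [F₀.one_mem, F₀.neg_mem F₀.one_mem]
        refine ⟨k, ⟨(c : F), hcm⟩, ?_⟩
        exact sc_mul_val c _
    obtain ⟨F₁, r, Q, z, hr', hcardF, hz, hle, hrat, -⟩ :=
      subfield_data habs hnorm σ₀ J hF₀ hreal fun x hx => ⟨1, F₀.one_mem, hRsim x hx⟩
    exact Or.inl ⟨F₁, r, Q, z, hr', by rw [← Nat.card_eq_fintype_card]; exact hcardF, hz, formRational_of_rat hG hrat,
      le_sup_left.trans hle⟩
  have hq : Fintype.card F = p := htop hF₀
  obtain ⟨k, hn, hκ⟩ := exists_degree Nat.prime_two he hcard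
  have hn' : 2 * m = 2 ^ k := by rw [← hn]; simp; ring
  have hsq : ∀ x ∈ R, x ^ 4 = 1 := fun x hx => by
    obtain ⟨c, hc⟩ := exists_sc (hpow x hx.1)
    have h1 : c ^ 2 = 1 := (hscR c).1 (hc ▸ R.pow_mem hx 2)
    rw [show 4 = 2 * 2 from rfl, pow_mul, ← hc, ← sc_pow, h1, sc_one]
  have hexp : 4 ∣ Monoid.exponent R := by
    obtain ⟨c, hcx⟩ := hlift x₀ hx₀
    obtain ⟨d, hdy⟩ := hlift y₀ hy₀
    have hnc : (sc c * x₀) * (sc d * y₀) ≠ (sc d * y₀) * (sc c * x₀) := fun e => hζ1 (sc_inj (ι := Fin m ⊕ Fin m) (by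
      have e1 : sc (c * d) * (x₀ * y₀) = sc (c * d) * (sc ζ * (x₀ * y₀)) := by
        rw [← hxy]
        calc sc (c * d) * (x₀ * y₀) = sc c * x₀ * (sc d * y₀) := by
              rw [sc_mul, mul_assoc (sc c) x₀, ← mul_assoc x₀, ← sc_comm d x₀]; group
          _ = sc d * y₀ * (sc c * x₀) := e
          _ = sc (c * d) * (y₀ * x₀) := by
              rw [mul_comm c, sc_mul, mul_assoc (sc d) y₀, ← mul_assoc y₀, ← sc_comm c y₀]; group
      have e2 := mul_left_cancel e1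
      rw [sc_one]
      exact (mul_eq_right.1 e2.symm)))
    have hsome : ∃ z : R, (z : GL (Fin m ⊕ Fin m) F) ^ 2 ≠ 1 := by
      by_contra hall
      push Not at hall
      apply hnc
      set u := sc c * x₀
      set w := sc d * y₀
      have hu := hall ⟨u, hcx⟩
      have hw := hall ⟨w, hdy⟩
      have huw := hall ⟨u * w, R.mul_mem hcx hdy⟩
      simp only [sq] at hu hw huw
      have e1 : u⁻¹ = u := inv_eq_of_mul_eq_one_right hu
      have e2 : w⁻¹ = w := inv_eq_of_mul_eq_one_right hw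
      have e3 : (u * w)⁻¹ = u * w := inv_eq_of_mul_eq_one_right huw
      calc u * w = (u * w)⁻¹ := e3.symm
        _ = w * u := by rw [mul_inv_rev, e1, e2]
    obtain ⟨z, hz⟩ := hsome
    have h1 : orderOf z = 4 := by
      haveI : Fact (Nat.Prime 2) := ⟨Nat.prime_two⟩
      refine orderOf_eq_prime_pow (p := 2) (n := 1) ?_ ?_
      · intro e'; exact hz (congrArg Subtype.val e')
      · exact Subtype.ext (hsq _ z.2)
    exact h1 ▸ Monoid.order_dvd_exponent z
  refine Or.inr ⟨R, p, k,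
    symplecticType_lift h Nat.prime_two rfl hRN hsq hexp hnorm hlift, habs,
    fun x hx => (hG.mem_similarity_iff x).2 ⟨1, hRsim x hx⟩, hpP, hpodd, hq,
    by rw [hcR, hκ, pow_add, pow_one], hcZ, ?_, hn',
    fun x hx y hy => h.comm x (hRN hx) y (hRN hy), fun g hg => ?_⟩
  swap
  · exact Subgroup.mem_normalizer_iff.2 fun x => ⟨hnorm g (Subgroup.mem_sup_left hg) x,
      fun hx => by simpa [mul_assoc] using hnorm g⁻¹ (Subgroup.mem_sup_left (H.inv_mem hg)) _ hx⟩
  intro A hA hA2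
  by_contra hcardA
  push Not at hcardA
  -- the algebra spanned by `A`
  let SA : Set (Matrix (Fin m ⊕ Fin m) (Fin m ⊕ Fin m) F) :=
    (fun a : A => (((a : R) : GL (Fin m ⊕ Fin m) F) : Matrix (Fin m ⊕ Fin m) (Fin m ⊕ Fin m) F)) '' Set.univ
  set B := Algebra.adjoin F SA
  have hcommA : ∀ a c : A, ((a : R) : GL (Fin m ⊕ Fin m) F) * (c : R) = (c : R) * (a : R) := fun a c =>
    congrArg (fun x : A => ((x : R) : GL (Fin m ⊕ Fin m) F)) (hA.is_comm.comm a c)
  have hc : ∀ x ∈ B, ∀ y ∈ B, x * y = y * x := fun x hx y hy => by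
    have h1 : B ≤ cent SA := Algebra.adjoin_le (by
      rintro _ ⟨a, -, rfl⟩
      exact mem_cent.2 (by rintro _ ⟨c, -, rfl⟩; exact congrArg Units.val (hcommA c a)))
    have h3 : B ≤ cent {x} := Algebra.adjoin_le (by
      intro s hs
      exact mem_cent.2 (by rintro _ rfl; exact ((mem_cent.1 (h1 hx)) s hs).symm))
    exact (mem_cent.1 (h3 hy)) x rfl
  have hAsq : ∀ a : A, ((a : R) : GL (Fin m ⊕ Fin m) F) * (a : R) = 1 := fun a =>
    congrArg Subtype.val (hA2 a a.2)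
  have hAinv : ∀ a : A, ((a : R) : GL (Fin m ⊕ Fin m) F)⁻¹ = (a : R) := fun a =>
    inv_eq_of_mul_eq_one_right (hAsq a)
  have hsa : ∀ x ∈ B, adj σ₀ J x = x := by
    intro x hx
    induction hx using Algebra.adjoin_induction with
    | mem x hx =>
      obtain ⟨a, -, rfl⟩ := hx
      rw [adj_sim (hRsim _ (a : R).2), hAinv, map_one, one_smul]
    | algebraMap c => rw [adj_algebraMap]; rfl
    | add x y _ _ hx hy => rw [adj_add, hx, hy]
    | mul x y hxB hyB hx hy => rw [adj_mul, hx, hy, hc y hyB x hxB]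
  have hfr : ∀ x ∈ B, x ^ Fintype.card F = x := fun x hx => by
    have hle : B ≤ frobFix B hc 1 := Algebra.adjoin_le (by
      rintro _ ⟨a, -, rfl⟩
      refine mem_frobFix.2 ⟨Algebra.subset_adjoin ⟨a, trivial, rfl⟩, ?_⟩
      obtain ⟨i, hi⟩ := hq ▸ hpodd
      rw [pow_one, hi, pow_succ, pow_mul, ← Units.val_pow_eq_pow_val, sq, hAsq, Units.val_one, one_pow, one_mul])
    simpa using (mem_frobFix.1 (hle hx)).2
  have hbound := selfAdjoint_bound h2 hG hc hsa hfr
  -- independent elements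
  have hcovA : ∀ a : A, ∃ j, ∃ c : Fˣ, c ^ 2 = 1 ∧ ((a : R) : GL (Fin m ⊕ Fin m) F) = sc c * t j :=
    fun a => hcov' _ (a : R).2
  choose j c hcsq hjc using hcovA
  let T := Finset.univ.image j
  have hmul : Fintype.card A ≤ 2 * T.card := by
    refine Finset.card_le_mul_card_image Finset.univ 2 fun i _ => ?_
    refine (Finset.card_le_card_of_injOn c (t := (Finset.univ.filter fun u : Fˣ => u ^ 2 = 1))
      (fun a _ => by simp [hcsq a]) fun a ha a' ha' e => ?_).trans ?_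
    · simp only [Finset.coe_filter, Finset.mem_univ, true_and, Set.mem_ofPred_eq] at ha ha'
      exact Subtype.ext (Subtype.ext (by rw [hjc a, hjc a', e, ha, ha']))
    · have h3 := natCard_roots (F := F) hζ
      rw [Nat.card_eq_fintype_card, Fintype.card_subtype] at h3
      exact h3.le
  have hmemB : ∀ i ∈ T, (t i : Matrix (Fin m ⊕ Fin m) (Fin m ⊕ Fin m) F) ∈ B := by
    intro i hi
    obtain ⟨a, -, rfl⟩ := Finset.mem_image.1 hi
    rw [show t (j a) = sc (c a)⁻¹ * ((a : R) : GL (Fin m ⊕ Fin m) F) by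
      rw [hjc a, ← mul_assoc, ← sc_mul, inv_mul_cancel, sc_one, one_mul], sc_mul_val]
    exact B.smul_mem (Algebra.subset_adjoin ⟨a, trivial, rfl⟩) _
  have hli : LinearIndependent F fun i : T => (⟨_, hmemB i i.2⟩ : B) := by
    refine LinearIndependent.of_comp B.val.toLinearMap ?_
    have h1 := b.linearIndependent.comp (fun i : T => (i : κ)) Subtype.val_injective
    rwa [show ⇑b ∘ (fun i : T => (i : κ)) = fun i : T => (t i : Matrix (Fin m ⊕ Fin m) (Fin m ⊕ Fin m) F) from funext fun i => hb i] at h1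
  have hT := hli.fintype_card_le_finrank
  rw [Fintype.card_coe] at hT
  rw [Nat.card_eq_fintype_card, pow_succ] at hcardA
  rw [hn] at hbound
  have hpos : 0 < 2 ^ k := pow_pos two_pos k
  omega

/-- A minimal normal subgroup abelian modulo scalars leads to a member. -/
theorem symp_abelian (hm : 1 ≤ m) {H : Subgroup (GL (Fin m ⊕ Fin m) F)} (hH : H ≤ spGL m F)
    {N : Subgroup (GL (Fin m ⊕ Fin m) F)} (h : AbelianData (H ⊔ scalars (Fin m ⊕ Fin m) F) N) : SympOver m H := by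
  rcases symp_abelian_cases hm hH h with ⟨F₁, r, Q, z, a, b, c, d, hle⟩ |
    ⟨R, p, k, a, b, c, d, e, f, g, i, j, l, o, hle⟩
  · exact ⟨_, Or.inr (Or.inr (Or.inr (Or.inr (Or.inl ⟨F₁, r, Q, z, a, b, c, d, rfl⟩)))), hle⟩
  · exact ⟨_, Or.inr (Or.inr (Or.inr (Or.inr (Or.inr (Or.inl ⟨R, p, k, a, b, c, d, e, f, g, i, j, rfl, l, o⟩))))),
      hle⟩

end CfsgLib.AschbacherForm
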