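import Cfsg.Agent.Lib.AschbacherForm.SympBase
import Cfsg.Agent.Lib.AschbacherForm.Kron

/-!
Quadratic forms from alternating tensor products in characteristic two.
-/

set_option autoImplicit false
set_option linter.unusedSectionVars false

namespace CfsgLib.AschbacherForm

open Cfsg Cfsg.Geo CfsgLib.Aschbacher
open scoped Matrix MatrixGroups Kronecker

universe u
variable {F : Type u} [Field F]
variable {α β : Type} [Fintype α] [DecidableEq α] [LinearOrder α] [Fintype β] [DecidableEq β]

/-- Half of an alternating tensor product. -/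
def halfForm (M : Matrix (α × β) (α × β) F) (v : α × β → F) : F :=
  ∑ x, ∑ y, if x.1 < y.1 then v x * v y * M x y else 0

theorem halfForm_smul (M : Matrix (α × β) (α × β) F) (c : F) (v : α × β → F) :
    halfForm M (c • v) = c ^ 2 * halfForm M v := by
  simp only [halfForm, Finset.mul_sum, Pi.smul_apply, smul_eq_mul]
  refine Finset.sum_congr rfl fun x _ => Finset.sum_congr rfl fun y _ => ?_
  split_ifs <;> ring

theorem halfForm_polar (M : Matrix (α × β) (α × β) F) (hs : Mᵀ = M)
    (hd : ∀ x y : α × β, x.1 = y.1 → M x y = 0) (u v : α × β → F) :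
    halfForm M (u + v) - halfForm M u - halfForm M v = formOfGram (RingEquiv.refl F) M u v := by
  have h1 : halfForm M (u + v) - halfForm M u - halfForm M v =
      ∑ x, ∑ y, ((if x.1 < y.1 then u x * v y * M x y else 0) + if x.1 < y.1 then u y * v x * M x y else 0) := by
    simp only [halfForm, ← Finset.sum_sub_distrib]
    refine Finset.sum_congr rfl fun x _ => Finset.sum_congr rfl fun y _ => ?_
    split_ifs
    · simp only [Pi.add_apply]; ring
    · ring
  rw [h1]
  simp only [Finset.sum_add_distrib]
  rw [Finset.sum_comm (f := fun x y => if x.1 < y.1 then u y * v x * M x y else 0)]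
  simp only [← Finset.sum_add_distrib, formOfGram, RingEquiv.refl_apply]
  refine Finset.sum_congr rfl fun x _ => Finset.sum_congr rfl fun y _ => ?_
  have hsy : M y x = M x y := congrFun (congrFun hs x) y
  rcases lt_trichotomy x.1 y.1 with h | h | h
  · rw [if_pos h, if_neg (lt_asymm h)]; ring
  · rw [hsy, hd x y h]; simp
  · rw [if_pos h, if_neg (lt_asymm h), hsy]; ring

theorem halfForm_pure (S : Matrix α α F) (T : Matrix β β F) (a : α → F) (b : β → F)
    (hT : formOfGram (RingEquiv.refl F) T b b = 0) :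
    halfForm (S ⊗ₖ T) (fun x => a x.1 * b x.2) = 0 := by
  simp only [halfForm, Fintype.sum_prod_type]
  refine Finset.sum_eq_zero fun i _ => ?_
  rw [Finset.sum_comm]
  refine Finset.sum_eq_zero fun i' _ => ?_
  by_cases h : i < i'
  · simp only [if_pos h, Matrix.kronecker_apply]
    simp only [formOfGram, RingEquiv.refl_apply] at hT
    calc _ = a i * a i' * S i i' * ∑ j, ∑ j', b j * T j j' * b j' := by
          simp only [Finset.mul_sum]
          exact Finset.sum_congr rfl fun j _ => Finset.sum_congr rfl fun j' _ => by ring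
      _ = 0 := by rw [hT, mul_zero]
  · simp [if_neg h]

variable [Fintype F] {m : ℕ}

/-- In characteristic two an alternating tensor product fixed with pure columns gives the eighth class. -/
theorem sympOver_of_pairs (h2 : (2 : F) = 0) {H : Subgroup (GL (Fin m ⊕ Fin m) F)} (hH : H ≤ spGL m F)
    (e : (Fin m ⊕ Fin m) ≃ α × β) (P : GL (Fin m ⊕ Fin m) F) (S : Matrix α α F) (T : GL β F)
    (hJ : (coordJ (RingEquiv.refl F) e P (Jgl m F) : Matrix (α × β) (α × β) F) = S ⊗ₖ (T : Matrix β β F))
    (hS : ∀ i, S i i = 0) (hT : ∀ j, (T : Matrix β β F) j j = 0) (hTs : (T : Matrix β β F)ᵀ = (T : Matrix β β F))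
    (hcol : ∀ g ∈ H, ∀ y : α × β, ∃ (a : α → F) (b : β → F),
      ∀ x, coordR e P (g : Matrix (Fin m ⊕ Fin m) (Fin m ⊕ Fin m) F) x y = a x.1 * b x.2) :
    SympOver m H := by
  classical
  set σ := RingEquiv.refl F
  have hG := sympGeom m F
  set M := (coordJ σ e P (Jgl m F) : Matrix (α × β) (α × β) F) with hM
  have hneg : ∀ (c : F), -c = c := fun c => by rw [neg_eq_iff_add_eq_zero, ← two_mul, h2, zero_mul]
  have hMs : Mᵀ = M := by
    have h1 : (M.map id)ᵀ = (-1 : F) • M := coord_symm hG e P
    rw [Matrix.map_id] at h1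
    rw [h1, hneg, one_smul]
  have hMd : ∀ x y : α × β, x.1 = y.1 → M x y = 0 := fun x y h => by
    rw [hJ, Matrix.kronecker_apply, h, hS, zero_mul]
  have hTalt := (symplectic_of_gram T.isUnit (by rw [hTs]; ext i j; rw [Matrix.neg_apply, hneg]) hT).alternating
  let Lm : (Fin m ⊕ Fin m → F) → α × β → F := fun v =>
    ((↑P⁻¹ : Matrix (Fin m ⊕ Fin m) (Fin m ⊕ Fin m) F) *ᵥ v) ∘ e.symm
  let Q : (Fin m ⊕ Fin m → F) → F := fun v => halfForm M (Lm v)
  have hLadd : ∀ u v, Lm (u + v) = Lm u + Lm v := fun u v => by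
    funext x; simp [Lm, Matrix.mulVec_add]
  have hLsmul : ∀ (c : F) v, Lm (c • v) = c • Lm v := fun c v => by
    funext x; simp [Lm, Matrix.mulVec_smul]
  have hp : ∀ u v, QuadraticMap.polar Q u v = sympForm m F u v := fun u v => by
    simp only [QuadraticMap.polar, Q, hLadd, halfForm_polar M hMs hMd]
    rw [hM, ← coord_form hG e P]
    simp [Lm, Function.comp_assoc, Matrix.mulVec_mulVec]
  refine sympOver_quad h2 (nondeg_quad_of_polar (sympForm_symplectic m F) (fun c v => by
    simp only [Q, hLsmul, halfForm_smul]) hp) hp fun g hg => ⟨1, fun v => ?_⟩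
  set g' := coordR e P (g : Matrix (Fin m ⊕ Fin m) (Fin m ⊕ Fin m) F) with hg'
  have hLg : Lm ((g : Matrix (Fin m ⊕ Fin m) (Fin m ⊕ Fin m) F) *ᵥ v) = g' *ᵥ Lm v := by
    rw [hg', coordR_apply, Matrix.submatrix_mulVec_equiv]
    simp [Lm, Matrix.mulVec_mulVec, mul_assoc, Function.comp_assoc]
  have hsim : IsSim σ M g' 1 := coord_sim σ e P (Jgl m F) g 1 (isSim_of_mem_spGL (hH hg))
  let D : (α × β → F) → F := fun w => halfForm M (g' *ᵥ w) - halfForm M w
  have hD : ∀ u w, D (u + w) = D u + D w := fun u w => by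
    have e1 := halfForm_polar M hMs hMd (g' *ᵥ u) (g' *ᵥ w)
    have e2 := halfForm_polar M hMs hMd u w
    have e3 : formOfGram σ M (g' *ᵥ u) (g' *ᵥ w) = formOfGram σ M u w := by
      rw [formOfGram_mulVec, hsim, one_smul]
    simp only [D, Matrix.mulVec_add]
    linear_combination e1 - e2 + e3
  have hDs : ∀ (c : F) w, D (c • w) = c ^ 2 * D w := fun c w => by
    simp only [D, Matrix.mulVec_smul, halfForm_smul]; ring
  have hD0 : ∀ w, D w = 0 := fun w => by
    have hsum : ∀ (s : Finset (α × β)), D (∑ y ∈ s, w y • Pi.single y 1) = 0 := by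
      intro s
      induction s using Finset.induction_on with
      | empty =>
        have h0 := hDs 0 0
        simpa using h0
      | insert y s hy ih =>
        rw [Finset.sum_insert hy, hD, ih, hDs, add_zero]
        suffices hy0 : D (Pi.single y 1) = 0 by rw [hy0, mul_zero]
        obtain ⟨a, b, hab⟩ := hcol g hg y
        simp only [D]
        rw [show g' *ᵥ Pi.single y 1 = fun x => a x.1 * b x.2 by
            funext x; simp [← hab x, hg'],
          show (Pi.single y 1 : α × β → F) = fun x => (Pi.single y.1 1 : α → F) x.1 * (Pi.single y.2 1 : β → F) x.2 by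
            funext x
            rcases x with ⟨i, j⟩; rcases y with ⟨i', j'⟩
            by_cases h1 : i = i' <;> by_cases h3 : j = j' <;> simp [h1, h3],
          hJ, halfForm_pure S _ a b (hTalt b), halfForm_pure S _ _ _ (hTalt _), sub_zero]
    rw [pi_eq_sum_univ' w]
    exact hsum Finset.univ
  show halfForm M (Lm _) = ((1 : Fˣ) : F) * halfForm M (Lm v)
  rw [hLg, Units.val_one, one_mul]
  exact sub_eq_zero.1 (hD0 (Lm v))

end CfsgLib.AschbacherForm
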