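import Cfsg.Agent.Lib.AschbacherForm.Tensor
import Cfsg.Agent.Lib.AschbacherForm.Skeleton

/-!
Tensor powers of forms from transitively permuted matrix subalgebras.
-/

set_option autoImplicit false
set_option linter.unusedSectionVars false

namespace CfsgLib.AschbacherForm

open Cfsg Cfsg.Geo CfsgLib.Aschbacher
open scoped Matrix MatrixGroups Kronecker

universe u
variable {ι : Type} [Fintype ι] [DecidableEq ι] {F : Type u} [Field F] [Fintype F] {d s : ℕ}

theorem slot_transpose (i : Fin s) (a : Matrix (Fin d) (Fin d) F) : (slot i a)ᵀ = slot i aᵀ := by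
  ext x y
  simp only [slot, Matrix.transpose_apply, Matrix.of_apply]
  exact if_congr (forall₂_congr fun j _ => eq_comm) rfl rfl

theorem slot_map (σ : F ≃+* F) (i : Fin s) (a : Matrix (Fin d) (Fin d) F) :
    (slot i a).map σ = slot i (a.map σ) := by
  ext x y
  simp only [slot, Matrix.map_apply, Matrix.of_apply]
  split_ifs <;> simp

theorem pure'_transpose (a : Fin s → Matrix (Fin d) (Fin d) F) : (pure' a)ᵀ = pure' fun i => (a i)ᵀ := rfl

theorem pure'_map (σ : F ≃+* F) (a : Fin s → Matrix (Fin d) (Fin d) F) :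
    (pure' a).map σ = pure' fun i => (a i).map σ := by
  ext x y
  simp [pure', map_prod]

theorem perm_sim_pure (π : Equiv.Perm (Fin s)) (a : Fin s → Matrix (Fin d) (Fin d) F) :
    ((permGL π : GL (Fin s → Fin d) F) : Matrix (Fin s → Fin d) (Fin s → Fin d) F)ᵀ * pure' a *
      ((permGL π : GL (Fin s → Fin d) F) : Matrix (Fin s → Fin d) (Fin s → Fin d) F) = pure' fun i => a (π i) := by
  ext x y
  rw [Matrix.mul_apply, Finset.sum_eq_single (y ∘ π.symm), Matrix.mul_apply, Finset.sum_eq_single (x ∘ π.symm)]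
  · simp only [permGL, pure', Matrix.transpose_apply, Matrix.of_apply, Function.comp_assoc,
      Equiv.symm_comp_self, Function.comp_id, if_true, one_mul, mul_one, Function.comp_apply]
    rw [← Equiv.prod_comp π]
    simp
  · intro z _ hz
    simp only [permGL, Matrix.transpose_apply, Matrix.of_apply]
    rw [if_neg (fun e' => hz (by rw [e']; simp [Function.comp_assoc])), zero_mul]
  · simp
  · intro z _ hz
    simp only [permGL, Matrix.of_apply]
    rw [if_neg (fun e' => hz (by rw [e']; simp [Function.comp_assoc])), mul_zero]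
  · simp

theorem perm_map (σ : F ≃+* F) (π : Equiv.Perm (Fin s)) :
    ((permGL π : GL (Fin s → Fin d) F) : Matrix (Fin s → Fin d) (Fin s → Fin d) F).map σ =
      ((permGL π : GL (Fin s → Fin d) F) : Matrix (Fin s → Fin d) (Fin s → Fin d) F) := by
  ext x y
  simp only [permGL, Matrix.map_apply, Matrix.of_apply]
  split_ifs <;> simp

theorem permGL_one : (permGL (1 : Equiv.Perm (Fin s)) : GL (Fin s → Fin d) F) = 1 := by
  refine Units.ext (Matrix.ext fun x y => ?_)
  simp [permGL, Matrix.one_apply, eq_comm]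

theorem pureGL_inv (A : Fin s → GL (Fin d) F) : (pureGL A)⁻¹ = pureGL fun i => (A i)⁻¹ :=
  inv_eq_of_mul_eq_one_right (Units.ext ((pure'_mul _ _).trans (by simpa using pure'_one)))

theorem slot_disjoint (hd : 2 ≤ d) {i j : Fin s} (h : ∀ a, ∃ a', slot (F := F) (d := d) i a = slot j a') : i = j := by
  classical
  by_contra hne
  haveI : Nonempty (Fin d) := ⟨⟨0, by omega⟩⟩
  let p : Fin d := ⟨0, by omega⟩
  let q : Fin d := ⟨1, by omega⟩
  obtain ⟨a', ha'⟩ := h (Matrix.single p q 1)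
  let x : Fin s → Fin d := fun _ => p
  have h1 := congrFun (congrFun ha' x) (Function.update x i q)
  have e1 := slot_apply_self i (Matrix.single p q (1 : F)) x p q
  rw [Function.update_eq_self_iff.2 rfl, Matrix.single_apply_same] at e1
  rw [e1] at h1
  simp only [slot, Matrix.of_apply] at h1
  rw [if_neg] at h1
  · exact one_ne_zero h1
  · intro hall
    have := hall i hne
    simp [x, p, q] at this

/-- Matrix subalgebras in standard position. -/
def InSlots (e : ι ≃ (Fin s → Fin d)) (P : GL ι F) (φ : Fin s → (Matrix (Fin d) (Fin d) F →ₐ[F] Matrix ι ι F)) : Prop :=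
  ∀ i a, coordR e P (φ i a) = slot i a

theorem exists_slots {G : Subgroup (GL ι F)} {φ : Fin s → (Matrix (Fin d) (Fin d) F →ₐ[F] Matrix ι ι F)}
    (hι : 2 ≤ Fintype.card ι) (h : Factors G φ) : ∃ (e : ι ≃ (Fin s → Fin d)) (P : GL ι F), InSlots e P φ := by
  classical
  haveI : Nonempty ι := Fintype.card_pos_iff.1 (by omega)
  haveI : Nonempty (Fin d) := ⟨⟨0, by have := h.two_le_dim; omega⟩⟩
  have hc := h.comm
  obtain ⟨k, b, P, hP⟩ := (prodUnits_units φ hc).exists_basis
  let E : Matrix (Fin s → Fin d) (Fin s → Fin d) F →ₐ[F] Matrix ι ι F :=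
    AlgHom.ofLinearMap (ext' (prodUnits φ)) (by
      show ∑ x, ∑ y, (1 : Matrix (Fin s → Fin d) (Fin s → Fin d) F) x y • prodUnits φ x y = 1
      conv_rhs => rw [← (prodUnits_units φ hc).sum]
      refine Finset.sum_congr rfl fun x _ => ?_
      rw [Finset.sum_eq_single x]
      · simp
      · intro y _ hy; simp [Matrix.one_apply, Ne.symm hy]
      · simp)
      (fun A B => by rw [hP, hP, hP, ← map_mul, Matrix.submatrix_mul_equiv, ← Matrix.mul_kronecker_mul, mul_one])
  have hEtop : E.range = ⊤ := eq_top_iff.2 (h.gen ▸ iSup_le fun i => by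
    rintro _ ⟨a, rfl⟩
    exact ⟨slot i a, (factor_eq φ hc i a).symm⟩)
  have hcard : Fintype.card ι = d ^ s * k := by simpa using card_eq_of_equiv b
  have hk : k = 1 := by
    have h1 : Fintype.card ι * Fintype.card ι ≤ d ^ s * d ^ s := by
      have h := LinearMap.finrank_range_le E.toLinearMap
      rw [show LinearMap.range E.toLinearMap = ⊤ from by
        rw [← Algebra.top_toSubmodule, ← hEtop]; rfl, finrank_top, Module.finrank_matrix, Module.finrank_matrix,
        Module.finrank_self, Fintype.card_fun, Fintype.card_fin, Fintype.card_fin] at h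
      simpa using h
    have hpos : 0 < d ^ s := pow_pos (by have := h.two_le_dim; omega) s
    rcases k with _ | _ | k
    · rw [mul_zero] at hcard; omega
    · rfl
    · exfalso
      rw [hcard] at h1
      have : d ^ s * 2 ≤ d ^ s * (k + 1 + 1) := Nat.mul_le_mul_left _ (by omega)
      nlinarith
  subst hk
  refine ⟨b.trans (Equiv.prodUnique _ (Fin 1)), P, fun i a => ?_⟩
  rw [factor_eq φ hc i a, hP, coordR, AlgEquiv.trans_apply, cj_inv_cj]
  ext x y
  rw [Matrix.reindexAlgEquiv_apply, Matrix.reindex_apply, Matrix.submatrix_apply, Matrix.submatrix_apply]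
  simp [Matrix.kronecker_apply, Matrix.one_apply, Subsingleton.elim (α := Fin 1)]

variable {σ : F ≃+* F} {f : (ι → F) → (ι → F) → F} {J : GL ι F} {ε : F}
variable {G : Subgroup (GL ι F)} {φ : Fin s → (Matrix (Fin d) (Fin d) F →ₐ[F] Matrix ι ι F)}

/-- The form and the group in standard position. -/
theorem slots_data (hG : Geom σ f J ε) (hι : 2 ≤ Fintype.card ι) (hGs : G ≤ similarityGroup f) (h : Factors G φ)
    {e : ι ≃ (Fin s → Fin d)} {P : GL ι F} (he : InSlots e P φ) :
    ∃ S : Fin s → GL (Fin d) F, coordJ σ e P J = pureGL S ∧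
      ∀ g ∈ G, ∃ (π : Equiv.Perm (Fin s)) (A : Fin s → GL (Fin d) F),
        glReindex e (P⁻¹ * g * P) = permGL π * pureGL A ∧
        (∀ i, ∀ x ∈ (φ i).range, cj g x ∈ (φ (π i)).range) ∧
        ∀ i, ∃ a : F,
          (A i : Matrix (Fin d) (Fin d) F)ᵀ * (S (π i) : Matrix (Fin d) (Fin d) F) *
            (A i : Matrix (Fin d) (Fin d) F).map σ = a • (S i : Matrix (Fin d) (Fin d) F) := by
  classical
  haveI : Nonempty ι := Fintype.card_pos_iff.1 (by omega)
  have hd := h.two_le_dim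
  have hs := h.two_le_num
  haveI : Nonempty (Fin d) := ⟨⟨0, by omega⟩⟩
  set Jc := coordJ σ e P J with hJc
  obtain ⟨A₀, hA₀⟩ := slot_decomp (by omega) Jc⁻¹ 1 fun i b => by
    obtain ⟨K, hKG, -, -, hK⟩ := h.span i
    have hm : φ i bᵀ ∈ alg K := hK ▸ ⟨bᵀ, rfl⟩
    obtain ⟨a', ha'⟩ : adj σ J (φ i bᵀ) ∈ (φ i).range := hK ▸ hG.adj_mem_alg (hKG.trans hGs) hm
    refine ⟨a'.map σ, ?_⟩
    have h1 : adj σ Jc (slot i bᵀ) = slot i a' := by
      rw [← he i bᵀ, hJc, coord_adj, show adj σ J (φ i bᵀ) = φ i a' from ha'.symm, he]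
    have h2 := adj_gram σ Jc (slot i bᵀ)
    rw [h1, slot_transpose, Matrix.transpose_transpose, slot_map] at h2
    rw [cj_apply, inv_inv, mul_assoc, h2, ← mul_assoc, Units.inv_mul, one_mul]
    rfl
  refine ⟨fun i => (A₀ i)⁻¹, ?_, fun g hg => ?_⟩
  · rw [← inv_inv Jc, hA₀, permGL_one, one_mul, pureGL_inv]
  choose j hj using h.perm g hg
  choose j' hj' using h.perm g⁻¹ (G.inv_mem hg)
  have hjinv : Function.LeftInverse j' j := fun i => by
    refine (slot_disjoint (F := F) hd fun a => ?_).symm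
    obtain ⟨a', ha'⟩ := hj' (j i) _ (hj i (φ i a) ⟨a, rfl⟩)
    change φ _ a' = _ at ha'
    rw [cj_inv_cj] at ha'
    exact ⟨a', by rw [← he, ← ha', he]⟩
  let π : Equiv.Perm (Fin s) := Equiv.ofBijective j (Finite.injective_iff_bijective.1 hjinv.injective)
  obtain ⟨A, hA⟩ := slot_decomp (by omega) (glReindex e (P⁻¹ * g * P)) π fun i a => by
    obtain ⟨a', ha'⟩ := hj i (φ i a) ⟨a, rfl⟩
    change φ _ a' = _ at ha'
    exact ⟨a', by rw [← he i a, ← coordR_cj, ← ha', he]; rfl⟩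
  refine ⟨π, A, hA, hj, fun i => ?_⟩
  obtain ⟨c, hc⟩ := (hG.mem_similarity_iff g).1 (hGs hg)
  have hsim := coord_sim σ e P J g c hc
  rw [coordR_gl, hA, ← hJc, ← inv_inv Jc, hA₀, permGL_one, one_mul, pureGL_inv, IsSim] at hsim
  rw [Units.val_mul, Matrix.transpose_mul, map_mul_equiv, perm_map] at hsim
  simp only [pureGL] at hsim
  rw [show ∀ a b p q r : Matrix (Fin s → Fin d) (Fin s → Fin d) F, a * bᵀ * p * (q * r) = a * (bᵀ * p * q) * r from
    fun _ _ _ _ _ => by simp only [mul_assoc], perm_sim_pure, pure'_transpose, pure'_map, pure'_mul, pure'_mul] at hsim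
  let B : Fin s → GL (Fin d) F := fun l => ⟨(A l : Matrix (Fin d) (Fin d) F)ᵀ, (↑(A l)⁻¹ : Matrix (Fin d) (Fin d) F)ᵀ,
    by rw [← Matrix.transpose_mul, Units.inv_mul, Matrix.transpose_one],
    by rw [← Matrix.transpose_mul, Units.mul_inv, Matrix.transpose_one]⟩ * (A₀ (π l))⁻¹ *
      Units.map (RingHom.mapMatrix (σ : F →+* F) : Matrix (Fin d) (Fin d) F →+* Matrix (Fin d) (Fin d) F).toMonoidHom (A l)
  obtain ⟨a, -, ha⟩ := pure_proportional (A := B) (B := fun l => (A₀ l)⁻¹) (c := c) hsim i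
  exact ⟨a, ha⟩

/-- A tensor power of one form, with the group inside its stabiliser. -/
theorem wreath_data (hG : Geom σ f J ε) (hι : 2 ≤ Fintype.card ι) (hGs : G ≤ similarityGroup f) (h : Factors G φ) :
    ∃ (e : ι ≃ (Fin s → Fin d)) (P : GL ι F) (S₀ : GL (Fin d) F) (c l : F),
      c ≠ 0 ∧ (coordJ σ e P J : Matrix (Fin s → Fin d) (Fin s → Fin d) F) =
        c • pure' (fun _ : Fin s => (S₀ : Matrix (Fin d) (Fin d) F)) ∧
      ((S₀ : Matrix (Fin d) (Fin d) F).map σ)ᵀ = l • (S₀ : Matrix (Fin d) (Fin d) F) ∧ σ c * l ^ s = ε * c ∧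
      (∀ g ∈ G, ∃ (π : Equiv.Perm (Fin s)) (A : Fin s → GL (Fin d) F),
        glReindex e (P⁻¹ * g * P) = permGL π * pureGL A ∧
        ∀ i, ∃ a : F, IsSim σ (S₀ : Matrix (Fin d) (Fin d) F) (A i : Matrix (Fin d) (Fin d) F) a) ∧
      ∀ i, ∃ (K : Subgroup (GL ι F)), K ≤ G ∧ ⁅K, K⁆ = K ∧ ¬ K ≤ scalars ι F ∧
        ∀ x ∈ K, ∃ a : Matrix (Fin d) (Fin d) F, coordR e P (x : Matrix ι ι F) = slot i a := by
  classical
  haveI : Nonempty ι := Fintype.card_pos_iff.1 (by omega)
  have hd := h.two_le_dim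
  have hs := h.two_le_num
  haveI : Nonempty (Fin d) := ⟨⟨0, by omega⟩⟩
  obtain ⟨e, P, he⟩ := exists_slots hι h
  obtain ⟨S, hS, hdec⟩ := slots_data hG hι hGs h he
  let i₀ : Fin s := ⟨0, by omega⟩
  have hC : ∀ j, ∃ (C : GL (Fin d) F) (a : F), a ≠ 0 ∧
      (C : Matrix (Fin d) (Fin d) F)ᵀ * (S j : Matrix (Fin d) (Fin d) F) * (C : Matrix (Fin d) (Fin d) F).map σ =
        a • (S i₀ : Matrix (Fin d) (Fin d) F) := fun j => by
    obtain ⟨g, hg, hgj⟩ := h.trans i₀ j
    obtain ⟨π, A, hA, hπ, hsim⟩ := hdec g hg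
    have hπj : π i₀ = j := slot_disjoint (F := F) hd fun a => by
      obtain ⟨C, hC⟩ : ∃ C, φ i₀ C = cj g⁻¹ (φ (π i₀) a) := by
        have h1 : (φ i₀).range.map (cj g).toAlgHom = (φ (π i₀)).range := by
          refine Subalgebra.toSubmodule.injective (Submodule.eq_of_le_of_finrank_eq ?_ ?_)
          · rintro _ ⟨x, hx, rfl⟩; exact hπ i₀ x hx
          · show Module.finrank F ((φ i₀).range.map (cj g).toAlgHom) = Module.finrank F (φ (π i₀)).range
            rw [← ((φ i₀).range.equivMapOfInjective (cj g).toAlgHom (cj g).injective).toLinearEquiv.finrank_eq,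
              ← (AlgEquiv.ofInjective (φ i₀) (RingHom.injective (φ i₀).toRingHom)).toLinearEquiv.finrank_eq,
              ← (AlgEquiv.ofInjective (φ (π i₀)) (RingHom.injective (φ (π i₀)).toRingHom)).toLinearEquiv.finrank_eq]
        obtain ⟨_, ⟨C, rfl⟩, hC⟩ : φ (π i₀) a ∈ (φ i₀).range.map (cj g).toAlgHom := h1 ▸ ⟨a, rfl⟩
        exact ⟨C, by rw [← hC]; exact (cj_inv_cj g _).symm⟩
      obtain ⟨a', ha'⟩ := hgj (φ i₀ C) ⟨C, rfl⟩
      change φ j a' = _ at ha'
      rw [hC, cj_cj, mul_inv_cancel, cj_one] at ha'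
      exact ⟨a', by rw [← he, ← ha', he]⟩
    obtain ⟨a, ha⟩ := hsim i₀
    rw [hπj] at ha
    exact ⟨A i₀, a, fun e0 => sim_ne_zero' σ (S j) (A i₀) (by rw [ha, e0, zero_smul]), ha⟩
  choose C a ha0 ha using hC
  set U := pureGL C with hU
  set P' := P * glReindex e.symm U with hP'
  have hRU : ∀ x, coordR e P' x = cj U⁻¹ (coordR e P x) := fun x => by
    have hT : glReindex e (glReindex e.symm U) = U := by
      refine Units.ext (Matrix.ext fun x y => ?_)
      show (U : Matrix (Fin s → Fin d) (Fin s → Fin d) F) (e (e.symm x)) (e (e.symm y)) = _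
      simp
    have h1 : coordR e P' x = coordR e P (cj (P * (glReindex e.symm U)⁻¹ * P⁻¹) x) := by
      simp only [coordR, AlgEquiv.trans_apply, cj_cj]
      congr 2
      rw [hP']; group
    rw [h1, coordR_cj]
    congr 1
    rw [show P⁻¹ * (P * (glReindex e.symm U)⁻¹ * P⁻¹) * P = (glReindex e.symm U)⁻¹ by group, map_inv, hT]
  let φ' : Fin s → (Matrix (Fin d) (Fin d) F →ₐ[F] Matrix ι ι F) := fun i => (φ i).comp (cj (C i)).toAlgHom
  have hrange : ∀ i, (φ' i).range = (φ i).range := fun i => by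
    refine le_antisymm ?_ ?_
    · rintro _ ⟨a, rfl⟩; exact ⟨_, rfl⟩
    · rintro _ ⟨a, rfl⟩; exact ⟨cj (C i)⁻¹ a, by simp [φ', cj_cj, cj_one]⟩
  have he' : InSlots e P' φ' := fun i a => by
    rw [hRU, show φ' i a = φ i (cj (C i) a) from rfl, he, hU, pureGL_inv, cj_apply]
    have := pure'_conj_slot (fun j => (C j)⁻¹) i (cj (C i) a)
    rw [cj_inv_cj] at this
    simpa [pureGL] using this
  have h' : Factors G φ' := ⟨hd, hs, fun i j hij a b => h.comm i j hij _ _,
    by simp only [hrange]; exact h.gen, fun i => by rw [hrange]; exact h.span i,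
    fun g hg i => by obtain ⟨j, hj⟩ := h.perm g hg i; exact ⟨j, by simpa only [hrange] using hj⟩,
    fun i j => by obtain ⟨g, hg, hgj⟩ := h.trans i j; exact ⟨g, hg, by simpa only [hrange] using hgj⟩⟩
  obtain ⟨S', hS', hdec'⟩ := slots_data hG hι hGs h' he'
  have hJ' : (coordJ σ e P' J : Matrix (Fin s → Fin d) (Fin s → Fin d) F) =
      (∏ i, a i) • pure' (fun _ : Fin s => (S i₀ : Matrix (Fin d) (Fin d) F)) := by
    have e1 : (coordJ σ e P' J : Matrix (Fin s → Fin d) (Fin s → Fin d) F) =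
        (U : Matrix (Fin s → Fin d) (Fin s → Fin d) F)ᵀ * (coordJ σ e P J : Matrix (Fin s → Fin d) (Fin s → Fin d) F) *
          (U : Matrix (Fin s → Fin d) (Fin s → Fin d) F).map σ := by
      rw [coordJ_val, coordJ_val, hP', Units.val_mul, Matrix.transpose_mul, map_mul_equiv, glReindex_val,
        ← Matrix.submatrix_map, Matrix.transpose_submatrix]
      ext x y
      revert x y
      rw [Matrix.ext_iff]
      set X := (P : Matrix ι ι F)ᵀ * (J : Matrix ι ι F) * (P : Matrix ι ι F).map σ with hX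
      calc _ = ((U : Matrix (Fin s → Fin d) (Fin s → Fin d) F)ᵀ.submatrix e e * (X.submatrix e.symm e.symm).submatrix e e *
            ((U : Matrix (Fin s → Fin d) (Fin s → Fin d) F).map σ).submatrix e e).submatrix e.symm e.symm := by
            simp [hX, mul_assoc]
        _ = _ := by rw [Matrix.submatrix_mul_equiv, Matrix.submatrix_mul_equiv]; simp
    rw [e1, hS, hU]
    simp only [pureGL]
    rw [pure'_transpose, pure'_map, pure'_mul, pure'_mul, funext ha, pure'_smul]
  have hc0 : (∏ i, a i) ≠ 0 := Finset.prod_ne_zero_iff.2 fun i _ => ha0 i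
  have hprop : ∀ i, ∃ b : F, b ≠ 0 ∧ (S' i : Matrix (Fin d) (Fin d) F) = b • (S i₀ : Matrix (Fin d) (Fin d) F) :=
    pure_proportional (A := S') (B := fun _ => S i₀) (c := ∏ i, a i) (by
      rw [← hJ', hS']; rfl)
  have hsym := coord_symm hG e P'
  rw [hJ', Matrix.map_smul' (hf := map_mul σ), Matrix.transpose_smul, pure'_map, pure'_transpose, smul_smul] at hsym
  let St : GL (Fin d) F := ⟨((S i₀ : Matrix (Fin d) (Fin d) F).map σ)ᵀ, ((↑(S i₀)⁻¹ : Matrix (Fin d) (Fin d) F).map σ)ᵀ,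
    by rw [← Matrix.transpose_mul, ← map_mul_equiv, Units.inv_mul, Matrix.map_one σ (map_zero σ) (map_one σ), Matrix.transpose_one],
    by rw [← Matrix.transpose_mul, ← map_mul_equiv, Units.mul_inv, Matrix.map_one σ (map_zero σ) (map_one σ), Matrix.transpose_one]⟩
  have hσc : σ (∏ i, a i) ≠ 0 := fun e0 => hc0 (σ.injective (by rw [e0, map_zero]))
  have hsym2 : pure' (fun _ : Fin s => (St : Matrix (Fin d) (Fin d) F)) =
      (ε * (∏ i, a i) / σ (∏ i, a i)) • pure' (fun _ : Fin s => (S i₀ : Matrix (Fin d) (Fin d) F)) := by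
    rw [div_eq_inv_mul, mul_smul, ← hsym, smul_smul, inv_mul_cancel₀ hσc, one_smul]
  obtain ⟨l, -, hl⟩ := pure_proportional (A := fun _ => St) (B := fun _ => S i₀) hsym2 i₀
  refine ⟨e, P', S i₀, ∏ i, a i, l, hc0, hJ', hl, ?_, fun g hg => ?_, fun i => ?_⟩
  · rw [hl, pure'_smul, Finset.prod_const, Finset.card_univ, Fintype.card_fin] at hsym2
    have h1 : (l ^ s - ε * (∏ i, a i) / σ (∏ i, a i)) • pure' (fun _ : Fin s => (S i₀ : Matrix (Fin d) (Fin d) F)) = 0 := by
      rw [sub_smul, hsym2, sub_self]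
    have h2 := sub_eq_zero.1 ((smul_eq_zero.1 h1).resolve_right (pureGL fun _ : Fin s => S i₀).isUnit.ne_zero)
    rw [h2, mul_div_cancel₀ _ hσc]
  · obtain ⟨π, A, hA, -, hsim⟩ := hdec' g hg
    refine ⟨π, A, hA, fun i => ?_⟩
    obtain ⟨x, hx⟩ := hsim i
    obtain ⟨b, hb, hb'⟩ := hprop (π i)
    obtain ⟨b₂, -, hb₂⟩ := hprop i
    refine ⟨x * b₂ / b, ?_⟩
    rw [hb', hb₂, Matrix.mul_smul, Matrix.smul_mul, smul_smul] at hx
    rw [IsSim, div_eq_inv_mul, mul_smul, ← hx, smul_smul, inv_mul_cancel₀ hb, one_smul]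
  · obtain ⟨K, hKG, hperf, hns, hK⟩ := h'.span i
    refine ⟨K, hKG, hperf, hns, fun x hx => ?_⟩
    obtain ⟨b, hb⟩ : (x : Matrix ι ι F) ∈ (φ' i).range := hK ▸ val_mem_alg hx
    exact ⟨b, by rw [← he' i b]; exact congrArg _ hb.symm⟩

end CfsgLib.AschbacherForm
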