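import Cfsg.Agent.Lib.AschbacherForm.Quad
import Cfsg.Agent.Lib.AschbacherForm.Wreath
import Cfsg.Agent.Lib.Recog.OrderSixty

/-!
The seventh class for the symplectic groups.
-/

set_option autoImplicit false
set_option linter.unusedSectionVars false

namespace CfsgLib.AschbacherForm

open Cfsg Cfsg.Geo CfsgLib.Aschbacher
open scoped Matrix MatrixGroups Kronecker

universe u
variable {F : Type u} [Field F]

/-- A perfect group acting faithfully on one slot is trivial when the slot group is solvable. -/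
theorem slot_perfect_trivial {ι : Type} [Fintype ι] [DecidableEq ι] {d s : ℕ} [Nonempty (Fin d)]
    [Group.IsSolvable (GL (Fin d) F)] (e : ι ≃ (Fin s → Fin d)) (P : GL ι F) (i : Fin s) {K : Subgroup (GL ι F)}
    (hperf : ⁅K, K⁆ = K) (hK : ∀ x ∈ K, ∃ a : Matrix (Fin d) (Fin d) F, coordR e P (x : Matrix ι ι F) = slot i a) :
    K = ⊥ := by
  classical
  choose a ha using fun x : K => hK x x.2
  have hone : a 1 = 1 := slot_injective i (by rw [← ha, slot_one]; exact map_one _)
  have hmul : ∀ x y : K, a (x * y) = a x * a y := fun x y => slot_injective i (by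
    rw [slot_mul, ← ha, ← ha, ← ha, ← map_mul]; rfl)
  let θ : K →* GL (Fin d) F :=
    MonoidHom.toHomUnits { toFun := a, map_one' := hone, map_mul' := hmul }
  have hθ : Function.Injective θ := fun x y h => by
    have h1 : a x = a y := congrArg (fun g : GL (Fin d) F => (g : Matrix (Fin d) (Fin d) F)) h
    refine Subtype.ext (Units.ext ((coordR e P).injective ?_))
    rw [ha, ha, h1]
  haveI : Group.IsSolvable K := Group.isSolvable_of_isSolvable_injective hθ
  by_contra hne
  haveI : Nontrivial K := (Subgroup.nontrivial_iff_ne_bot K).2 hne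
  have h1 : (commutator K).map K.subtype = K := (Subgroup.map_subtype_commutator K).trans hperf
  have h2 : commutator K = ⊤ := Subgroup.map_injective K.subtype_injective
    (by rw [h1, ← MonoidHom.range_eq_map, Subgroup.range_subtype])
  exact (Group.IsSolvable.commutator_lt_top_of_nontrivial K).ne h2

variable [Fintype F] {m : ℕ}

local notation "σ₀" => RingEquiv.refl F

theorem isSolvable_GL_two (h : Fintype.card F ≤ 3) : Group.IsSolvable (GL (Fin 2) F) := by
  refine CfsgLib.Recog.isSolvable_of_card_lt_sixty ?_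
  rw [Matrix.card_GL_field]
  simp only [Fin.prod_univ_two]
  have h2 := Fintype.one_lt_card (α := F)
  interval_cases hq : Fintype.card F <;> simp

/-- A transitive system of commuting factors leads to a member. -/
theorem symp_wreath (hm : 1 ≤ m) {H : Subgroup (GL (Fin m ⊕ Fin m) F)} (hH : H ≤ spGL m F) {d s : ℕ}
    {φ : Fin s → (Matrix (Fin d) (Fin d) F →ₐ[F] Matrix (Fin m ⊕ Fin m) (Fin m ⊕ Fin m) F)}
    (h : Factors (H ⊔ scalars (Fin m ⊕ Fin m) F) φ) : SympOver m H := by
  classical
  have hG := sympGeom m F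
  haveI : Nonempty (Fin m ⊕ Fin m) := ⟨Sum.inl ⟨0, hm⟩⟩
  have hd := h.two_le_dim
  have hs := h.two_le_num
  haveI : Nonempty (Fin d) := ⟨⟨0, by omega⟩⟩
  have hGs : H ⊔ scalars (Fin m ⊕ Fin m) F ≤ similarityGroup (sympForm m F) :=
    sup_le (fun g hg => ⟨1, fun u v => by rw [Units.val_one, one_mul]; exact mem_spGL_iff.1 (hH hg) u v⟩) hG.scalars_le
  obtain ⟨e, P, S, c, l, hc, hJ, hS, hls, hdec, hK⟩ := wreath_data hG (by simp; omega) hGs h
  replace hS : (S : Matrix (Fin d) (Fin d) F)ᵀ = l • (S : Matrix (Fin d) (Fin d) F) := hS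
  replace hls : l ^ s = -1 := by
    rw [RingEquiv.refl_apply, mul_comm (-1 : F)] at hls
    exact mul_left_cancel₀ hc hls
  have hl2 : l * l = 1 := by
    have h1 : (l * l - 1) • (S : Matrix (Fin d) (Fin d) F) = 0 := by
      rw [sub_smul, one_smul, ← smul_smul, ← hS, ← Matrix.transpose_smul, ← hS, Matrix.transpose_transpose, sub_self]
    exact sub_eq_zero.1 ((smul_eq_zero.1 h1).resolve_right S.isUnit.ne_zero)
  by_cases h2 : (2 : F) = 0
  swap
  · have hodd : Odd (Fintype.card F) := not_not.1 fun ho => h2 (finite_two_iff.2 ho)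
    have hl : l = -1 := by
      rcases mul_self_eq_one_iff.1 hl2 with e | e
      · rw [e, one_pow] at hls
        exact absurd (by linear_combination hls) h2
      · exact e
    have hsodd : Odd s := by
      rw [← Nat.not_even_iff_odd]
      intro hev
      rw [hl, hev.neg_one_pow] at hls
      exact h2 (by linear_combination hls)
    rw [hl, neg_one_smul] at hS
    have hdS : ∀ i, (S : Matrix (Fin d) (Fin d) F) i i = 0 := fun i => by
      have := congrFun (congrFun hS i) i
      simp only [Matrix.transpose_apply, Matrix.neg_apply] at this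
      exact (mul_eq_zero.1 (show (2 : F) * (S : Matrix (Fin d) (Fin d) F) i i = 0 by
        linear_combination this)).resolve_left h2
    refine ⟨_, Or.inr (Or.inr (Or.inr (Or.inr (Or.inr (Or.inr (Or.inr (Or.inr (Or.inr (Or.inr
      ⟨d, s, e, P, formOfGram σ₀ (S : Matrix (Fin d) (Fin d) F), hodd, hsodd, by obtain ⟨k, hk⟩ := hsodd; omega, ?_,
        symplectic_of_gram S.isUnit hS hdS, ⟨c, hc, fun x y => ?_⟩, rfl⟩))))))))), fun g hg => ?_⟩
    · rintro ⟨hq, hd2⟩
      subst hd2
      haveI : Group.IsSolvable (GL (Fin 2) F) := isSolvable_GL_two hq.le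
      obtain ⟨K, -, hperf, hns, hKs⟩ := hK ⟨0, by omega⟩
      exact hns (slot_perfect_trivial e P _ hperf hKs ▸ bot_le)
    · rw [coord_form hG e P, hJ, formOfGram_smul]
      congr 1
      simp only [formOfGram, pure', Matrix.of_apply, gramMatrix]
      refine Finset.sum_congr rfl fun a _ => Finset.sum_congr rfl fun b _ => ?_
      rw [Finset.prod_congr rfl fun k _ => (formOfGram_single σ₀ (S : Matrix (Fin d) (Fin d) F) (a k) (b k)).symm]
      rfl
    · obtain ⟨π, A, hA, -⟩ := hdec g (Subgroup.mem_sup_left hg)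
      exact mem_of_coord e P (tensorWreathStandard d s F) (permGL π * pureGL A)
        (mul_mem (Subgroup.subset_closure (Or.inr ⟨π, fun x y => rfl⟩))
          (Subgroup.subset_closure (Or.inl ⟨A, fun x y => rfl⟩))) (by rw [coordR_gl, hA])
  have hneg : ∀ c : F, -c = c := fun c => by rw [neg_eq_iff_add_eq_zero, ← two_mul, h2, zero_mul]
  have hl : l = 1 := by
    rcases mul_self_eq_one_iff.1 hl2 with h | h
    · exact h
    · rw [h, hneg]
  rw [hl, one_smul] at hS
  have hdS : ∀ i, (S : Matrix (Fin d) (Fin d) F) i i = 0 := fun i => by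
    have h3 := (sympForm_symplectic m F).alternating
      ((P : Matrix (Fin m ⊕ Fin m) (Fin m ⊕ Fin m) F) *ᵥ (Pi.single (fun _ => i) 1 ∘ e))
    rw [coord_form hG e P, hJ, formOfGram_single] at h3
    rw [Matrix.smul_apply, smul_eq_mul] at h3
    have h4 := (mul_eq_zero.1 h3).resolve_left hc
    simp only [pure', Matrix.of_apply, Finset.prod_const] at h4
    exact eq_zero_of_pow_eq_zero h4
  obtain ⟨s', rfl⟩ : ∃ s', s = s' + 1 := ⟨s - 1, by omega⟩
  let e' : (Fin m ⊕ Fin m) ≃ Fin d × (Fin s' → Fin d) := e.trans (Fin.consEquiv fun _ : Fin (s' + 1) => Fin d).symm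
  refine sympOver_of_pairs h2 hH e' P (c • (S : Matrix (Fin d) (Fin d) F)) (pureGL fun _ : Fin s' => S) ?_
    (fun i => by rw [Matrix.smul_apply, hdS, smul_zero]) (fun x => ?_) ?_ fun g hg y => ?_
  · ext ⟨i, x⟩ ⟨j, y⟩
    have h1 := congrFun (congrFun hJ (Fin.cons i x)) (Fin.cons j y)
    rw [coordJ_val, Matrix.submatrix_apply] at h1 ⊢
    rw [Matrix.kronecker_apply, Matrix.smul_apply, smul_eq_mul]
    refine h1.trans ?_
    simp [pure', pureGL, Fin.prod_univ_succ, mul_assoc]
  · show ∏ j, (S : Matrix (Fin d) (Fin d) F) (x j) (x j) = 0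
    exact Finset.prod_eq_zero (Finset.mem_univ ⟨0, by omega⟩) (hdS _)
  · show (pure' fun _ : Fin s' => (S : Matrix (Fin d) (Fin d) F))ᵀ = _
    rw [pure'_transpose, hS]
    rfl
  · obtain ⟨π, A, hA, -⟩ := hdec g (Subgroup.mem_sup_left hg)
    let y' : Fin (s' + 1) → Fin d := Fin.cons y.1 y.2
    refine ⟨fun i => (A (π.symm 0) : Matrix (Fin d) (Fin d) F) i (y' (π.symm 0)),
      fun x => ∏ j, (A (π.symm j.succ) : Matrix (Fin d) (Fin d) F) (x j) (y' (π.symm j.succ)), fun x => ?_⟩
    have h1 : coordR e' P (g : Matrix (Fin m ⊕ Fin m) (Fin m ⊕ Fin m) F) x y =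
        coordR e P (g : Matrix (Fin m ⊕ Fin m) (Fin m ⊕ Fin m) F) (Fin.cons x.1 x.2) y' := rfl
    rw [h1, coordR_gl, hA, Units.val_mul, Matrix.mul_apply,
      Finset.sum_eq_single ((Fin.cons x.1 x.2 : Fin (s' + 1) → Fin d) ∘ π)]
    · simp only [permGL, pureGL, pure', Matrix.of_apply, if_true, one_mul, Function.comp_apply]
      rw [← Equiv.prod_comp π.symm]
      simp [Fin.prod_univ_succ, y']
    · intro b _ hb
      simp only [permGL, Matrix.of_apply]
      rw [if_neg hb, zero_mul]
    · simp

end CfsgLib.AschbacherForm
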