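import Cfsg.Agent.Lib.AschbacherForm.SympTensor
import Cfsg.Agent.Lib.AschbacherForm.SympWreath
import Cfsg.Agent.Lib.AschbacherForm.SympAbelian

/-!
Aschbacher's theorem for the symplectic groups.
-/

set_option autoImplicit false
set_option linter.unusedSectionVars false

namespace CfsgLib.AschbacherForm

open Cfsg Cfsg.Geo CfsgLib.Aschbacher
open scoped Matrix MatrixGroups commutatorElement

universe u
variable {F : Type u} [Field F]

theorem commutator_sup_scalars_le {ι : Type} [Fintype ι] [DecidableEq ι] (H : Subgroup (GL ι F)) :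
    ⁅H ⊔ scalars ι F, H ⊔ scalars ι F⁆ ≤ H := by
  refine Subgroup.commutator_le.2 fun a ha b hb => ?_
  obtain ⟨x, hx, s, hs, rfl⟩ := Subgroup.mem_sup_of_normal_right.1 ha
  obtain ⟨y, hy, t, ht, rfl⟩ := Subgroup.mem_sup_of_normal_right.1 hb
  obtain ⟨c, rfl⟩ := exists_sc hs
  obtain ⟨d, rfl⟩ := exists_sc ht
  rw [comm_sc, commutatorElement_def]
  exact mul_mem (mul_mem (mul_mem hx hy) (inv_mem hx)) (inv_mem hy)

theorem SimpleData.le' {ι : Type} [Fintype ι] [DecidableEq ι] {H P : Subgroup (GL ι F)}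
    (h : SimpleData (H ⊔ scalars ι F) P) : P ≤ H := h.le.trans (commutator_sup_scalars_le H)

theorem SimpleData.core {ι : Type} [Fintype ι] [DecidableEq ι] {H P : Subgroup (GL ι F)}
    (h : SimpleData (H ⊔ scalars ι F) P)
    (hsub : ∀ F₀ : Subfield F, F₀ ≠ ⊤ → ¬ RealisableOver F₀ (matrixSet P)) : IsResidualCore H P :=
  ⟨h.le', fun g hg => h.normal g (Subgroup.mem_sup_left hg), h.perfect, h.simple, h.nonabelian,
    fun g hg => h.centralizer_scalar g (Subgroup.mem_sup_left hg), h.absIrred, hsub⟩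

variable [Fintype F] {m : ℕ}

local notation "σ₀" => RingEquiv.refl F

/-- The almost simple case. -/
theorem symp_simple (hm : 1 ≤ m) {H P : Subgroup (GL (Fin m ⊕ Fin m) F)} (hH : H ≤ spGL m F)
    (h : SimpleData (H ⊔ scalars (Fin m ⊕ Fin m) F) P) : SympOver m H ∨ InSymplecticResidualClass H := by
  classical
  have hG := sympGeom m F
  set J := Jgl m F
  haveI : Nonempty (Fin m ⊕ Fin m) := ⟨Sum.inl ⟨0, hm⟩⟩
  have hPI : ∀ x ∈ P, IsSim σ₀ (J : Matrix (Fin m ⊕ Fin m) (Fin m ⊕ Fin m) F)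
      (x : Matrix (Fin m ⊕ Fin m) (Fin m ⊕ Fin m) F) 1 := fun x hx => isSim_of_mem_spGL (hH (h.le' hx))
  by_cases hsub : ∃ F₀ : Subfield F, F₀ ≠ ⊤ ∧ RealisableOver F₀ (matrixSet P)
  · obtain ⟨F₀, hF₀, hreal⟩ := hsub
    obtain ⟨F₁, r, Q, z, hr, hcard, hz, hle, hrat, -⟩ :=
      subfield_data h.absIrred h.normal σ₀ J hF₀ hreal fun x hx => ⟨1, F₀.one_mem, hPI x hx⟩
    exact Or.inl ⟨_, Or.inr (Or.inr (Or.inr (Or.inr (Or.inl ⟨F₁, r, Q, z, hr,
      by rw [← Nat.card_eq_fintype_card]; exact hcard, hz, formRational_of_rat hG hrat, rfl⟩)))),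
      le_sup_left.trans hle⟩
  push Not at hsub
  have hnu : ¬ ∃ (σ : F ≃+* F) (f : (Fin m ⊕ Fin m → F) → (Fin m ⊕ Fin m → F) → F),
      IsUnitaryForm σ f ∧ FixesForm (matrixSet P) f := by
    rintro ⟨σ, g, hg, hfix⟩
    have he := unitary_eq_gram hg
    have hU := isUnit_of_nondeg σ (he ▸ hg.nondegenerate)
    refine hsub _ (fixField_ne_top hg.ne_refl) (realisable_of_two_forms h.absIrred hg.ne_refl hg.involutive J hU.unit
      (fun x hx => ?_) fun x hx => ?_)
    · have := hPI x hx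
      rw [IsSim, one_smul] at this
      exact this
    · rw [IsUnit.unit_spec]
      refine gram_inj σ fun u v => ?_
      rw [← formOfGram_mulVec, ← he]
      exact hfix _ (val_mem_matrixSet hx) u v
  by_cases hq : ∃ Q : (Fin m ⊕ Fin m → F) → F, IsNondegenerateQuadraticForm Q ∧ FixesQuadForm (matrixSet P) Q
  swap
  · exact Or.inr ⟨P, h.core hsub, hq, hnu⟩
  left
  obtain ⟨Q, hQ, hfix⟩ := hq
  have hpol : ∀ x ∈ P, ∀ u v, QuadraticMap.polar Q ((x : Matrix (Fin m ⊕ Fin m) (Fin m ⊕ Fin m) F) *ᵥ u)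
      ((x : Matrix (Fin m ⊕ Fin m) (Fin m ⊕ Fin m) F) *ᵥ v) = QuadraticMap.polar Q u v := fun x hx u v => by
    simp only [QuadraticMap.polar, ← Matrix.mulVec_add, hfix _ (val_mem_matrixSet hx)]
  have he := bilinear_eq_gram hQ.polar_bilinear
  obtain ⟨c, hc⟩ := unique_gram h.absIrred σ₀ J.isUnit (J' := gramMatrix (QuadraticMap.polar Q))
    (fun x hx => by have := hPI x hx; rwa [IsSim, one_smul] at this) fun x hx => gram_inj σ₀ fun u v => by
      rw [← formOfGram_mulVec, ← he]; exact hpol x hx u v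
  have hpolJ : ∀ u v, QuadraticMap.polar Q u v = c * sympForm m F u v := fun u v => by
    rw [he, hc, formOfGram_smul, hG.eq_gram]
  have hc0 : c ≠ 0 := fun e => by
    obtain ⟨v, hv⟩ := exists_ne (0 : Fin m ⊕ Fin m → F)
    obtain ⟨⟨x, hx⟩, -⟩ := hQ.nondegenerate v hv
    exact hx (by rw [hpolJ, e, zero_mul])
  have hf := sympForm_symplectic m F
  by_cases h2 : (2 : F) = 0
  swap
  · exfalso
    have hQ0 : ∀ v, Q v = 0 := fun v => by
      have h1 := hpolJ v v
      rw [hf.alternating, mul_zero, QuadraticMap.polar, ← two_smul F v, hQ.smul] at h1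
      exact (mul_eq_zero.1 (show (2 : F) * Q v = 0 by linear_combination h1)).resolve_left h2
    obtain ⟨v, hv⟩ := exists_ne (0 : Fin m ⊕ Fin m → F)
    obtain ⟨⟨x, hx⟩, -⟩ := hQ.nondegenerate v hv
    exact hx (by simp [QuadraticMap.polar, hQ0])
  let Q' : (Fin m ⊕ Fin m → F) → F := fun v => c⁻¹ * Q v
  have hp : ∀ u v, QuadraticMap.polar Q' u v = sympForm m F u v := fun u v => by
    simp only [QuadraticMap.polar, Q', ← mul_sub]
    show c⁻¹ * QuadraticMap.polar Q u v = _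
    rw [hpolJ, ← mul_assoc, inv_mul_cancel₀ hc0, one_mul]
  refine sympOver_quad h2 (nondeg_quad_of_polar hf (fun a v => by simp only [Q', hQ.smul]; ring) hp) hp
    fun g hg => ⟨1, fun v => ?_⟩
  rw [Units.val_one, one_mul]
  refine sub_eq_zero.1 (semilinear_vanishes h2 (by simp; omega) h.absIrred.1
    (fun w => Q' ((g : Matrix (Fin m ⊕ Fin m) (Fin m ⊕ Fin m) F) *ᵥ w) - Q' w) (fun u w => ?_) (fun a w => ?_) ?_ v)
  · have e1 := hp ((g : Matrix (Fin m ⊕ Fin m) (Fin m ⊕ Fin m) F) *ᵥ u) ((g : Matrix (Fin m ⊕ Fin m) (Fin m ⊕ Fin m) F) *ᵥ w)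
    have e2 := hp u w
    rw [mem_spGL_iff.1 (hH hg)] at e1
    simp only [QuadraticMap.polar] at e1 e2
    rw [Matrix.mulVec_add]
    linear_combination e1 - e2
  · simp only [Q', Matrix.mulVec_smul, hQ.smul]; ring
  · rintro _ ⟨x, hx, rfl⟩ w hw
    simp only at hw ⊢
    have e1 : Q' ((g : Matrix (Fin m ⊕ Fin m) (Fin m ⊕ Fin m) F) *ᵥ ((x : Matrix (Fin m ⊕ Fin m) (Fin m ⊕ Fin m) F) *ᵥ w)) =
        Q' ((g : Matrix (Fin m ⊕ Fin m) (Fin m ⊕ Fin m) F) *ᵥ w) := by
      have h3 := hfix _ (val_mem_matrixSet (h.normal g (Subgroup.mem_sup_left hg) x hx))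
        ((g : Matrix (Fin m ⊕ Fin m) (Fin m ⊕ Fin m) F) *ᵥ w)
      rw [Matrix.mulVec_mulVec, ← Units.val_mul, show g * x * g⁻¹ * g = g * x by group, Units.val_mul,
        ← Matrix.mulVec_mulVec] at h3
      simp only [Q', h3]
    rw [e1, show Q' ((x : Matrix (Fin m ⊕ Fin m) (Fin m ⊕ Fin m) F) *ᵥ w) = Q' w by
      simp only [Q', hfix _ (val_mem_matrixSet hx)]]
    exact hw

/-- Aschbacher's theorem for the symplectic groups. -/
theorem symplectic_structure (hm : 1 ≤ m) (H : Subgroup (GL (Fin m ⊕ Fin m) F)) (hH : H ≤ spGL m F) :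
    SympOver m H ∨ InSymplecticResidualClass H := by
  rcases form_core (sympGeom m F) (by simp; omega) H (fun g hg => mem_spGL_iff.1 (hH hg)) with
    h | h | h | ⟨hirr, h | ⟨N, hN⟩ | ⟨P, hP⟩ | ⟨d, s, φ, hφ⟩⟩
  · exact Or.inl (symp_reducible h)
  · exact Or.inl (symp_imprimitive hH h)
  · exact Or.inl (symp_field hm hH h)
  · exact Or.inl (symp_tensor hm hH hirr h)
  · exact Or.inl (symp_abelian hm hH hN)
  · exact symp_simple hm hH hP
  · exact Or.inl (symp_wreath hm hH hφ)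

end CfsgLib.AschbacherForm
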