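import Cfsg.Agent.Lib.AschbacherForm.Adjoint

/-!
Descent to the fixed field of an involutive automorphism, and semilinear functionals in characteristic two.
-/

set_option autoImplicit false
set_option linter.unusedSectionVars false

namespace CfsgLib.AschbacherForm

open Cfsg Cfsg.Geo CfsgLib.Aschbacher
open scoped Matrix MatrixGroups

variable {ι : Type} [Fintype ι] [DecidableEq ι] {F : Type*} [Field F]

/-- The fixed field of an automorphism. -/
def fixField (σ : F ≃+* F) : Subfield F := σ.toRingHom.eqLocusField (RingHom.id F)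

theorem mem_fixField {σ : F ≃+* F} {x : F} : x ∈ fixField σ ↔ σ x = x := Iff.rfl

theorem exists_moved {σ : F ≃+* F} (hne : σ ≠ RingEquiv.refl F) : ∃ c, σ c ≠ c := by
  by_contra h
  push Not at h
  exact hne (RingEquiv.ext h)

theorem fixField_ne_top {σ : F ≃+* F} (hne : σ ≠ RingEquiv.refl F) : fixField σ ≠ ⊤ := fun h => by
  obtain ⟨c, hc⟩ := exists_moved hne
  exact hc (mem_fixField.1 (h ▸ Subfield.mem_top c))

/-- Hilbert 90 for an involution. -/
theorem hilbert90 {σ : F ≃+* F} (hne : σ ≠ RingEquiv.refl F) (hσ : ∀ a, σ (σ a) = a) {l : F}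
    (hl : l * σ l = 1) : ∃ a, a ≠ 0 ∧ σ a * l = a := by
  obtain ⟨c, hc⟩ := exists_moved hne
  have hb : ∀ x : F, σ (x + σ x * l) * l = x + σ x * l := fun x => by
    rw [map_add, map_mul, hσ]; linear_combination x * hl
  by_cases h1 : 1 + σ 1 * l = 0
  · refine ⟨c + σ c * l, fun e => hc ?_, hb _⟩
    rw [map_one, one_mul] at h1
    linear_combination -e + σ c * h1
  · exact ⟨_, h1, hb 1⟩

/-- The norm to the fixed field is surjective. -/
theorem exists_norm [Finite F] {σ : F ≃+* F} (hne : σ ≠ RingEquiv.refl F) (hσ : ∀ a, σ (σ a) = a) {e : F}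
    (he : σ e = e) : ∃ s, s * σ s = e := by
  by_cases he0 : e = 0
  · exact ⟨0, by rw [he0, zero_mul]⟩
  let τ : Fˣ →* Fˣ := Units.map σ.toRingHom.toMonoidHom
  let N : Fˣ →* Fˣ :=
    { toFun := fun x => x * τ x
      map_one' := by simp
      map_mul' := fun x y => by rw [map_mul]; exact mul_mul_mul_comm x y (τ x) (τ y) }
  let φ : Fˣ →* Fˣ :=
    { toFun := fun x => x * (τ x)⁻¹
      map_one' := by simp
      map_mul' := fun x y => by rw [map_mul, mul_inv]; exact mul_mul_mul_comm x y (τ x)⁻¹ (τ y)⁻¹ }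
  have hττ : ∀ x, τ (τ x) = x := fun x => Units.ext (hσ x)
  have h1 : φ.range = N.ker := by
    refine le_antisymm ?_ fun x hx => ?_
    · rintro _ ⟨x, rfl⟩
      rw [MonoidHom.mem_ker]
      show x * (τ x)⁻¹ * τ (x * (τ x)⁻¹) = 1
      rw [map_mul, map_inv, hττ]
      group
    · obtain ⟨a, ha, hax⟩ := hilbert90 hne hσ (l := (x : F)) (congrArg Units.val (MonoidHom.mem_ker.1 hx))
      refine ⟨Units.mk0 a ha, Units.ext ?_⟩
      show a * ((τ (Units.mk0 a ha))⁻¹ : Fˣ) = (x : F)
      rw [Units.val_inv_eq_inv_val]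
      show a * (σ a)⁻¹ = x
      have hσa : σ a ≠ 0 := fun e0 => ha (σ.injective (by rw [e0, map_zero]))
      rw [mul_inv_eq_iff_eq_mul₀ hσa, mul_comm, hax]
  have h2 : N.range ≤ φ.ker := by
    rintro _ ⟨x, rfl⟩
    rw [MonoidHom.mem_ker]
    show x * τ x * (τ (x * τ x))⁻¹ = 1
    rw [map_mul, hττ, mul_comm (τ x) x, mul_inv_cancel]
  have h3 := φ.ker.card_mul_index
  have h4 := N.ker.card_mul_index
  rw [Subgroup.index_ker, h1] at h3
  rw [Subgroup.index_ker] at h4
  have h5 : Nat.card N.range = Nat.card φ.ker := by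
    refine Nat.eq_of_mul_eq_mul_left (Nat.card_pos (α := N.ker)) ?_
    rw [h4, mul_comm, h3]
  have h6 : Units.mk0 e he0 ∈ φ.ker := by
    rw [MonoidHom.mem_ker]
    show Units.mk0 e he0 * (τ (Units.mk0 e he0))⁻¹ = 1
    rw [mul_inv_eq_one]
    exact Units.ext he.symm
  rw [← Subgroup.eq_of_le_of_card_ge h2 h5.ge] at h6
  obtain ⟨s, hs⟩ := h6
  exact ⟨(s : F), congrArg Units.val hs⟩

/-- Hilbert 90 for matrices and an involution. -/
theorem hilbert90_matrix {σ : F ≃+* F} (hne : σ ≠ RingEquiv.refl F) (hσ : ∀ a, σ (σ a) = a)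
    {M : Matrix ι ι F} (hM : M.map σ * M = 1) : ∃ X : GL ι F, M * (X : Matrix ι ι F) = (X : Matrix ι ι F).map σ := by
  classical
  obtain ⟨c, hc⟩ := exists_moved hne
  let T : (ι → F) → (ι → F) := fun v i => σ ((M *ᵥ v) i)
  let W : Set (ι → F) := {v | T v = v}
  have hTT : ∀ v, T (T v) = v := fun v => by
    funext i
    show σ ((M *ᵥ fun j => σ ((M *ᵥ v) j)) i) = v i
    calc σ ((M *ᵥ fun j => σ ((M *ᵥ v) j)) i) = ((M.map σ) *ᵥ fun j => σ (σ ((M *ᵥ v) j))) i :=
          congrFun (map_mulVec' σ M _) i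
      _ = v i := by simp [hσ, Matrix.mulVec_mulVec, hM]
  have hTadd : ∀ v w, T (v + w) = T v + T w := fun v w => by
    funext i; simp [T, Matrix.mulVec_add]
  have hTsmul : ∀ (a : F) v, T (a • v) = σ a • T v := fun a v => by
    funext i; simp [T, Matrix.mulVec_smul]
  have hW : ∀ v, v + T v ∈ W := fun v => by
    show T (v + T v) = v + T v
    rw [hTadd, hTT, add_comm]
  have hspan : ⊤ ≤ Submodule.span F W := fun v _ => by
    have hd : c - σ c ≠ 0 := sub_ne_zero.2 (Ne.symm hc)
    have h1 : v = (c - σ c)⁻¹ • ((c • v + T (c • v)) - σ c • (v + T v)) := by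
      rw [hTsmul, smul_add, add_sub_add_right_eq_sub, ← sub_smul, smul_smul, inv_mul_cancel₀ hd, one_smul]
    rw [h1]
    exact Submodule.smul_mem _ _ (Submodule.sub_mem _ (Submodule.subset_span (hW _))
      (Submodule.smul_mem _ _ (Submodule.subset_span (hW _))))
  let B0 := Module.Basis.ofSpan hspan
  let B := B0.reindex (B0.indexEquiv (Pi.basisFun F ι))
  have hBW : ∀ i, B i ∈ W := fun i => by
    simp only [B, Module.Basis.reindex_apply]
    exact Module.Basis.ofSpan_subset hspan ⟨_, rfl⟩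
  have hU : IsUnit ((Pi.basisFun F ι).toMatrix B) :=
    letI := Module.Basis.invertibleToMatrix (Pi.basisFun F ι) B
    isUnit_of_invertible _
  refine ⟨hU.unit, Matrix.ext fun i j => ?_⟩
  have h1 : T (B j) i = B j i := congrFun (hBW j) i
  show (M * (Pi.basisFun F ι).toMatrix B) i j = σ ((Pi.basisFun F ι).toMatrix B i j)
  show (M *ᵥ B j) i = σ (B j i)
  rw [← h1]
  exact (hσ _).symm

/-- A bilinear and a sesquilinear form fixed by an absolutely irreducible group give descent to the fixed field. -/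
theorem realisable_of_two_forms [Finite F] [Nonempty ι] {P : Subgroup (GL ι F)}
    (hP : ActsAbsolutelyIrreducibly (matrixSet P)) {σ : F ≃+* F} (hne : σ ≠ RingEquiv.refl F)
    (hσ : ∀ a, σ (σ a) = a) (J₁ J₂ : GL ι F)
    (h₁ : ∀ x ∈ P, (x : Matrix ι ι F)ᵀ * (J₁ : Matrix ι ι F) * (x : Matrix ι ι F) = (J₁ : Matrix ι ι F))
    (h₂ : ∀ x ∈ P, (x : Matrix ι ι F)ᵀ * (J₂ : Matrix ι ι F) * (x : Matrix ι ι F).map σ = (J₂ : Matrix ι ι F)) :
    RealisableOver (fixField σ) (matrixSet P) := by
  classical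
  let sg : GL ι F →* GL ι F :=
    Units.map (RingHom.mapMatrix (σ : F →+* F) : Matrix ι ι F →+* Matrix ι ι F).toMonoidHom
  have hsg : ∀ x : GL ι F, ((sg x : GL ι F) : Matrix ι ι F) = (x : Matrix ι ι F).map σ := fun x => rfl
  have hsg2 : ∀ x, sg (sg x) = x := fun x => Units.ext (by rw [hsg, hsg, Matrix.map_map]; ext; simp [hσ])
  let tr : GL ι F → GL ι F := fun x => ⟨(x : Matrix ι ι F)ᵀ, (↑x⁻¹ : Matrix ι ι F)ᵀ,
    by rw [← Matrix.transpose_mul, Units.inv_mul, Matrix.transpose_one],
    by rw [← Matrix.transpose_mul, Units.mul_inv, Matrix.transpose_one]⟩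
  set M := J₂⁻¹ * J₁ with hM
  have hsx : ∀ x ∈ P, sg x = M * x * M⁻¹ := fun x hx => by
    have e1 : tr x * J₁ * x = J₁ := Units.ext (h₁ x hx)
    have e2 : tr x * J₂ * sg x = J₂ := Units.ext (h₂ x hx)
    have e3 : tr x = J₁ * x⁻¹ * J₁⁻¹ := by
      rw [show tr x = tr x * J₁ * x * x⁻¹ * J₁⁻¹ by group, e1]
    rw [show sg x = (tr x * J₂)⁻¹ * (tr x * J₂ * sg x) by group, e2, e3, hM]
    group
  set D := sg M * M with hD
  obtain ⟨d, hd⟩ : ∃ d : Fˣ, sc d = D := by
    obtain ⟨d, hd⟩ := eq_smul_one_of_commutes hP (x := (D : Matrix ι ι F)) fun x hx => by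
      have h : D * x = x * D := by
        have e := congrArg sg (hsx x hx)
        rw [hsg2, map_mul, map_mul, map_inv, hsx x hx] at e
        calc D * x = sg M * (M * x * M⁻¹) * (sg M)⁻¹ * (sg M * M) := by rw [hD]; group
          _ = x * D := by rw [← e, hD]
      exact congrArg Units.val h
    exact exists_sc (mem_scalars_of_eq_smul hd)
  have hdσ : σ (d : F) = d := by
    have e1 : sg D = sc d := by
      rw [hD, map_mul, hsg2, show M * sg M = M * (sg M * M) * M⁻¹ by group, ← hD, ← hd, ← sc_comm]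
      group
    have e2 := congrArg (fun g : GL ι F => (g : Matrix ι ι F) (Classical.arbitrary ι) (Classical.arbitrary ι)) e1
    rw [← hd] at e2
    simpa [hsg, sc_val] using e2
  obtain ⟨s, hs⟩ := exists_norm hne hσ (e := (d : F)⁻¹) (by rw [map_inv₀, hdσ])
  have hs0 : s ≠ 0 := fun e => by rw [e, zero_mul] at hs; exact inv_ne_zero d.ne_zero hs.symm
  have hM1 : ((sc (Units.mk0 s hs0) * M : GL ι F) : Matrix ι ι F).map σ * ((sc (Units.mk0 s hs0) * M : GL ι F) : Matrix ι ι F) = 1 := by
    simp only [sc_mul_val, Units.val_mk0, Matrix.map_smul' (hf := map_mul σ), Matrix.smul_mul, Matrix.mul_smul,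
      smul_smul]
    rw [← hsg, ← Units.val_mul, ← hD, ← hd, sc_val, smul_smul]
    have h0 := d.ne_zero
    conv_rhs => rw [← one_smul F (1 : Matrix ι ι F)]
    congr 1
    field_simp at hs
    linear_combination hs
  obtain ⟨X, hX⟩ := hilbert90_matrix hne hσ hM1
  refine ⟨X⁻¹, ?_⟩
  rintro _ ⟨x, hx, rfl⟩ i j
  rw [mem_fixField]
  have hX' : sg X = sc (Units.mk0 s hs0) * M * X := Units.ext (by rw [hsg, ← hX, Units.val_mul (sc _ * M)])
  have key : sg (X⁻¹ * x * X⁻¹⁻¹) = X⁻¹ * x * X⁻¹⁻¹ := by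
    have hc : sc (Units.mk0 s hs0) * x = x * sc (Units.mk0 s hs0) := sc_comm _ _
    rw [inv_inv, map_mul, map_mul, map_inv, hsx x hx, hX']
    rw [show (sc (Units.mk0 s hs0) * M * X)⁻¹ * (M * x * M⁻¹) * (sc (Units.mk0 s hs0) * M * X) =
      X⁻¹ * (M⁻¹ * ((sc (Units.mk0 s hs0))⁻¹ * (M * x * M⁻¹) * sc (Units.mk0 s hs0)) * M) * X by group]
    rw [mul_assoc _ (M * x * M⁻¹), ← sc_comm]
    group
  exact congrArg (fun g : GL ι F => (g : Matrix ι ι F) i j) key

/-- Every element of a finite field of characteristic two is a square. -/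
theorem exists_sq [Finite F] (h2 : (2 : F) = 0) (a : F) : ∃ b, b * b = a := by
  have : Function.Injective fun b : F => b * b := fun x y h => by
    have h' : x * x = y * y := h
    have : (x - y) * (x - y) = 0 := by linear_combination h' + (y * y - x * y) * h2
    exact sub_eq_zero.1 (mul_self_eq_zero.1 this)
  exact Finite.surjective_of_injective this a

/-- A square-semilinear functional whose kernel is invariant under an irreducible set vanishes. -/
theorem semilinear_vanishes [Finite F] (h2 : (2 : F) = 0) (hι : 2 ≤ Fintype.card ι) {S : Set (Matrix ι ι F)}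
    (hS : ActsIrreducibly S) (D : (ι → F) → F) (hadd : ∀ u v, D (u + v) = D u + D v)
    (hsmul : ∀ (c : F) v, D (c • v) = c * c * D v) (hinv : ∀ s ∈ S, ∀ v, D v = 0 → D (s *ᵥ v) = 0) (v : ι → F) :
    D v = 0 := by
  classical
  let Z : Submodule F (ι → F) :=
    { carrier := {v | D v = 0}
      add_mem' := fun {a b} ha hb => by
        rw [Set.mem_ofPred_eq] at ha hb ⊢
        rw [hadd, ha, hb, add_zero]
      zero_mem' := by
        have := hsmul 0 0
        simpa using this
      smul_mem' := fun c a ha => by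
        rw [Set.mem_ofPred_eq] at ha ⊢
        rw [hsmul, ha, mul_zero] }
  rcases irred_out hS Z (fun s hs v hv => hinv s hs v hv) with h | h
  · exfalso
    obtain ⟨i, j, hij⟩ := Fintype.exists_pair_of_one_lt_card (α := ι) (by omega)
    by_cases ha : D (Pi.single i 1) = 0
    · have hmem : (Pi.single i 1 : ι → F) ∈ Z := ha
      rw [h, Submodule.mem_bot] at hmem
      simpa using congrFun hmem i
    · obtain ⟨c, hc⟩ := exists_sq h2 (D (Pi.single j 1) / D (Pi.single i 1))
      have hmem : (c • Pi.single i 1 + Pi.single j 1 : ι → F) ∈ Z := by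
        show D _ = 0
        rw [hadd, hsmul, hc, div_mul_cancel₀ _ ha]
        linear_combination D (Pi.single j 1) * h2
      rw [h, Submodule.mem_bot] at hmem
      have := congrFun hmem j
      simp [Ne.symm hij] at this
  · exact (h.symm ▸ Submodule.mem_top : v ∈ Z)

end CfsgLib.AschbacherForm
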