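import Cfsg.Agent.Lib.AschbacherForm.SympBase

/-!
The third class for the symplectic groups.
-/

set_option autoImplicit false
set_option linter.unusedSectionVars false

namespace CfsgLib.AschbacherForm

open Cfsg Cfsg.Geo CfsgLib.Aschbacher
open scoped Matrix MatrixGroups

variable {F : Type*} [Field F] [Fintype F] {m : ℕ}

/-- A normalised extension field leads to the third or the eighth class. -/
theorem symp_field (hm : 1 ≤ m) {H : Subgroup (GL (Fin m ⊕ Fin m) F)} (hH : H ≤ spGL m F)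
    (h : FieldExt (sympForm m F) H) : SympOver m H := by
  classical
  haveI : Nonempty (Fin m ⊕ Fin m) := ⟨Sum.inl ⟨0, hm⟩⟩
  obtain ⟨r, K, hr, hK, hadj, hle⟩ := h
  have hG := sympGeom m F
  have hf := sympForm_symplectic m F
  set f := sympForm m F with hfdef
  set J := Jgl m F
  rw [hG.adjClosed_iff] at hadj
  set σ := RingEquiv.refl F
  by_cases hsa : ∀ k ∈ K, adj σ J k = k
  · refine ⟨_, Or.inr (Or.inr (Or.inr (Or.inr (Or.inr (Or.inr (Or.inr (Or.inl
      ⟨r, K, hr, hK, (hG.selfAdj_iff K).2 hsa, fun k hk v => ?_, rfl⟩))))))), hle⟩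
    by_cases h2 : (2 : F) = 0
    · haveI : Finite (Matrix (Fin m ⊕ Fin m) (Fin m ⊕ Fin m) F) :=
        inferInstanceAs (Finite (Fin m ⊕ Fin m → Fin m ⊕ Fin m → F))
      have hinj : Function.Injective fun c : K => c * c := fun a b e => by
        have e' : (a : Matrix (Fin m ⊕ Fin m) (Fin m ⊕ Fin m) F) * (a : Matrix (Fin m ⊕ Fin m) (Fin m ⊕ Fin m) F) =
            (b : Matrix (Fin m ⊕ Fin m) (Fin m ⊕ Fin m) F) * (b : Matrix (Fin m ⊕ Fin m) (Fin m ⊕ Fin m) F) :=
          congrArg Subtype.val e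
        by_contra hne
        have hd : (a : Matrix (Fin m ⊕ Fin m) (Fin m ⊕ Fin m) F) - (b : Matrix (Fin m ⊕ Fin m) (Fin m ⊕ Fin m) F) ≠ 0 := fun h0 => hne (Subtype.ext (sub_eq_zero.1 h0))
        obtain ⟨y, -, hy⟩ := hK.inv _ (K.sub_mem a.2 b.2) hd
        have h0 : ((a : Matrix (Fin m ⊕ Fin m) (Fin m ⊕ Fin m) F) - (b : Matrix (Fin m ⊕ Fin m) (Fin m ⊕ Fin m) F)) *
            ((a : Matrix (Fin m ⊕ Fin m) (Fin m ⊕ Fin m) F) - (b : Matrix (Fin m ⊕ Fin m) (Fin m ⊕ Fin m) F)) = 0 := by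
          have h2' : ∀ M : Matrix (Fin m ⊕ Fin m) (Fin m ⊕ Fin m) F, M + M = 0 := fun M => by
            rw [← two_smul F M, h2, zero_smul]
          rw [sub_mul, mul_sub, mul_sub, hK.comm _ b.2 _ a.2, e', sub_sub_eq_add_sub, sub_add_eq_add_sub, h2',
            zero_sub, ← neg_add', h2', neg_zero]
        apply hd
        calc (a : Matrix (Fin m ⊕ Fin m) (Fin m ⊕ Fin m) F) - (b : Matrix (Fin m ⊕ Fin m) (Fin m ⊕ Fin m) F) =
              ((a : Matrix (Fin m ⊕ Fin m) (Fin m ⊕ Fin m) F) - (b : Matrix (Fin m ⊕ Fin m) (Fin m ⊕ Fin m) F)) *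
              (((a : Matrix (Fin m ⊕ Fin m) (Fin m ⊕ Fin m) F) - (b : Matrix (Fin m ⊕ Fin m) (Fin m ⊕ Fin m) F)) * y) := by
              rw [hy, mul_one]
          _ = 0 := by rw [← mul_assoc, h0, zero_mul]
      obtain ⟨c, hc⟩ := Finite.surjective_of_injective hinj ⟨k, hk⟩
      have hc' : (c : Matrix (Fin m ⊕ Fin m) (Fin m ⊕ Fin m) F) * c = k := congrArg Subtype.val hc
      rw [← hc', ← Matrix.mulVec_mulVec]
      show f _ _ = 0
      rw [hG.mulVec_left, hsa _ c.2]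
      exact hf.alternating _
    · have h1 : f (k *ᵥ v) v = -f (k *ᵥ v) v := by
        conv_lhs => rw [hG.mulVec_left, hsa _ hk, hf.skew]
      exact (mul_eq_zero.1 (show (2 : F) * f (k *ᵥ v) v = 0 by linear_combination h1)).resolve_left h2
  push Not at hsa
  obtain ⟨x, hx, hxne⟩ := hsa
  -- the fixed elements of the adjoint map are scalars
  have hfix : ∀ y ∈ K, adj σ J y = y → ∃ c : F, y = c • 1 := by
    haveI : Nontrivial K := ⟨1, 0, fun e => one_ne_zero (congrArg Subtype.val e :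
      (1 : Matrix (Fin m ⊕ Fin m) (Fin m ⊕ Fin m) F) = 0)⟩
    haveI : NoZeroDivisors K := ⟨fun {a b} hab => by
      by_contra hc
      rw [not_or] at hc
      obtain ⟨y, -, hy⟩ := hK.inv a a.2 fun e => hc.1 (Subtype.ext e)
      refine hc.2 (Subtype.ext ?_)
      have hab' : (a : Matrix (Fin m ⊕ Fin m) (Fin m ⊕ Fin m) F) * (b : Matrix (Fin m ⊕ Fin m) (Fin m ⊕ Fin m) F) = 0 := congrArg Subtype.val hab
      rw [hK.comm _ a.2 _ b.2] at hab'
      show (b : Matrix (Fin m ⊕ Fin m) (Fin m ⊕ Fin m) F) = 0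
      rw [← mul_one (b : Matrix (Fin m ⊕ Fin m) (Fin m ⊕ Fin m) F), ← hy, ← mul_assoc, hab', zero_mul]⟩
    haveI : IsDomain K := NoZeroDivisors.to_isDomain _
    haveI := Subalgebra.isSimpleOrder_of_finrank_prime F K (hK.finrank_eq.symm ▸ hr)
    let S : Subalgebra F K :=
      { carrier := {y | adj σ J (y : Matrix (Fin m ⊕ Fin m) (Fin m ⊕ Fin m) F) = y}
        mul_mem' := fun {a b} ha hb => by
          rw [Set.mem_ofPred_eq] at ha hb ⊢
          rw [Subalgebra.coe_mul, adj_mul, ha, hb, hK.comm _ b.2 _ a.2]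
        add_mem' := fun {a b} ha hb => by
          rw [Set.mem_ofPred_eq] at ha hb ⊢
          rw [Subalgebra.coe_add, adj_add, ha, hb]
        algebraMap_mem' := fun c => adj_algebraMap σ J c }
    intro y hy hyfix
    rcases eq_bot_or_eq_top S with h0 | h0
    · have hmem : (⟨y, hy⟩ : K) ∈ S := hyfix
      rw [h0, Algebra.mem_bot] at hmem
      obtain ⟨c, hc⟩ := hmem
      exact ⟨c, (congrArg Subtype.val hc).symm.trans (Algebra.algebraMap_eq_smul_one c)⟩
    · exact absurd ((h0 ▸ Algebra.mem_top : (⟨x, hx⟩ : K) ∈ S)) hxne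
  have hτ : ∀ y ∈ K, adj σ J y ∈ K := hadj
  have hr2 : r = 2 := by
    set w := x - adj σ J x with hw
    have hwK : w ∈ K := K.sub_mem hx (hτ x hx)
    have hw0 : w ≠ 0 := fun e => hxne (sub_eq_zero.1 e).symm
    have hneg : ∀ y ∈ K, adj σ J (y - adj σ J y) = -(y - adj σ J y) := fun y _ => by
      rw [sub_eq_add_neg, adj_add, ← neg_one_smul F (adj σ J y), adj_smul, adj_adj hG]
      show adj σ J y + (-1 : F) • y = _
      simp [add_comm]
    obtain ⟨e, he⟩ := hfix _ (K.mul_mem hwK hwK) (by rw [adj_mul, hneg x hx, neg_mul_neg])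
    have he0 : e ≠ 0 := fun e0 => by
      obtain ⟨y, -, hy⟩ := hK.inv w hwK hw0
      refine hw0 ?_
      rw [← mul_one w, ← hy, ← mul_assoc, he, e0, zero_smul, zero_mul]
    have hle2 : Subalgebra.toSubmodule K ≤ Submodule.span F {(1 : Matrix (Fin m ⊕ Fin m) (Fin m ⊕ Fin m) F), x} := by
      intro y hy
      obtain ⟨c, hc⟩ := hfix _ (K.mul_mem (K.sub_mem hy (hτ y hy)) hwK)
        (by rw [adj_mul, hneg x hx, hneg y hy, neg_mul_neg, hK.comm _ hwK _ (K.sub_mem hy (hτ y hy))])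
      have hyw : y - adj σ J y = (c / e) • w := by
        obtain ⟨v, -, hv⟩ := hK.inv w hwK hw0
        calc y - adj σ J y = (y - adj σ J y) * w * v := by rw [mul_assoc, hv, mul_one]
          _ = (c / e) • (w * w * v) := by
            rw [hc, he, Matrix.smul_mul, Matrix.smul_mul, smul_smul, div_mul_cancel₀ _ he0]
          _ = (c / e) • w := by rw [mul_assoc, hv, mul_one]
      obtain ⟨b, hb⟩ := hfix _ (K.sub_mem hy (K.smul_mem hx (c / e))) (by
        rw [sub_eq_add_neg, adj_add, ← neg_one_smul F ((c / e) • x), smul_smul, adj_smul]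
        show adj σ J y + (-1 * (c / e)) • adj σ J x = _
        rw [show adj σ J y = y - (c / e) • w by rw [← hyw, sub_sub_cancel], hw, smul_sub]
        simp [sub_eq_add_neg, add_assoc])
      rw [sub_eq_iff_eq_add] at hb
      rw [hb]
      exact Submodule.add_mem _ (Submodule.smul_mem _ _ (Submodule.subset_span (by simp)))
        (Submodule.smul_mem _ _ (Submodule.subset_span (by simp)))
    have h3 := (Submodule.finrank_mono hle2).trans (finrank_span_le_card _)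
    rw [show Module.finrank F (Subalgebra.toSubmodule K) = r from hK.finrank_eq] at h3
    have h4 : ({(1 : Matrix (Fin m ⊕ Fin m) (Fin m ⊕ Fin m) F), x} : Set _).toFinset.card ≤ 2 := by
      rw [Set.toFinset_insert, Set.toFinset_singleton]
      exact Finset.card_le_two
    have := hr.two_le
    omega
  subst hr2
  by_cases h2 : (2 : F) = 0
  swap
  · refine ⟨_, Or.inr (Or.inr (Or.inr (Or.inr (Or.inr (Or.inr (Or.inr (Or.inr (Or.inl
      ⟨K, not_not.1 (fun ho => h2 (finite_two_iff.2 ho)), hK, (hG.adjClosed_iff K).2 hadj, ?_, rfl⟩)))))))), hle⟩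
    exact fun h => hxne ((hG.selfAdj_iff K).1 h x hx)
  obtain ⟨a, ha⟩ := hfix _ (K.add_mem hx (hτ x hx)) (by rw [adj_add, adj_adj hG, add_comm])
  have ha0 : a ≠ 0 := fun e => hxne (by
    rw [e, zero_smul] at ha
    have h2' : adj σ J x = -x := eq_neg_of_add_eq_zero_right ha
    rw [h2', neg_eq_iff_add_eq_zero, ← two_smul F x, h2, zero_smul])
  set k₀ := a⁻¹ • x with hk₀
  have hk₀K : k₀ ∈ K := K.smul_mem hx _
  have hk₀1 : k₀ + adj σ J k₀ = 1 := by
    rw [hk₀, adj_smul]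
    show a⁻¹ • x + a⁻¹ • adj σ J x = 1
    rw [← smul_add, ha, smul_smul, inv_mul_cancel₀ ha0, one_smul]
  let Q : (Fin m ⊕ Fin m → F) → F := fun v => f (k₀ *ᵥ v) v
  have hsymm : ∀ u v, f u v = f v u := fun u v => by
    rw [hf.skew u v, neg_eq_iff_add_eq_zero, ← two_mul, h2, zero_mul]
  have hp : ∀ u v, QuadraticMap.polar Q u v = f u v := fun u v => by
    simp only [QuadraticMap.polar, Q, Matrix.mulVec_add, hf.bilinear.add_left, hf.bilinear.add_right]
    have e1 : f (k₀ *ᵥ v) u = f (adj σ J k₀ *ᵥ u) v := by rw [hG.mulVec_left, hsymm]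
    have e2 : f ((k₀ + adj σ J k₀) *ᵥ u) v = f u v := by rw [hk₀1, Matrix.one_mulVec]
    rw [Matrix.add_mulVec, hf.bilinear.add_left] at e2
    linear_combination e1 + e2
  refine sympOver_quad h2 (nondeg_quad_of_polar hf (fun c v => ?_) hp) hp fun g hg => ⟨1, fun v => ?_⟩
  · simp only [Q, Matrix.mulVec_smul, hf.bilinear.smul_left, hf.bilinear.smul_right]
    ring
  have hgi : ∀ u v, f ((g : Matrix (Fin m ⊕ Fin m) (Fin m ⊕ Fin m) F) *ᵥ u) ((g : Matrix (Fin m ⊕ Fin m) (Fin m ⊕ Fin m) F) *ᵥ v) = f u v :=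
    mem_spGL_iff.1 (hH hg)
  set k' := cj g⁻¹ k₀ with hk'
  have hk'K : k' ∈ K := (hle (inv_mem hg) k₀).1 hk₀K
  have hadjg : ∀ g ∈ H, adj σ J (g : Matrix (Fin m ⊕ Fin m) (Fin m ⊕ Fin m) F) =
      (↑g⁻¹ : Matrix (Fin m ⊕ Fin m) (Fin m ⊕ Fin m) F) := fun g hg => by
    rw [adj_sim (isSim_of_mem_spGL (hH hg)), map_one, one_smul]
  have hadjk' : adj σ J k' = cj g⁻¹ (adj σ J k₀) := by
    rw [hk', cj_apply, cj_apply, inv_inv, adj_mul, adj_mul, hadjg g hg, hadjg _ (inv_mem hg), inv_inv, mul_assoc]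
  have hsum : k' + adj σ J k' = 1 := by rw [hadjk', hk', ← map_add, hk₀1, map_one]
  obtain ⟨c, hc⟩ := hfix _ (K.sub_mem hk'K hk₀K) (by
    have e1 : adj σ J k₀ = 1 - k₀ := eq_sub_of_add_eq' hk₀1
    have e2 : adj σ J k' = 1 - k' := eq_sub_of_add_eq' hsum
    rw [sub_eq_add_neg, adj_add, ← neg_one_smul F k₀, adj_smul, e1, e2]
    have h2' : ∀ M : Matrix (Fin m ⊕ Fin m) (Fin m ⊕ Fin m) F, -M = M := fun M => by
      rw [neg_eq_iff_add_eq_zero, ← two_smul F M, h2, zero_smul]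
    simp only [show σ.symm (-1) = (-1 : F) from rfl, neg_one_smul]
    simp only [h2', sub_eq_add_neg]
    rw [show (1 : Matrix (Fin m ⊕ Fin m) (Fin m ⊕ Fin m) F) + k' + (1 + k₀) = (1 + 1) + (k' + k₀) by abel,
      show (1 : Matrix (Fin m ⊕ Fin m) (Fin m ⊕ Fin m) F) + 1 = 0 by rw [← two_smul F (1 : Matrix _ _ F), h2, zero_smul],
      zero_add])
  show f (k₀ *ᵥ ((g : Matrix _ _ F) *ᵥ v)) ((g : Matrix _ _ F) *ᵥ v) = ((1 : Fˣ) : F) * f (k₀ *ᵥ v) v
  have hcomm : k₀ *ᵥ ((g : Matrix (Fin m ⊕ Fin m) (Fin m ⊕ Fin m) F) *ᵥ v) =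
      (g : Matrix (Fin m ⊕ Fin m) (Fin m ⊕ Fin m) F) *ᵥ (k' *ᵥ v) := by
    rw [← cj_mulVec, hk', cj_cj, mul_inv_cancel, cj_one]
  rw [hcomm, hgi, show k' = k₀ + c • 1 by rw [← hc]; abel, Matrix.add_mulVec, hf.bilinear.add_left,
    Matrix.smul_mulVec c 1, Matrix.one_mulVec, hf.bilinear.smul_left c, hf.alternating, Units.val_one, one_mul, mul_zero,
    add_zero]

end CfsgLib.AschbacherForm
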