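import Cfsg.Agent.Lib.AschbacherForm.Descent
import Cfsg.Agent.Lib.AschbacherForm.Skeleton

/-!
The common part of Aschbacher's theorem for symplectic and unitary groups.
-/

set_option autoImplicit false
set_option linter.unusedSectionVars false

namespace CfsgLib.AschbacherForm

open Cfsg Cfsg.Geo CfsgLib.Aschbacher
open scoped Matrix MatrixGroups

universe u
variable {ι : Type} [Fintype ι] [DecidableEq ι] {F : Type u} [Field F] [Fintype F]

/-- Outcomes of the first class. -/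
def Reducible (f : (ι → F) → (ι → F) → F) (H : Subgroup (GL ι F)) : Prop :=
  (∃ U : Submodule F (ι → F), U ≠ ⊥ ∧ IsTotallySingularFor f U ∧ H ≤ subspaceStabilizer U) ∨
  (∃ U : Submodule F (ι → F), U ≠ ⊥ ∧ IsNondegenerateOn f U ∧ 2 * Module.finrank F U < Fintype.card ι ∧
    H ≤ subspaceStabilizer U)

/-- Outcomes of the second class. -/
def Imprimitive (f : (ι → F) → (ι → F) → F) (H : Subgroup (GL ι F)) : Prop :=
  (∃ (t k : ℕ) (E : Fin t → Submodule F (ι → F)), IsNondegenerateMDecomposition f k E ∧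
    H ≤ decompositionStabilizer E) ∨
  (∃ (k : ℕ) (E : Fin 2 → Submodule F (ι → F)), 2 * k = Fintype.card ι ∧ IsMDecomposition k E ∧
    (∀ i, IsTotallySingularFor f (E i)) ∧ H ≤ decompositionStabilizer E)

/-- An adjoint-closed field of prime degree normalised by the group. -/
def FieldExt (f : (ι → F) → (ι → F) → F) (H : Subgroup (GL ι F)) : Prop :=
  ∃ (r : ℕ) (K : Subalgebra F (Matrix ι ι F)), r.Prime ∧ IsFieldSubalgebra r K ∧ IsAdjointClosedFor f K ∧
    H ≤ subalgebraNormalizer K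

/-- An adjoint-closed proper matrix subalgebra normalised by the group. -/
def TensorExt (f : (ι → F) → (ι → F) → F) (H : Subgroup (GL ι F)) : Prop :=
  ∃ (d : ℕ) (φ : Matrix (Fin d) (Fin d) F →ₐ[F] Matrix ι ι F), 2 ≤ d ∧ Function.Injective φ ∧
    φ.range ≠ ⊤ ∧ IsAdjointClosedFor f φ.range ∧ ∀ g ∈ H, ∀ x ∈ φ.range, cj g x ∈ φ.range

theorem stabilizer_irred {H : Subgroup (GL ι F)}
    (h : ¬ ∃ W : Submodule F (ι → F), W ≠ ⊥ ∧ W ≠ ⊤ ∧ H ≤ subspaceStabilizer W) :
    ∀ W : Submodule F (ι → F), H ≤ subspaceStabilizer W → W = ⊥ ∨ W = ⊤ := fun W hW => by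
  by_contra hc
  rw [not_or] at hc
  exact h ⟨W, hc.1, hc.2, hW⟩

theorem actsIrred {H : Subgroup (GL ι F)}
    (h : ∀ W : Submodule F (ι → F), H ≤ subspaceStabilizer W → W = ⊥ ∨ W = ⊤) :
    ActsIrreducibly (matrixSet H) := fun W hW =>
  h W fun g hg => mem_subspaceStabilizer fun v hv => hW _ (val_mem_matrixSet hg) ⟨v, hv, rfl⟩

/-- The common part. -/
theorem form_core {σ : F ≃+* F} {f : (ι → F) → (ι → F) → F} {J : GL ι F} {ε : F} (hG : Geom σ f J ε)
    (hι : 2 ≤ Fintype.card ι) (H : Subgroup (GL ι F))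
    (hH : ∀ h ∈ H, ∀ u v, f ((h : Matrix ι ι F) *ᵥ u) ((h : Matrix ι ι F) *ᵥ v) = f u v) :
    Reducible f H ∨ Imprimitive f H ∨ FieldExt f H ∨
      ((∀ W : Submodule F (ι → F), H ≤ subspaceStabilizer W → W = ⊥ ∨ W = ⊤) ∧
        (TensorExt f H ∨ (∃ N, AbelianData (H ⊔ scalars ι F) N) ∨ (∃ P, SimpleData (H ⊔ scalars ι F) P) ∨
          ∃ (d s : ℕ) (φ : Fin s → (Matrix (Fin d) (Fin d) F →ₐ[F] Matrix ι ι F)),
            Factors (H ⊔ scalars ι F) φ)) := by
  classical
  haveI : Nonempty ι := Fintype.card_pos_iff.1 (by omega)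
  by_cases hred : ∃ W : Submodule F (ι → F), W ≠ ⊥ ∧ W ≠ ⊤ ∧ H ≤ subspaceStabilizer W
  · obtain ⟨W, h0, h1, hW⟩ := hred
    rcases hG.rform.reducible hH h0 h1 hW with h | h | ⟨k, D, -, hD, hle⟩
    · exact Or.inl (Or.inl h)
    · exact Or.inl (Or.inr h)
    · exact Or.inr (Or.inl (Or.inl ⟨2, k, D, hD, hle⟩))
  have hirr := stabilizer_irred hred
  set G := H ⊔ scalars ι F with hGdef
  have hGsim : G ≤ similarityGroup f := by
    refine sup_le (fun h hh => ?_) hG.scalars_le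
    exact ⟨1, fun u v => by rw [Units.val_one, one_mul]; exact hH h hh u v⟩
  have hGirr : ActsIrreducibly (matrixSet G) := fun W hW =>
    actsIrred hirr W fun s hs => hW s (by
      obtain ⟨g, hg, rfl⟩ := hs
      exact val_mem_matrixSet (Subgroup.mem_sup_left hg))
  by_cases hall : ∀ M : Subgroup (GL ι F), scalars ι F ≤ M → M ≤ G →
      (∀ g ∈ G, ∀ a ∈ M, g * a * g⁻¹ ∈ M) → M ≠ scalars ι F → ActsAbsolutelyIrreducibly (matrixSet M)
  · exact Or.inr (Or.inr (Or.inr ⟨hirr, Or.inr (skeleton hι le_sup_right hGirr hall)⟩))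
  simp only [not_forall] at hall
  obtain ⟨M, hscM, hMG, hM, hMne, hnab⟩ := hall
  have hMsim := hMG.trans hGsim
  by_cases hz : IsScalar (algCenter M)
  · refine Or.inr (Or.inr (Or.inr ⟨hirr, Or.inl ?_⟩))
    obtain ⟨d, φ, hd, hinj, hrange⟩ := alg_matrix (isSemisimple_alg hGirr hM) hz
    have hd2 : 2 ≤ d := by
      by_contra h
      obtain rfl : d = 1 := by omega
      refine hMne (le_antisymm (fun x hx => ?_) hscM)
      obtain ⟨a, ha⟩ : (x : Matrix ι ι F) ∈ φ.range := hrange ▸ val_mem_alg hx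
      have ha1 : a = a 0 0 • (1 : Matrix (Fin 1) (Fin 1) F) := by
        ext i j; simp [Subsingleton.elim i 0, Subsingleton.elim j 0]
      change φ a = _ at ha
      rw [ha1, map_smul, map_one] at ha
      exact mem_scalars_of_eq_smul ha.symm
    refine ⟨d, φ, hd2, hinj, fun e => hnab (absIrred_of_alg_top (hrange.symm.trans e)),
      (hG.adjClosed_iff _).2 fun k hk => ?_, fun g hg x hx => ?_⟩
    · rw [hrange] at hk ⊢
      exact hG.adj_mem_alg hMsim hk
    · rw [hrange] at hx ⊢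
      exact cj_mem_alg (hM g (Subgroup.mem_sup_left hg)) hx
  · have hne : algCenter M ≠ ⊥ := fun e => hz fun x hx => by
      rw [e, Algebra.mem_bot] at hx
      obtain ⟨c, rfl⟩ := hx
      exact ⟨c, Algebra.algebraMap_eq_smul_one c⟩
    have hc : ∀ x ∈ algCenter M, ∀ y ∈ algCenter M, x * y = y * x := fun x hx y hy => commute_of_alg hx.1 hy.2
    rcases hG.rform.commutative_stable hH hirr _ hc
      (fun h hh b hb => cj_mem_algCenter hM h (Subgroup.mem_sup_left hh) b hb)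
      (hG.adjClosed_algCenter hMsim) hne with h | ⟨r, K, hr, hK, -, hadj, hle⟩
    · exact Or.inr (Or.inl h)
    · exact Or.inr (Or.inr (Or.inl ⟨r, K, hr, hK, hadj, hle⟩))

end CfsgLib.AschbacherForm
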