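import Cfsg.Agent.Lib.AschbacherForm.Kron
import Cfsg.Agent.Lib.AschbacherForm.Core

/-!
Tensor decompositions of a form from an adjoint-closed matrix subalgebra.
-/

set_option autoImplicit false
set_option linter.unusedSectionVars false

namespace CfsgLib.AschbacherForm

open Cfsg Cfsg.Geo CfsgLib.Aschbacher
open scoped Matrix MatrixGroups Kronecker

universe u
variable {ι : Type} [Fintype ι] [DecidableEq ι] {F : Type u} [Field F] [Fintype F]

theorem kron_transpose_map (σ : F ≃+* F) {κ μ : Type} (A : Matrix κ κ F) (B : Matrix μ μ F) :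
    ((A ⊗ₖ B).map σ)ᵀ = (A.map σ)ᵀ ⊗ₖ (B.map σ)ᵀ := by
  ext ⟨i, j⟩ ⟨k, l⟩; simp [Matrix.kronecker_apply]

theorem kron_map (σ : F ≃+* F) {κ μ : Type} (A : Matrix κ κ F) (B : Matrix μ μ F) :
    (A ⊗ₖ B).map σ = A.map σ ⊗ₖ B.map σ := by
  ext ⟨i, j⟩ ⟨k, l⟩; simp [Matrix.kronecker_apply]

theorem sim_ne_zero' [Nonempty ι] (σ : F ≃+* F) (S A : GL ι F) :
    (A : Matrix ι ι F)ᵀ * (S : Matrix ι ι F) * (A : Matrix ι ι F).map σ ≠ 0 :=
  ((((Matrix.isUnit_transpose _).2 A.isUnit).mul S.isUnit).mul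
    (A.isUnit.map (RingHom.mapMatrix (σ : F →+* F)))).ne_zero

theorem coordR_cj {κ : Type} [Fintype κ] [DecidableEq κ] (e : ι ≃ κ) (P g : GL ι F) (x : Matrix ι ι F) :
    coordR e P (cj g x) = cj (glReindex e (P⁻¹ * g * P)) (coordR e P x) := by
  rw [cj_apply, cj_apply, map_mul (coordR e P), map_mul (coordR e P), coordR_gl, coordR_gl, ← map_inv]
  congr 3
  group

/-- The tensor decomposition of the form and of the group. -/
theorem tensor_data {σ : F ≃+* F} {f : (ι → F) → (ι → F) → F} {J : GL ι F} {ε : F} (hG : Geom σ f J ε)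
    (hι : 2 ≤ Fintype.card ι) {H : Subgroup (GL ι F)}
    (hH : ∀ h ∈ H, ∀ u v, f ((h : Matrix ι ι F) *ᵥ u) ((h : Matrix ι ι F) *ᵥ v) = f u v) (h : TensorExt f H) :
    ∃ (d k : ℕ) (e : ι ≃ Fin d × Fin k) (P : GL ι F) (S : GL (Fin d) F) (T : GL (Fin k) F) (l m : F),
      2 ≤ d ∧ 2 ≤ k ∧ coordJ σ e P J = kronGL S T ∧
      ((S : Matrix (Fin d) (Fin d) F).map σ)ᵀ = l • (S : Matrix (Fin d) (Fin d) F) ∧
      ((T : Matrix (Fin k) (Fin k) F).map σ)ᵀ = m • (T : Matrix (Fin k) (Fin k) F) ∧ l * m = ε ∧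
      ∀ g ∈ H, ∃ (A : GL (Fin d) F) (B : GL (Fin k) F) (a b : F),
        coordR e P (g : Matrix ι ι F) = (kronGL A B : Matrix (Fin d × Fin k) (Fin d × Fin k) F) ∧
        IsSim σ (S : Matrix (Fin d) (Fin d) F) (A : Matrix (Fin d) (Fin d) F) a ∧
        IsSim σ (T : Matrix (Fin k) (Fin k) F) (B : Matrix (Fin k) (Fin k) F) b ∧ a * b = 1 := by
  classical
  haveI : Nonempty ι := Fintype.card_pos_iff.1 (by omega)
  obtain ⟨d, φ, hd, hinj, htop, hadj, hnorm⟩ := h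
  haveI : Nonempty (Fin d) := ⟨⟨0, by omega⟩⟩
  obtain ⟨k, e, P, hP⟩ := algHom_basis φ
  have hnk : Fintype.card ι = d * k := by simpa using card_eq_of_equiv e
  have hk0 : 0 < k := Nat.pos_of_ne_zero fun e0 => by rw [e0, mul_zero] at hnk; omega
  haveI : Nonempty (Fin k) := ⟨⟨0, hk0⟩⟩
  have hk2 : 2 ≤ k := by
    by_contra hlt
    obtain rfl : k = 1 := by omega
    refine htop (Subalgebra.toSubmodule.injective ((Submodule.eq_top_of_finrank_eq ?_).trans Algebra.top_toSubmodule.symm))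
    have h1 : Module.finrank F φ.range = d * d := by
      rw [← (AlgEquiv.ofInjective φ hinj).toLinearEquiv.finrank_eq, Module.finrank_matrix, Module.finrank_self,
        Fintype.card_fin, mul_one]
    show Module.finrank F φ.range = _
    rw [h1, Module.finrank_matrix, Module.finrank_self, hnk, mul_one, mul_one]
  have hR : ∀ a, coordR e P (φ a) = a ⊗ₖ (1 : Matrix (Fin k) (Fin k) F) := fun a => by
    rw [hP, coordR, AlgEquiv.trans_apply, cj_inv_cj]
    ext x y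
    simp [Matrix.reindexAlgEquiv_apply]
  rw [hG.adjClosed_iff] at hadj
  set Jc := coordJ σ e P J with hJc
  obtain ⟨A₀, B₀, hAB⟩ := kron_decomp Jc⁻¹ fun b => by
    obtain ⟨a', ha'⟩ := hadj (φ bᵀ) ⟨bᵀ, rfl⟩
    refine ⟨a'.map σ, ?_⟩
    have h1 : adj σ Jc (bᵀ ⊗ₖ (1 : Matrix (Fin k) (Fin k) F)) = a' ⊗ₖ (1 : Matrix (Fin k) (Fin k) F) := by
      rw [← hR, hJc, coord_adj, show adj σ J (φ bᵀ) = φ a' from ha'.symm, hR]
    have h2 := adj_gram σ Jc (bᵀ ⊗ₖ (1 : Matrix (Fin k) (Fin k) F))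
    rw [h1, ← Matrix.kroneckerMap_transpose, Matrix.transpose_transpose, Matrix.transpose_one, kron_map,
      Matrix.map_one σ (map_zero σ) (map_one σ)] at h2
    rw [cj_apply, inv_inv, mul_assoc, h2, ← mul_assoc, Units.inv_mul, one_mul]
  set S := A₀⁻¹
  set T := B₀⁻¹
  have hST : Jc = kronGL S T := by
    rw [← inv_inv Jc, hAB]; rfl
  have hsym := coord_symm hG e P
  rw [← hJc, hST, kronGL_val, kron_transpose_map, ← Matrix.smul_kronecker] at hsym
  obtain ⟨c, hc0, hcS, hcT⟩ := kron_proportional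
    (((Matrix.isUnit_transpose _).2 (S.isUnit.map (RingHom.mapMatrix (σ : F →+* F)))).ne_zero)
    (((Matrix.isUnit_transpose _).2 (T.isUnit.map (RingHom.mapMatrix (σ : F →+* F)))).ne_zero) hsym
  refine ⟨d, k, e, P, S, T, ε / c, c, hd, hk2, hST, ?_, hcT, div_mul_cancel₀ ε hc0, fun g hg => ?_⟩
  · rw [div_eq_inv_mul, ← smul_smul, hcS, smul_smul, inv_mul_cancel₀ hc0, one_smul]
    rfl
  obtain ⟨A, B, hAB'⟩ := kron_decomp (glReindex e (P⁻¹ * g * P)) fun a => by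
    obtain ⟨a', ha'⟩ := hnorm g hg (φ a) ⟨a, rfl⟩
    change φ a' = _ at ha'
    refine ⟨a', ?_⟩
    rw [← hR a, ← hR a', ha', coordR_cj]
  have hcoord : coordR e P (g : Matrix ι ι F) = (kronGL A B : Matrix _ _ F) := by rw [coordR_gl, hAB']
  have hsim := coord_sim σ e P J g 1 ((hG.isSim_iff _ _).2 fun u v => by rw [one_mul]; exact hH g hg u v)
  rw [hcoord, ← hJc, hST] at hsim
  unfold IsSim at hsim
  rw [kronGL_val, kronGL_val, kron_map, ← Matrix.kroneckerMap_transpose, ← Matrix.mul_kronecker_mul,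
    ← Matrix.mul_kronecker_mul, one_smul] at hsim
  obtain ⟨c', hc', hS', hT'⟩ := kron_proportional (sim_ne_zero' σ S A) (sim_ne_zero' σ T B) hsim
  refine ⟨A, B, c'⁻¹, c', hcoord, ?_, hT', inv_mul_cancel₀ hc'⟩
  have h3 := congrArg (c'⁻¹ • ·) hS'
  simp only [smul_smul, inv_mul_cancel₀ hc', one_smul] at h3
  exact h3.symm

end CfsgLib.AschbacherForm
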