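import Cfsg.Agent.Lib.AschbacherForm.Quad
import Cfsg.Agent.Lib.AschbacherForm.Tensor
import Cfsg.Agent.Lib.AschbacherForm.SympField
import Cfsg.Agent.Lib.AschbacherForm.Descent

/-!
The fourth class for the symplectic groups.
-/

set_option autoImplicit false
set_option linter.unusedSectionVars false

namespace CfsgLib.AschbacherForm

open Cfsg Cfsg.Geo CfsgLib.Aschbacher
open scoped Matrix MatrixGroups Kronecker

universe u
variable {F : Type u} [Field F]

theorem gramMatrix_formOfGram {κ : Type} [Fintype κ] [DecidableEq κ] (σ : F ≃+* F) (M : Matrix κ κ F) :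
    gramMatrix (formOfGram σ M) = M := Matrix.ext fun i j => formOfGram_single σ M i j

/-- Swapping the factors of a decomposition. -/
theorem coordJ_swap {ι κ μ : Type} [Fintype ι] [DecidableEq ι] [Fintype κ] [DecidableEq κ] [Fintype μ]
    [DecidableEq μ] (σ : F ≃+* F) (e : ι ≃ κ × μ) (P J : GL ι F) (S : GL κ F) (T : GL μ F)
    (h : coordJ σ e P J = kronGL S T) : coordJ σ (e.trans (Equiv.prodComm κ μ)) P J = kronGL T S := by
  refine Units.ext (Matrix.ext fun ⟨a, b⟩ ⟨c, d⟩ => ?_)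
  have h1 := congrFun (congrFun (congrArg (fun g : GL (κ × μ) F => (g : Matrix (κ × μ) (κ × μ) F)) h) (b, a)) (d, c)
  simp only [coordJ_val, Matrix.submatrix_apply, kronGL_val, Matrix.kronecker_apply] at h1 ⊢
  rw [mul_comm]
  exact h1

theorem coordR_swap {ι κ μ : Type} [Fintype ι] [DecidableEq ι] [Fintype κ] [DecidableEq κ] [Fintype μ]
    [DecidableEq μ] (e : ι ≃ κ × μ) (P : GL ι F) (x : Matrix ι ι F) (A : GL κ F) (B : GL μ F)
    (h : coordR e P x = (kronGL A B : Matrix (κ × μ) (κ × μ) F)) :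
    coordR (e.trans (Equiv.prodComm κ μ)) P x = (kronGL B A : Matrix (μ × κ) (μ × κ) F) := by
  refine Matrix.ext fun ⟨a, b⟩ ⟨c, d⟩ => ?_
  have h1 := congrFun (congrFun h (b, a)) (d, c)
  simp only [coordR_apply, Matrix.submatrix_apply, kronGL_val, Matrix.kronecker_apply] at h1 ⊢
  rw [mul_comm]
  exact h1

theorem kron_one_right_injective {κ μ : Type} [Fintype κ] [DecidableEq κ] [Nonempty κ] [Fintype μ] [DecidableEq μ] :
    Function.Injective fun b : Matrix μ μ F => (1 : Matrix κ κ F) ⊗ₖ b := by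
  intro a b h
  ext x y
  simpa [Matrix.kronecker_apply] using congrFun (congrFun h (Classical.arbitrary κ, x)) (Classical.arbitrary κ, y)

/-- The second factor of a tensor decomposition of an irreducible group is irreducible. -/
theorem factor_irred {ι κ μ : Type} [Fintype ι] [DecidableEq ι] [Fintype κ] [DecidableEq κ] [Nonempty κ] [Fintype μ]
    [DecidableEq μ] [Finite F] (e : ι ≃ κ × μ) (P : GL ι F) {H : Subgroup (GL ι F)}
    (hirr : ∀ W : Submodule F (ι → F), H ≤ subspaceStabilizer W → W = ⊥ ∨ W = ⊤) :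
    ActsIrreducibly {B : Matrix μ μ F | ∃ g ∈ H, ∃ A : GL κ F, ∃ B' : GL μ F, B = B' ∧
      coordR e P (g : Matrix ι ι F) = (kronGL A B' : Matrix (κ × μ) (κ × μ) F)} ∨
      ∃ g ∈ H, ∀ (A : GL κ F) (B : GL μ F),
        coordR e P (g : Matrix ι ι F) ≠ (kronGL A B : Matrix (κ × μ) (κ × μ) F) := by
  classical
  by_cases hall : ∀ g ∈ H, ∃ (A : GL κ F) (B : GL μ F),
      coordR e P (g : Matrix ι ι F) = (kronGL A B : Matrix (κ × μ) (κ × μ) F)
  swap
  · push Not at hall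
    exact Or.inr hall
  refine Or.inl fun U hU => ?_
  let Lm : (ι → F) → κ × μ → F := fun v => ((↑P⁻¹ : Matrix ι ι F) *ᵥ v) ∘ e.symm
  let W : Submodule F (ι → F) :=
    { carrier := {v | ∀ i, (fun j => Lm v (i, j)) ∈ U}
      add_mem' := fun {a b} ha hb i => by
        have := U.add_mem (ha i) (hb i)
        convert this using 1
        funext j; simp [Lm, Matrix.mulVec_add]
      zero_mem' := fun i => by
        convert U.zero_mem using 1
        funext j; simp [Lm]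
      smul_mem' := fun c a ha i => by
        have := U.smul_mem c (ha i)
        convert this using 1
        funext j; simp [Lm, Matrix.mulVec_smul] }
  have hW : H ≤ subspaceStabilizer W := fun g hg => mem_subspaceStabilizer fun v hv i => by
    obtain ⟨A, B, hAB⟩ := hall g hg
    have hLg : Lm ((g : Matrix ι ι F) *ᵥ v) = (kronGL A B : Matrix (κ × μ) (κ × μ) F) *ᵥ Lm v := by
      rw [← hAB, coordR_apply, Matrix.submatrix_mulVec_equiv]
      simp [Lm, Matrix.mulVec_mulVec, mul_assoc, Function.comp_assoc]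
    have e1 : (fun j => Lm ((g : Matrix ι ι F) *ᵥ v) (i, j)) =
        ∑ i', (A : Matrix κ κ F) i i' • ((B : Matrix μ μ F) *ᵥ fun j => Lm v (i', j)) := by
      funext j
      rw [hLg]
      simp [kronGL_val, Matrix.mulVec, dotProduct, Fintype.sum_prod_type, Finset.mul_sum, mul_assoc]
    rw [e1]
    exact U.sum_mem fun i' _ => U.smul_mem _ (hU _ ⟨g, hg, A, B, rfl, hAB⟩ ⟨_, hv i', rfl⟩)
  have hLP : ∀ x : κ × μ → F, Lm ((P : Matrix ι ι F) *ᵥ (x ∘ e)) = x := fun x => by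
    simp [Lm, Matrix.mulVec_mulVec, Function.comp_assoc]
  rcases hirr W hW with h | h
  · left
    refine (Submodule.eq_bot_iff _).2 fun u hu => ?_
    have hmem : (P : Matrix ι ι F) *ᵥ ((fun x : κ × μ => u x.2) ∘ e) ∈ W := fun i => by rw [hLP]; exact hu
    rw [h, Submodule.mem_bot] at hmem
    funext j
    have h2 := congrFun ((hLP fun x : κ × μ => u x.2).symm.trans (congrArg Lm hmem)) (Classical.arbitrary κ, j)
    simpa [Lm] using h2
  · right
    refine eq_top_iff.2 fun u _ => ?_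
    have hmem : (P : Matrix ι ι F) *ᵥ ((fun x : κ × μ => u x.2) ∘ e) ∈ W := h ▸ Submodule.mem_top
    have h2 := hmem (Classical.arbitrary κ)
    rwa [hLP] at h2

variable [Fintype F] {m : ℕ}

local notation "σ₀" => RingEquiv.refl F

/-- The skew-symmetric by symmetric case in odd characteristic. -/
theorem symp_tensor_odd (h2 : (2 : F) ≠ 0) (hm : 1 ≤ m) {H : Subgroup (GL (Fin m ⊕ Fin m) F)} (hH : H ≤ spGL m F)
    (hirr : ∀ W : Submodule F (Fin m ⊕ Fin m → F), H ≤ subspaceStabilizer W → W = ⊥ ∨ W = ⊤)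
    {n₁ n₂ : ℕ} (hn₁ : 2 ≤ n₁) (hn₂ : 2 ≤ n₂) (e : (Fin m ⊕ Fin m) ≃ Fin n₁ × Fin n₂) (P : GL (Fin m ⊕ Fin m) F)
    (S : GL (Fin n₁) F) (T : GL (Fin n₂) F) (hJ : coordJ σ₀ e P (Jgl m F) = kronGL S T)
    (hS : (S : Matrix (Fin n₁) (Fin n₁) F)ᵀ = -(S : Matrix (Fin n₁) (Fin n₁) F))
    (hT : (T : Matrix (Fin n₂) (Fin n₂) F)ᵀ = (T : Matrix (Fin n₂) (Fin n₂) F))
    (hdec : ∀ g ∈ H, ∃ (A : GL (Fin n₁) F) (B : GL (Fin n₂) F) (b : F),
      coordR e P (g : Matrix (Fin m ⊕ Fin m) (Fin m ⊕ Fin m) F) = (kronGL A B : Matrix _ _ F) ∧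
      IsSim σ₀ (T : Matrix (Fin n₂) (Fin n₂) F) (B : Matrix (Fin n₂) (Fin n₂) F) b) :
    SympOver m H := by
  classical
  have hodd : Odd (Fintype.card F) := not_not.1 fun ho => h2 (finite_two_iff.2 ho)
  have hG := sympGeom m F
  haveI : Nonempty (Fin m ⊕ Fin m) := ⟨Sum.inl ⟨0, hm⟩⟩
  rcases Nat.lt_or_ge n₂ 3 with hlt | h3
  swap
  · have hdS : ∀ i, (S : Matrix (Fin n₁) (Fin n₁) F) i i = 0 := fun i => by
      have := congrFun (congrFun hS i) i
      simp only [Matrix.transpose_apply, Matrix.neg_apply] at this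
      exact (mul_eq_zero.1 (show (2 : F) * (S : Matrix (Fin n₁) (Fin n₁) F) i i = 0 by
        linear_combination this)).resolve_left h2
    refine ⟨_, Or.inr (Or.inr (Or.inr (Or.inr (Or.inr (Or.inr (Or.inr (Or.inr (Or.inr (Or.inl
      ⟨n₁, n₂, e, P, formOfGram σ₀ (S : Matrix (Fin n₁) (Fin n₁) F), formOfGram σ₀ (T : Matrix (Fin n₂) (Fin n₂) F),
        hodd, h3, symplectic_of_gram S.isUnit hS hdS, ⟨formOfGram_bilinear _, fun u v => ?_, formOfGram_nondeg σ₀ T.isUnit⟩,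
        ⟨1, one_ne_zero, fun x y => ?_⟩, rfl⟩))))))))), fun g hg => ?_⟩
    · have := formOfGram_transpose σ₀ (fun _ => rfl) (T : Matrix (Fin n₂) (Fin n₂) F) u v
      rw [show ((T : Matrix (Fin n₂) (Fin n₂) F).map σ₀)ᵀ = (T : Matrix (Fin n₂) (Fin n₂) F) from hT] at this
      exact this.symm
    · rw [one_mul, gramMatrix_formOfGram, gramMatrix_formOfGram, coord_form hG e P, hJ]
      rfl
    · obtain ⟨A, B, b, hAB, -⟩ := hdec g hg
      exact mem_of_coord e P (kroneckerSubgroup n₁ n₂ F) (kronGL A B) ⟨A, B, rfl⟩ hAB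
  obtain rfl : n₂ = 2 := by omega
  haveI : Nonempty (Fin n₁) := ⟨⟨0, by omega⟩⟩
  set w := (↑T⁻¹ : Matrix (Fin 2) (Fin 2) F) * omega2 F with hw
  set W₀ := (coordR e P).symm ((1 : Matrix (Fin n₁) (Fin n₁) F) ⊗ₖ w) with hW₀
  set B₀ := Algebra.adjoin F {W₀}
  have hcomm : ∀ x ∈ B₀, ∀ y ∈ B₀, x * y = y * x := fun x hx y hy => by
    have h1 : B₀ ≤ cent {W₀} := Algebra.adjoin_le (by rintro _ rfl; exact mem_cent.2 (by rintro _ rfl; rfl))
    have h2' : B₀ ≤ cent {x} := Algebra.adjoin_le (by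
      rintro _ rfl
      exact mem_cent.2 (by rintro _ rfl; exact ((mem_cent.1 (h1 hx)) W₀ rfl).symm))
    exact (mem_cent.1 (h2' hy)) x rfl
  have hW₀B : W₀ ∈ B₀ := Algebra.subset_adjoin rfl
  have hH' := fun g hg => mem_spGL_iff.1 (hH (x := g) hg)
  have hstab : ConjStable H B₀ := fun g hg x hx => by
    have hle : B₀ ≤ B₀.comap (cj g).toAlgHom := Algebra.adjoin_le (by
      rintro _ rfl
      rw [SetLike.mem_coe, Subalgebra.mem_comap]
      show cj g W₀ ∈ B₀
      obtain ⟨A, B, b, hAB, hB⟩ := hdec g hg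
      have hb : b ≠ 0 := isSim_ne_zero hB
      have hgl : glReindex e (P⁻¹ * g * P) = kronGL A B := Units.ext ((coordR_gl e P g).symm.trans hAB)
      have hcw : cj B w = (b / (B : Matrix (Fin 2) (Fin 2) F).det) • w := by
        have hdet : (B : Matrix (Fin 2) (Fin 2) F).det ≠ 0 :=
          ((Matrix.isUnit_iff_isUnit_det _).1 B.isUnit).ne_zero
        have e1 : (B : Matrix (Fin 2) (Fin 2) F) * (↑T⁻¹ : Matrix (Fin 2) (Fin 2) F) * (B : Matrix (Fin 2) (Fin 2) F)ᵀ =
            b • (↑T⁻¹ : Matrix (Fin 2) (Fin 2) F) := by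
          have h0 : (B : Matrix (Fin 2) (Fin 2) F)ᵀ * (T : Matrix (Fin 2) (Fin 2) F) * (B : Matrix (Fin 2) (Fin 2) F) =
            b • (T : Matrix (Fin 2) (Fin 2) F) := hB
          have h1 := congrArg (fun M => (B : Matrix (Fin 2) (Fin 2) F) * (↑T⁻¹ : Matrix (Fin 2) (Fin 2) F) * M *
            (↑B⁻¹ : Matrix (Fin 2) (Fin 2) F) * (↑T⁻¹ : Matrix (Fin 2) (Fin 2) F)) h0
          simp only [mul_assoc, Units.mul_inv, Units.mul_inv_cancel_left, mul_one, Matrix.mul_smul, Matrix.smul_mul,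
            Units.inv_mul_cancel_left] at h1
          simpa only [mul_assoc, one_mul] using h1
        have e2 : (B : Matrix (Fin 2) (Fin 2) F)ᵀ * omega2 F * (B : Matrix (Fin 2) (Fin 2) F) =
            (B : Matrix (Fin 2) (Fin 2) F).det • omega2 F := omega2_congr _
        rw [cj_apply, hw]
        have h3 := congrArg (fun M => (B : Matrix (Fin 2) (Fin 2) F) * (↑T⁻¹ : Matrix (Fin 2) (Fin 2) F) * M *
            (↑B⁻¹ : Matrix (Fin 2) (Fin 2) F)) e2
        simp only [← mul_assoc, e1, Matrix.mul_smul, Matrix.smul_mul] at h3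
        rw [mul_assoc _ (B : Matrix (Fin 2) (Fin 2) F) (↑B⁻¹ : Matrix (Fin 2) (Fin 2) F), Units.mul_inv, mul_one] at h3
        rw [div_eq_inv_mul, mul_smul, h3, smul_smul, inv_mul_cancel₀ hdet, one_smul]
        simp only [mul_assoc]
      have : cj g W₀ = (b / (B : Matrix (Fin 2) (Fin 2) F).det) • W₀ := by
        apply (coordR e P).injective
        rw [coordR_cj, hgl, map_smul, hW₀, AlgEquiv.apply_symm_apply, cj_apply]
        show ((A : Matrix _ _ F) ⊗ₖ (B : Matrix _ _ F)) * _ *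
          ((↑A⁻¹ : Matrix (Fin n₁) (Fin n₁) F) ⊗ₖ (↑B⁻¹ : Matrix (Fin 2) (Fin 2) F)) = _
        rw [← Matrix.mul_kronecker_mul, ← Matrix.mul_kronecker_mul, mul_one, Units.mul_inv, ← cj_apply, hcw,
          Matrix.kronecker_smul]
      rw [this]
      exact B₀.smul_mem hW₀B _)
    exact hle hx
  have hadjW : adj σ₀ (Jgl m F) W₀ = (-1 : F) • W₀ := by
    apply (coordR e P).injective
    rw [← coord_adj, map_smul, hW₀, AlgEquiv.apply_symm_apply, hJ]
    refine adj_eq ?_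
    rw [kronGL_val, ← Matrix.kronecker_smul, kron_map, ← Matrix.kroneckerMap_transpose, ← Matrix.mul_kronecker_mul,
      ← Matrix.mul_kronecker_mul, Matrix.transpose_one, one_mul,
      show (1 : Matrix (Fin n₁) (Fin n₁) F).map σ₀ = 1 from Matrix.map_id _, mul_one,
      show ((-1 : F) • w).map σ₀ = (-1 : F) • w from Matrix.map_id _, hw, Matrix.transpose_mul, Matrix.mul_smul,
      ← mul_assoc, Units.mul_inv, one_mul, mul_assoc]
    have hTi : (↑T⁻¹ : Matrix (Fin 2) (Fin 2) F)ᵀ * (T : Matrix (Fin 2) (Fin 2) F) = 1 := by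
      conv_lhs => arg 2; rw [← hT]
      rw [← Matrix.transpose_mul, Units.mul_inv, Matrix.transpose_one]
    rw [hTi, mul_one]
    congr 1
    ext i j
    fin_cases i <;> fin_cases j <;> simp [omega2]
  have hadj : IsAdjointClosedFor (sympForm m F) B₀ := (hG.adjClosed_iff _).2 fun x hx => by
    induction hx using Algebra.adjoin_induction with
    | mem x hx => rw [Set.mem_singleton_iff.1 hx, hadjW]; exact B₀.smul_mem hW₀B _
    | algebraMap c => rw [adj_algebraMap]; exact B₀.algebraMap_mem _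
    | add x y _ _ hx hy => rw [adj_add]; exact B₀.add_mem hx hy
    | mul x y _ _ hx hy => rw [adj_mul]; exact B₀.mul_mem hy hx
  have hne : B₀ ≠ ⊥ := fun h0 => by
    rw [h0, Algebra.mem_bot] at hW₀B
    obtain ⟨c, hc⟩ := hW₀B
    have h1 := congrArg (coordR e P) hc
    rw [hW₀, AlgEquiv.apply_symm_apply, AlgEquiv.commutes, Algebra.algebraMap_eq_smul_one] at h1
    have h3 : w = c • 1 := kron_one_right_injective (κ := Fin n₁) (by
      show (1 : Matrix (Fin n₁) (Fin n₁) F) ⊗ₖ w = (1 : Matrix (Fin n₁) (Fin n₁) F) ⊗ₖ (c • 1 : Matrix (Fin 2) (Fin 2) F)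
      rw [← h1, Matrix.kronecker_smul, Matrix.one_kronecker_one])
    have h4 : omega2 F = c • (T : Matrix (Fin 2) (Fin 2) F) := by
      have := congrArg ((T : Matrix (Fin 2) (Fin 2) F) * ·) h3
      simpa [hw, ← mul_assoc, Matrix.mul_smul] using this
    have h5 : (omega2 F)ᵀ = omega2 F := by rw [h4, Matrix.transpose_smul, hT]
    have := congrFun (congrFun h5 0) 1
    simp [omega2] at this
    exact h2 (by linear_combination -this)
  rcases hG.rform.commutative_stable hH' hirr B₀ hcomm hstab hadj hne with h | ⟨r, K, hr, hK, -, hKadj, hle⟩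
  · exact symp_imprimitive hH h
  · exact symp_field hm hH ⟨r, K, hr, hK, hKadj, hle⟩

/-- The alternating by symmetric case in characteristic two. -/
theorem symp_tensor_even (h2 : (2 : F) = 0) {H : Subgroup (GL (Fin m ⊕ Fin m) F)} (hH : H ≤ spGL m F)
    (hirr : ∀ W : Submodule F (Fin m ⊕ Fin m → F), H ≤ subspaceStabilizer W → W = ⊥ ∨ W = ⊤)
    {n₁ n₂ : ℕ} (hn₁ : 2 ≤ n₁) (hn₂ : 2 ≤ n₂) (e : (Fin m ⊕ Fin m) ≃ Fin n₁ × Fin n₂) (P : GL (Fin m ⊕ Fin m) F)
    (S : GL (Fin n₁) F) (T : GL (Fin n₂) F) (hJ : coordJ σ₀ e P (Jgl m F) = kronGL S T)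
    (hS : ∀ i, (S : Matrix (Fin n₁) (Fin n₁) F) i i = 0)
    (hT : (T : Matrix (Fin n₂) (Fin n₂) F)ᵀ = (T : Matrix (Fin n₂) (Fin n₂) F))
    (hdec : ∀ g ∈ H, ∃ (A : GL (Fin n₁) F) (B : GL (Fin n₂) F) (b : F),
      coordR e P (g : Matrix (Fin m ⊕ Fin m) (Fin m ⊕ Fin m) F) = (kronGL A B : Matrix _ _ F) ∧
      IsSim σ₀ (T : Matrix (Fin n₂) (Fin n₂) F) (B : Matrix (Fin n₂) (Fin n₂) F) b) :
    SympOver m H := by
  classical
  haveI : Nonempty (Fin n₁) := ⟨⟨0, by omega⟩⟩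
  haveI : Nonempty (Fin n₂) := ⟨⟨0, by omega⟩⟩
  have hirrB : ActsIrreducibly {B : Matrix (Fin n₂) (Fin n₂) F | ∃ g ∈ H, ∃ A : GL (Fin n₁) F, ∃ B' : GL (Fin n₂) F,
      B = B' ∧ coordR e P (g : Matrix (Fin m ⊕ Fin m) (Fin m ⊕ Fin m) F) = (kronGL A B' : Matrix _ _ F)} :=
    (factor_irred e P hirr).resolve_right fun ⟨g, hg, hne⟩ => by
      obtain ⟨A, B, b, hAB, -⟩ := hdec g hg
      exact hne A B hAB
  have hD : ∀ v, formOfGram σ₀ (T : Matrix (Fin n₂) (Fin n₂) F) v v = 0 := by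
    intro v
    have hb := formOfGram_bilinear (T : Matrix (Fin n₂) (Fin n₂) F)
    have hsym : ∀ u v, formOfGram σ₀ (T : Matrix (Fin n₂) (Fin n₂) F) u v =
        formOfGram σ₀ (T : Matrix (Fin n₂) (Fin n₂) F) v u := fun u v => by
      have := formOfGram_transpose σ₀ (fun _ => rfl) (T : Matrix (Fin n₂) (Fin n₂) F) u v
      rw [show ((T : Matrix (Fin n₂) (Fin n₂) F).map σ₀)ᵀ = (T : Matrix (Fin n₂) (Fin n₂) F) from hT] at this
      exact this.symm
    refine semilinear_vanishes h2 (by simp; omega) hirrB (fun v => formOfGram σ₀ (T : Matrix (Fin n₂) (Fin n₂) F) v v)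
      (fun u w => ?_) (fun c w => ?_) ?_ v
    · simp only [hb.add_left, hb.add_right]
      rw [hsym w u]
      linear_combination (formOfGram σ₀ (T : Matrix (Fin n₂) (Fin n₂) F) u w) * h2
    · simp only [hb.smul_left, hb.smul_right]; ring
    · rintro _ ⟨g, hg, A, B', rfl, hAB⟩ w hw
      obtain ⟨A₂, B₂, b, hAB₂, hB₂⟩ := hdec g hg
      obtain ⟨c, hc, -, hcB⟩ := kron_proportional A.isUnit.ne_zero B'.isUnit.ne_zero (hAB.symm.trans hAB₂)
      rw [hcB, Matrix.smul_mulVec, hb.smul_left, hb.smul_right, formOfGram_mulVec, hB₂, formOfGram_smul, hw]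
      ring
  exact sympOver_of_pairs h2 hH e P (S : Matrix (Fin n₁) (Fin n₁) F) T (by rw [hJ, kronGL_val]) hS
    (fun j => by rw [← formOfGram_single σ₀ (T : Matrix (Fin n₂) (Fin n₂) F) j j]; exact hD _) hT fun g hg y => by
      obtain ⟨A, B, b, hAB, -⟩ := hdec g hg
      exact ⟨fun i => (A : Matrix (Fin n₁) (Fin n₁) F) i y.1, fun j => (B : Matrix (Fin n₂) (Fin n₂) F) j y.2,
        fun x => by rw [hAB]; rfl⟩

/-- An adjoint-closed tensor factor leads to a member. -/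
theorem symp_tensor (hm : 1 ≤ m) {H : Subgroup (GL (Fin m ⊕ Fin m) F)} (hH : H ≤ spGL m F)
    (hirr : ∀ W : Submodule F (Fin m ⊕ Fin m → F), H ≤ subspaceStabilizer W → W = ⊥ ∨ W = ⊤)
    (h : TensorExt (sympForm m F) H) : SympOver m H := by
  classical
  obtain ⟨d, k, e, P, S, T, l, μ, hd, hk, hJ, hS, hT, hlμ, hdec⟩ := tensor_data (sympGeom m F)
    (by simp; omega) (fun g hg => mem_spGL_iff.1 (hH hg)) h
  replace hS : (S : Matrix (Fin d) (Fin d) F)ᵀ = l • (S : Matrix (Fin d) (Fin d) F) := hS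
  replace hT : (T : Matrix (Fin k) (Fin k) F)ᵀ = μ • (T : Matrix (Fin k) (Fin k) F) := hT
  haveI : Nonempty (Fin d) := ⟨⟨0, by omega⟩⟩
  have hl2 : l * l = 1 := by
    have h1 : (l * l - 1) • (S : Matrix (Fin d) (Fin d) F) = 0 := by
      rw [sub_smul, one_smul, ← smul_smul, ← hS, ← Matrix.transpose_smul, ← hS, Matrix.transpose_transpose, sub_self]
    exact sub_eq_zero.1 ((smul_eq_zero.1 h1).resolve_right S.isUnit.ne_zero)
  have hJ' := coordJ_swap σ₀ e P (Jgl m F) S T hJ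
  have hdec1 : ∀ g ∈ H, ∃ (A : GL (Fin d) F) (B : GL (Fin k) F) (b : F),
      coordR e P (g : Matrix (Fin m ⊕ Fin m) (Fin m ⊕ Fin m) F) = (kronGL A B : Matrix _ _ F) ∧
      IsSim σ₀ (T : Matrix (Fin k) (Fin k) F) (B : Matrix (Fin k) (Fin k) F) b := fun g hg => by
    obtain ⟨A, B, a, b, h1, -, h3, -⟩ := hdec g hg
    exact ⟨A, B, b, h1, h3⟩
  have hdec2 : ∀ g ∈ H, ∃ (B : GL (Fin k) F) (A : GL (Fin d) F) (a : F),
      coordR (e.trans (Equiv.prodComm _ _)) P (g : Matrix (Fin m ⊕ Fin m) (Fin m ⊕ Fin m) F) = (kronGL B A : Matrix _ _ F) ∧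
      IsSim σ₀ (S : Matrix (Fin d) (Fin d) F) (A : Matrix (Fin d) (Fin d) F) a := fun g hg => by
    obtain ⟨A, B, a, b, h1, h2, -, -⟩ := hdec g hg
    exact ⟨B, A, a, coordR_swap e P _ A B h1, h2⟩
  by_cases h2 : (2 : F) = 0
  · have hneg : ∀ c : F, -c = c := fun c => by rw [neg_eq_iff_add_eq_zero, ← two_mul, h2, zero_mul]
    have hl1 : l = 1 := by
      rcases mul_self_eq_one_iff.1 hl2 with h | h
      · exact h
      · rw [h, hneg]
    have hμ1 : μ = 1 := by rw [hl1, one_mul, hneg] at hlμ; exact hlμ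
    rw [hl1, one_smul] at hS
    rw [hμ1, one_smul] at hT
    have hdiag : ∀ i j, (S : Matrix (Fin d) (Fin d) F) i i * (T : Matrix (Fin k) (Fin k) F) j j = 0 := fun i j => by
      have h1 := congrFun (congrFun (congrArg (fun g : GL (Fin d × Fin k) F => (g : Matrix _ _ F)) hJ) (i, j)) (i, j)
      simp only [coordJ_val, Matrix.submatrix_apply, kronGL_val, Matrix.kronecker_apply] at h1
      rw [← h1]
      have h3 := (sympForm_symplectic m F).alternating ((P : Matrix (Fin m ⊕ Fin m) (Fin m ⊕ Fin m) F) *ᵥ Pi.single (e.symm (i, j)) 1)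
      rw [sympForm_eq_gram, formOfGram_mulVec, formOfGram_single] at h3
      exact h3
    by_cases hSd : ∀ i, (S : Matrix (Fin d) (Fin d) F) i i = 0
    · exact symp_tensor_even h2 hH hirr hd hk e P S T hJ hSd hT hdec1
    · push Not at hSd
      obtain ⟨i, hi⟩ := hSd
      exact symp_tensor_even h2 hH hirr hk hd _ P T S hJ' (fun j => (mul_eq_zero.1 (hdiag i j)).resolve_left hi) hS hdec2
  · rcases mul_self_eq_one_iff.1 hl2 with h | h
    · have hμ : μ = -1 := by rw [h, one_mul] at hlμ; exact hlμ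
      rw [h, one_smul] at hS
      rw [hμ, neg_one_smul] at hT
      exact symp_tensor_odd h2 hm hH hirr hk hd _ P T S hJ' hT hS hdec2
    · have hμ : μ = 1 := by rw [h] at hlμ; linear_combination -hlμ
      rw [h, neg_one_smul] at hS
      rw [hμ, one_smul] at hT
      exact symp_tensor_odd h2 hm hH hirr hd hk e P S T hJ hS hT hdec1

end CfsgLib.AschbacherForm
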