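import Cfsg.Agent.Lib.AschbacherForm.UnitSubfield
import Cfsg.Agent.Lib.AschbacherForm.AbelianTools
import Cfsg.Agent.Lib.Aschbacher.AbelianMain

/-!
The sixth class for the unitary groups.
-/

set_option autoImplicit false
set_option linter.unusedSectionVars false

namespace CfsgLib.AschbacherForm

open Cfsg Cfsg.Geo CfsgLib.Aschbacher
open scoped Matrix MatrixGroups

universe u
variable {F : Type u} [Field F] [Fintype F] {n q : ℕ} {τ : F ≃+* F}

theorem UForm.mult_fixed [NeZero n] (hU : UForm n q τ) {g : GL (Fin n) F} {μ : F}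
    (h : IsSim τ ((1 : GL (Fin n) F) : Matrix (Fin n) (Fin n) F) (g : Matrix (Fin n) (Fin n) F) μ) : μ ^ q = μ := by
  rw [← hU.pow]
  have h1 : IsSim τ ((1 : GL (Fin n) F) : Matrix (Fin n) (Fin n) F) (g : Matrix (Fin n) (Fin n) F) (τ μ) := by
    unfold IsSim at h ⊢
    have h2 := congrArg (fun M : Matrix (Fin n) (Fin n) F => (M.map τ)ᵀ) h
    simp only [map_mul_equiv, Matrix.transpose_mul, Matrix.map_smul' (hf := map_mul τ), Matrix.transpose_smul,
      Units.val_one, Matrix.map_one τ (map_zero τ) (map_one τ), Matrix.transpose_one,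
      Matrix.transpose_map, Matrix.transpose_transpose, mul_one, one_mul] at h2
    rw [show ((g : Matrix (Fin n) (Fin n) F).map τ).map τ = g by ext; simp [hU.invol]] at h2
    rw [Units.val_one, mul_one]
    exact h2
  exact isSim_unique h1 h

theorem UForm.pow_mult [NeZero n] (hU : UForm n q τ) {x : GL (Fin n) F} {μ : F}
    (h : IsSim τ ((1 : GL (Fin n) F) : Matrix (Fin n) (Fin n) F) (x : Matrix (Fin n) (Fin n) F) μ) {z : ℕ}
    (hx : x ^ z = 1) : μ ^ z = 1 := by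
  have h1 : ∀ k : ℕ, IsSim τ ((1 : GL (Fin n) F) : Matrix (Fin n) (Fin n) F)
      ((x ^ k : GL (Fin n) F) : Matrix (Fin n) (Fin n) F) (μ ^ k) := by
    intro k
    induction k with
    | zero => rw [pow_zero, pow_zero, Units.val_one]; exact isSim_one τ 1
    | succ k ih => rw [pow_succ, pow_succ, Units.val_mul]; exact isSim_mul ih h
  have h2 := h1 z
  rw [hx] at h2
  exact isSim_unique (J := (1 : GL (Fin n) F)) h2 (by rw [Units.val_one]; exact isSim_one τ 1)

/-- The roots of order four. -/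
theorem UForm.exists_i (hU : UForm n q τ) (h2 : (2 : F) ≠ 0) : ∃ i : Fˣ, orderOf i = 4 := by
  obtain ⟨g, hg⟩ := IsCyclic.exists_monoid_generator (α := Fˣ)
  have hord : orderOf g = q ^ 2 - 1 := by
    rw [orderOf_eq_card_of_forall_mem_powers hg, Nat.card_units, Nat.card_eq_fintype_card, hU.card]
  obtain ⟨a, ha⟩ := hU.two_iff.1 h2
  have h4 : 4 ∣ q ^ 2 - 1 := ⟨a * a + a, by subst ha; ring_nf; omega⟩
  have hq := hU.q_pos
  have hpos : 2 ^ 2 ≤ q ^ 2 := Nat.pow_le_pow_left hq 2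
  obtain ⟨c, hc⟩ := h4
  refine ⟨g ^ c, ?_⟩
  rw [orderOf_pow' g (by omega), hord, hc, Nat.gcd_eq_right (dvd_mul_left c 4), Nat.mul_div_cancel _ (by omega)]

set_option maxHeartbeats 1000000 in
/-- A minimal normal subgroup abelian modulo scalars leads to the fifth or sixth class. -/
theorem unit_abelian (hU : UForm n q τ) (hn : 2 ≤ n) {H : Subgroup (GL (Fin n) F)} (hH : H ≤ GU n F q)
    (hirrH : ActsIrreducibly (matrixSet H))
    {N : Subgroup (GL (Fin n) F)} (h : AbelianData (H ⊔ scalars (Fin n) F) N) : UnitOver n q H := by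
  classical
  haveI : NeZero n := ⟨by omega⟩
  haveI : Nonempty (Fin n) := ⟨⟨0, by omega⟩⟩
  have hG := hU.geom
  set G := H ⊔ scalars (Fin n) F with hGdef
  have hGs : G ≤ similarityGroup (hermForm n F q) := hU.le_similarity hH
  obtain ⟨r, ζ₀, hr, hpow, hζ₀, x₀, hx₀, y₀, hy₀, hxy⟩ := abelian_exponent h
  have hnorm1 : (ζ₀ : F) * τ (ζ₀ : F) = 1 := comm_scalar_iso hG hGs h hx₀ hy₀ hxy
  obtain ⟨z, ζ, hz, hζ, R, hR, hnorm, hlift, hzq⟩ : ∃ (z : ℕ) (ζ : Fˣ), z = r * Nat.gcd 2 r ∧ orderOf ζ = z ∧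
      ∃ R : Subgroup (GL (Fin n) F), (∀ x, x ∈ R ↔ x ∈ N ∧ x ^ z = 1) ∧ (∀ g ∈ G, ∀ x ∈ R, g * x * g⁻¹ ∈ R) ∧
        (∀ x ∈ N, ∃ c : Fˣ, sc c * x ∈ R) ∧ (Odd r → z ∣ q + 1) := by
    rcases hr.eq_two_or_odd' with rfl | hodd
    · have hm1 : (ζ₀ : F) = -1 := by
        have h1 : (ζ₀ : F) * ζ₀ = 1 := by
          rw [← sq, ← Units.val_pow_eq_pow_val, ← hζ₀, pow_orderOf_eq_one, Units.val_one]
        refine (mul_self_eq_one_iff.1 h1).resolve_left fun e => ?_
        rw [show ζ₀ = 1 from Units.ext e, orderOf_one] at hζ₀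
        omega
      have h2 : (2 : F) ≠ 0 := fun e => by
        rw [show ζ₀ = 1 from Units.ext (by rw [hm1, Units.val_one]; linear_combination -e), orderOf_one] at hζ₀
        omega
      obtain ⟨i, hi⟩ := hU.exists_i h2
      have hi2 : (i : F) ^ 2 = -1 := by
        have h4 : (i : F) ^ 4 = 1 := by rw [← Units.val_pow_eq_pow_val, ← hi, pow_orderOf_eq_one, Units.val_one]
        refine (mul_self_eq_one_iff.1 (show (i : F) ^ 2 * (i : F) ^ 2 = 1 by linear_combination h4)).resolve_left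
          fun e => ?_
        have h5 : i ^ 2 = 1 := Units.ext (by rw [Units.val_pow_eq_pow_val, e, Units.val_one])
        have := orderOf_dvd_of_pow_eq_one h5
        rw [hi] at this
        omega
      obtain ⟨R, hR, hnorm⟩ := exists_rootGroup (by omega) h hpow (z := 4) ⟨3, rfl⟩
      refine ⟨4, i, rfl, hi, R, hR, hnorm, fun x hx => ?_, fun ho => absurd ho (by decide)⟩
      obtain ⟨c, hc⟩ := h.lift hr hpow (fun c hc => by
        rw [show Nat.choose 2 2 = 1 from rfl, pow_one]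
        rcases mul_self_eq_one_iff.1 (show (c : F) * c = 1 by
          rw [← sq, ← Units.val_pow_eq_pow_val, hc, Units.val_one]) with e | e
        · exact ⟨1, by rw [one_pow]; exact Units.ext e.symm⟩
        · exact ⟨i, Units.ext (by rw [Units.val_pow_eq_pow_val, hi2, e])⟩) x hx
      exact ⟨c, (hR _).2 ⟨N.mul_mem (h.scal (sc_mem c)) hx, by rw [show 4 = 2 * 2 from rfl, pow_mul, hc, one_pow]⟩⟩
    · have hch : r ∣ r.choose 2 := hr.dvd_choose_self two_ne_zero (by
        have : r ≠ 2 := by rintro rfl; exact absurd hodd (by decide)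
        have := hr.two_le
        omega)
      obtain ⟨R, hR, hnorm⟩ := exists_rootGroup (by omega) h hpow hch
      refine ⟨r, ζ₀, by rw [show Nat.gcd 2 r = 1 from Nat.coprime_two_left.2 hodd, mul_one], hζ₀, R, hR, hnorm,
        fun x hx => ?_, fun _ => ?_⟩
      · obtain ⟨c, hc⟩ := h.lift hr hpow (fun c hc => ⟨1, by
          obtain ⟨k, hk⟩ := hch
          rw [one_pow, hk, pow_mul, hc, one_pow]⟩) x hx
        exact ⟨c, (hR _).2 ⟨N.mul_mem (h.scal (sc_mem c)) hx, hc⟩⟩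
      · rw [← hζ₀]
        refine orderOf_dvd_of_pow_eq_one (Units.ext ?_)
        rw [Units.val_pow_eq_pow_val, pow_succ, ← hU.pow, mul_comm, hnorm1, Units.val_one]
  have hRN : R ≤ N := fun x hx => ((hR x).1 hx).1
  obtain ⟨κ, _, t, b, htR, hb, hcov, hdist, hcard, e₀, he₀⟩ := h.exists_basis hr hpow hRN hlift
  have habs := absIrred_of_lift (by omega) h hlift
  obtain ⟨hcov', hcR, hcZ⟩ := h.card_roots hζ hR htR hcov hdist
  have hz0 : z ≠ 0 := by rw [hz]; exact mul_ne_zero hr.ne_zero (Nat.gcd_pos_of_pos_left _ two_pos).ne'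
  haveI : NeZero z := ⟨hz0⟩
  have hroot : ∀ c : F, c ^ z = 1 → c ∈ Subfield.closure {(ζ : F)} := fun c hc => by
    obtain ⟨i, -, hi⟩ := (IsPrimitiveRoot.coe_units_iff.2 (hζ ▸ IsPrimitiveRoot.orderOf ζ :
      IsPrimitiveRoot ζ z)).eq_pow_of_pow_eq_one hc
    rw [← hi]
    exact pow_mem (Subfield.subset_closure (Set.mem_singleton (ζ : F))) i
  have hμ : ∀ x ∈ R, ∃ μ : F, IsSim τ ((1 : GL (Fin n) F) : Matrix (Fin n) (Fin n) F)
      (x : Matrix (Fin n) (Fin n) F) μ ∧ μ ^ z = 1 ∧ μ ^ q = μ := fun x hx => by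
    obtain ⟨μ, hμ⟩ := (hG.mem_similarity_iff x).1 (hGs (h.le (hRN hx)))
    exact ⟨μ, hμ, hU.pow_mult hμ ((hR x).1 hx).2, hU.mult_fixed hμ⟩
  by_cases htop : Subfield.closure {(ζ : F)} = ⊤
  swap
  · have hreal : RealisableOver (Subfield.closure {(ζ : F)}) (matrixSet R) := by
      refine realisable_of_basis habs t ?_ hcard (fun x hx => ?_) htR
      · have := b.linearIndependent
        rwa [show ⇑b = fun k => (t k : Matrix (Fin n) (Fin n) F) from funext hb] at this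
      · obtain ⟨k, c, hc, rfl⟩ := hcov' x hx
        refine ⟨k, ⟨(c : F), hroot _ (by rw [← Units.val_pow_eq_pow_val, hc, Units.val_one])⟩, ?_⟩
        exact sc_mul_val c _
    obtain ⟨F₁, r', Q, ζ', hr', hcardF, hζ', hle, hrat, -⟩ :=
      subfield_data habs hnorm τ 1 htop hreal fun x hx => by
        obtain ⟨μ, h1, h2, -⟩ := hμ x hx
        exact ⟨μ, hroot μ h2, h1⟩
    exact unit_subfield hU hn hH hirrH hr' hcardF hζ' (le_sup_left.trans hle) hrat
  obtain ⟨p, hp⟩ := CharP.exists F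
  haveI : Fact p.Prime := ⟨CharP.char_is_prime F p⟩
  obtain ⟨e, hpP, he⟩ := FiniteField.card F p
  have hζz : ∀ k, ζ ^ k = 1 ↔ z ∣ k := fun k => by rw [← hζ, orderOf_dvd_iff_pow_eq_one]
  have hzp : z ∣ p ^ (e : ℕ) - 1 := by
    rw [← hζ, ← he, ← Nat.card_eq_fintype_card, ← Nat.card_units]
    exact orderOf_dvd_natCard ζ
  have hmin : ∀ d : ℕ, 0 < d → d < (e : ℕ) → ¬ z ∣ p ^ d - 1 := fun d hd hde hdvd => by
    have h1 : ζ ^ p ^ d = ζ := by
      rw [show p ^ d = p ^ d - 1 + 1 from (Nat.sub_add_cancel (Nat.one_le_pow _ _ hpP.pos)).symm, pow_succ,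
        (hζz _).2 hdvd, one_mul]
    have h2 := card_le_of_root_mem hd (by rw [← Units.val_pow_eq_pow_val, h1]) htop
    rw [he] at h2
    exact absurd ((Nat.pow_le_pow_iff_right hpP.one_lt).1 h2) (by omega)
  have hrp : r ≠ p := by
    rintro rfl
    have h1 : r ∣ r ^ (e : ℕ) - 1 := dvd_trans (hz ▸ dvd_mul_right _ _) hzp
    have h2 : r ∣ r ^ (e : ℕ) := dvd_pow_self r e.pos.ne'
    have h3 : r ∣ 1 := by
      have := Nat.dvd_sub h2 h1
      rwa [Nat.sub_sub_self (Nat.one_le_pow _ _ hr.pos)] at this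
    exact hr.not_dvd_one h3
  obtain ⟨k₀, hk₀⟩ : ∃ k₀, (e : ℕ) = 2 * k₀ := by
    have h1 : q ∣ p ^ (e : ℕ) := by rw [← he, hU.card]; exact dvd_pow_self q two_ne_zero
    obtain ⟨j, -, hj⟩ := (Nat.dvd_prime_pow hpP).1 h1
    refine ⟨j, Nat.pow_right_injective hpP.two_le ?_⟩
    show p ^ (e : ℕ) = p ^ (2 * j)
    rw [← he, hU.card, hj, ← pow_mul, mul_comm]
  have hqk : q = p ^ k₀ := Nat.pow_left_injective two_ne_zero (show q ^ 2 = (p ^ k₀) ^ 2 by
    rw [← hU.card, he, hk₀, ← pow_mul, mul_comm])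
  obtain ⟨k, hnk, hκ⟩ := exists_degree hr he₀ hcard
  rw [Fintype.card_fin] at hnk
  have hk1 : 1 ≤ k := Nat.one_le_iff_ne_zero.2 (by rintro rfl; simp at hnk; omega)
  have hdiv : z ∣ q + 1 ∧ (r = 2 → (e : ℕ) = 2 ∧ z = 4) := by
    rcases hr.eq_two_or_odd' with rfl | hodd
    · have hz4 : z = 4 := by rw [hz]; rfl
      subst hz4
      have hpo := (hpP.eq_two_or_odd').resolve_left fun e => hrp e.symm
      have he2 : (e : ℕ) = 2 := by
        by_contra hne
        refine hmin 2 two_pos (by have := e.pos; omega) ?_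
        obtain ⟨c, hc⟩ := hpo
        exact ⟨c * c + c, by rw [hc]; ring_nf; omega⟩
      have hk01 : k₀ = 1 := by omega
      have hnd := hmin 1 one_pos (by omega)
      rw [pow_one] at hnd
      have hp2 : p % 2 = 1 := Nat.odd_iff.1 hpo
      refine ⟨?_, fun _ => ⟨he2, rfl⟩⟩
      rw [hqk, hk01, pow_one]
      omega
    · exact ⟨hzq hodd, fun e => absurd (e ▸ hodd) (by decide)⟩
  have hRsim : R ≤ similarityGroup (hermForm n F q) := fun x hx => hGs (h.le (hRN hx))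
  have hRGU : Odd r → R ≤ GU n F q := fun hodd x hx => by
    obtain ⟨μ, h1, h2, h3⟩ := hμ x hx
    have hzr : z = r := by rw [hz, show Nat.gcd 2 r = 1 from Nat.coprime_two_left.2 hodd, mul_one]
    have hμ0 : μ ≠ 0 := fun e0 => by rw [e0, zero_pow hz0] at h2; exact zero_ne_one h2
    have h4 : μ ^ 2 = 1 := by
      obtain ⟨a, ha⟩ := hzq hodd
      have h5 : μ ^ (q + 1) = 1 := by rw [ha, pow_mul, h2, one_pow]
      rw [pow_succ, h3] at h5
      rw [sq, h5]
    have h6 : μ = 1 := by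
      obtain ⟨a, ha⟩ := hodd
      rw [hzr, ha, pow_succ, pow_mul, h4, one_pow, one_mul] at h2
      exact h2
    exact hU.mem_GU (h6 ▸ h1)
  refine ⟨subgroupNormalizer R, Or.inr (Or.inr (Or.inr (Or.inr (Or.inr (Or.inr (Or.inr (Or.inl
    ⟨r, R, p, (e : ℕ), k, h.isSymplecticType hr hz hR hζ hnorm hlift, habs, hRsim, hrp,
      ⟨hpP, hp, he, hcZ.symm ▸ hzp, fun d hd hde => hcZ.symm ▸ hmin d hd hde⟩, ?_, rfl, hnk, hcZ.symm ▸ hdiv.1,
      hRGU, fun x hx y hy => h.comm x (hRN hx) y (hRN hy)⟩))))))), fun g hg => Subgroup.mem_normalizer_iff.2 fun x =>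
      ⟨hnorm g (Subgroup.mem_sup_left hg) x,
        fun hx => by simpa [mul_assoc] using hnorm g⁻¹ (Subgroup.mem_sup_left (H.inv_mem hg)) _ hx⟩⟩
  rcases hr.eq_two_or_odd' with rfl | hodd
  · obtain ⟨he2, hz4⟩ := hdiv.2 rfl
    exact Or.inr ⟨rfl, he2, by rw [hcZ, hz4], by rw [hcR, hκ, hz4, pow_add]; norm_num⟩
  · have hzr : z = r := by rw [hz, show Nat.gcd 2 r = 1 from Nat.coprime_two_left.2 hodd, mul_one]
    exact Or.inl ⟨hodd, by rw [hcZ, hzr], hk1, by rw [hcR, hκ, hzr, pow_add, pow_one]⟩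

end CfsgLib.AschbacherForm
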