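import Cfsg.Agent.Lib.AschbacherForm.UnitWreath
import Cfsg.Agent.Lib.AschbacherForm.UnitAbelian
import Cfsg.Agent.Lib.AschbacherForm.SympMain

/-!
Aschbacher's theorem for the unitary groups.
-/

set_option autoImplicit false
set_option linter.unusedSectionVars false

namespace CfsgLib.AschbacherForm

open Cfsg Cfsg.Geo CfsgLib.Aschbacher
open scoped Matrix MatrixGroups commutatorElement

universe u
variable {F : Type u} [Field F] [Fintype F] {n q : ℕ} {τ : F ≃+* F}

/-- The almost simple case. -/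
theorem unit_simple (hU : UForm n q τ) (hn : 2 ≤ n) {H P : Subgroup (GL (Fin n) F)} (hH : H ≤ GU n F q)
    (hirrH : ActsIrreducibly (matrixSet H))
    (h : SimpleData (H ⊔ scalars (Fin n) F) P) : UnitOver n q H ∨ InUnitaryResidualClass H := by
  classical
  haveI : Nonempty (Fin n) := ⟨⟨0, by omega⟩⟩
  have hPI : ∀ x ∈ P, IsSim τ ((1 : GL (Fin n) F) : Matrix (Fin n) (Fin n) F)
      (x : Matrix (Fin n) (Fin n) F) 1 := fun x hx => hU.isSim (hH (h.le' hx))
  by_cases hsub : ∃ F₀ : Subfield F, F₀ ≠ ⊤ ∧ RealisableOver F₀ (matrixSet P)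
  · obtain ⟨F₀, hF₀, hreal⟩ := hsub
    obtain ⟨F₁, r, Q, z, hr, hcard, hz, hle, hrat, -⟩ :=
      subfield_data h.absIrred h.normal τ 1 hF₀ hreal fun x hx => ⟨1, F₀.one_mem, hPI x hx⟩
    exact Or.inl (unit_subfield hU hn hH hirrH hr hcard hz (le_sup_left.trans hle) hrat)
  push Not at hsub
  have hbil : ∀ f : (Fin n → F) → (Fin n → F) → F, IsBilinearForm f → IsNondegenerateForm f →
      FixesForm (matrixSet P) f → False := fun f hf hnd hfix => by
    have he := bilinear_eq_gram hf
    have hJ := isUnit_of_nondeg (RingEquiv.refl F) (he ▸ hnd)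
    refine hsub _ (fixField_ne_top hU.ne) (realisable_of_two_forms h.absIrred hU.ne hU.invol hJ.unit 1
      (fun x hx => ?_) fun x hx => ?_)
    · rw [IsUnit.unit_spec]
      have h1 : (x : Matrix (Fin n) (Fin n) F)ᵀ * gramMatrix f * (x : Matrix (Fin n) (Fin n) F).map (RingEquiv.refl F) =
          gramMatrix f := gram_inj (RingEquiv.refl F) fun u v => by
        rw [← formOfGram_mulVec, ← he]
        exact hfix _ (val_mem_matrixSet hx) u v
      rwa [show (x : Matrix (Fin n) (Fin n) F).map (RingEquiv.refl F) = x from Matrix.map_id _] at h1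
    · have := hPI x hx
      rwa [IsSim, one_smul] at this
  refine Or.inr ⟨P, h.core hsub, ?_, ?_⟩
  · rintro ⟨Q, hQ, hfix⟩
    refine hbil _ hQ.polar_bilinear hQ.nondegenerate fun s hs u v => ?_
    simp only [QuadraticMap.polar, ← Matrix.mulVec_add, hfix s hs]
  · rintro ⟨f, hf, hfix⟩
    exact hbil f hf.bilinear hf.nondegenerate hfix

/-- Aschbacher's theorem for the unitary groups. -/
theorem unitary_structure (hU : UForm n q τ) (hn : 2 ≤ n) (H : Subgroup (GL (Fin n) F)) (hH : H ≤ GU n F q) :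
    UnitOver n q H ∨ InUnitaryResidualClass H := by
  haveI : NeZero n := ⟨by omega⟩
  rcases form_core hU.geom (by simpa using hn) H (fun g hg => hH hg) with
    h | h | h | ⟨hirr, h | ⟨N, hN⟩ | ⟨P, hP⟩ | ⟨d, s, φ, hφ⟩⟩
  · exact Or.inl (unit_reducible h)
  · exact Or.inl (unit_imprimitive h)
  · exact Or.inl (unit_field hU h)
  · exact Or.inl (unit_tensor hU hn hH h)
  · exact Or.inl (unit_abelian hU hn hH (actsIrred hirr) hN)
  · exact unit_simple hU hn hH (actsIrred hirr) hP
  · exact Or.inl (unit_wreath hU hn hH hφ)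

end CfsgLib.AschbacherForm
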