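import Mathlib
import Cfsg.Agent.Lib.AschbacherForm.Basic

/-!
Imprimitive isometry groups: a system of imprimitivity with pairwise orthogonality gives a member of the second class.
-/

set_option autoImplicit false

namespace CfsgLib.AschbacherForm

open scoped Matrix MatrixGroups

variable {ι : Type} [Fintype ι] [DecidableEq ι] {F : Type*} [Field F]

theorem map_eq_of_stab {U : Submodule F (ι → F)} {g : GL ι F} (hg : g ∈ Cfsg.Geo.subspaceStabilizer U) :
    U.map (Matrix.toLin' (g : Matrix ι ι F)) = U := by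
  refine le_antisymm ?_ fun v hv => ?_
  · rintro _ ⟨v, hv, rfl⟩; exact (hg v).1 hv
  · refine ⟨((g⁻¹ : GL ι F) : Matrix ι ι F) *ᵥ v, ((inv_mem hg : g⁻¹ ∈ _) v).1 hv, ?_⟩
    rw [Matrix.toLin'_apply, Matrix.mulVec_mulVec, ← Units.val_mul, mul_inv_cancel, Units.val_one,
      Matrix.one_mulVec]

theorem finrank_map_gl (g : GL ι F) (U : Submodule F (ι → F)) :
    Module.finrank F (U.map (Matrix.toLin' (g : Matrix ι ι F))) = Module.finrank F U :=
  (Submodule.equivMapOfInjective _ (by
    rw [Matrix.toLin'_apply']; exact Matrix.mulVec_injective_of_isUnit g.isUnit) U).finrank_eq.symm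

variable {σ : F →+* F} {f : (ι → F) → (ι → F) → F}

theorem RForm.orth_sup (hf : RForm σ f) {κ : Type*} (s : Finset κ) (D : κ → Submodule F (ι → F))
    (W : Submodule F (ι → F)) (h : ∀ i ∈ s, Cfsg.Geo.AreOrthogonalFor f (D i) W) :
    Cfsg.Geo.AreOrthogonalFor f (s.sup D) W := by
  intro u hu w hw
  have hle : s.sup D ≤ LinearMap.ker (hf.left w) := Finset.sup_le fun i hi x hx => h i hi x hx w hw
  exact hle hu

theorem RForm.orth_symm (hf : RForm σ f) {A B : Submodule F (ι → F)} (h : Cfsg.Geo.AreOrthogonalFor f A B) :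
    Cfsg.Geo.AreOrthogonalFor f B A :=
  fun u hu v hv => hf.refl _ _ (h v hv u hu)

/-- An irreducible group of isometries permuting the members of a decomposition in which every member is
orthogonal to all members but one. -/
theorem RForm.imprimitive [Finite F] (hf : RForm σ f) {H : Subgroup (GL ι F)}
    (hH : ∀ h ∈ H, ∀ u v, f ((h : Matrix ι ι F) *ᵥ u) ((h : Matrix ι ι F) *ᵥ v) = f u v)
    (hirr : ∀ W : Submodule F (ι → F), H ≤ Cfsg.Geo.subspaceStabilizer W → W = ⊥ ∨ W = ⊤)
    {κ : Type*} [Fintype κ] (D : κ → Submodule F (ι → F)) (h2 : 2 ≤ Fintype.card κ)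
    (hne : ∀ i, D i ≠ ⊥) (hind : iSupIndep D) (htop : iSup D = ⊤)
    (hperm : ∀ h ∈ H, ∀ i, ∃ j, (D i).map (Matrix.toLin' (h : Matrix ι ι F)) = D j)
    (hpair : ∀ i, ∃ j, ∀ l, l ≠ j → Cfsg.Geo.AreOrthogonalFor f (D i) (D l)) :
    (∃ (t k : ℕ) (E : Fin t → Submodule F (ι → F)), Cfsg.Geo.IsNondegenerateMDecomposition f k E ∧
      H ≤ Cfsg.Geo.decompositionStabilizer E) ∨
    (∃ (k : ℕ) (E : Fin 2 → Submodule F (ι → F)), 2 * k = Fintype.card ι ∧ Cfsg.Geo.IsMDecomposition k E ∧
      (∀ i, Cfsg.Geo.IsTotallySingularFor f (E i)) ∧ H ≤ Cfsg.Geo.decompositionStabilizer E) := by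
  classical
  have hinj : Function.Injective D := by
    intro i j hij
    by_contra hne'
    refine hne i (le_bot_iff.1 ?_)
    calc D i ≤ D i ⊓ D j := le_inf le_rfl hij.le
      _ = ⊥ := disjoint_iff.1 (hind.pairwiseDisjoint hne')
  have hall : ∀ W : Submodule F (ι → F), (∀ l, Cfsg.Geo.AreOrthogonalFor f W (D l)) → W = ⊥ := by
    intro W hW
    refine (Submodule.eq_bot_iff _).2 fun x hx => hf.nondeg x fun y => hf.refl _ _ ?_
    have hle : iSup D ≤ LinearMap.ker (hf.left x) := iSup_le fun l w hw => hf.refl _ _ (hW l x hx w hw)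
    have := hle (htop ▸ Submodule.mem_top : y ∈ iSup D)
    exact hf.refl _ _ this
  choose π hπ using hpair
  have hπne : ∀ i, ¬ Cfsg.Geo.AreOrthogonalFor f (D i) (D (π i)) := fun i h =>
    hne i (hall _ fun l => by
      by_cases hl : l = π i
      · exact hl ▸ h
      · exact hπ i l hl)
  have hππ : ∀ i, π (π i) = i := fun i => by
    by_contra h
    exact hπne i (hf.orth_symm (hπ (π i) i (Ne.symm h)))
  choose τ hτ using hperm
  have hτπ : ∀ h (hh : h ∈ H) i, π (τ h hh i) = τ h hh (π i) := by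
    intro h hh i
    by_contra hcon
    apply hπne i
    intro u hu v hv
    rw [← hH h hh u v]
    exact hπ _ _ (Ne.symm hcon) _ (hτ h hh i ▸ ⟨u, hu, rfl⟩) _ (hτ h hh (π i) ▸ ⟨v, hv, rfl⟩)
  obtain ⟨i₀⟩ : Nonempty κ := Fintype.card_pos_iff.1 (by omega)
  have htrans : ∀ j, ∃ h, ∃ hh : h ∈ H, τ h hh i₀ = j := by
    let S : Finset κ := Finset.univ.filter fun j => ∃ h, ∃ hh : h ∈ H, τ h hh i₀ = j
    have h1 : τ 1 H.one_mem i₀ = i₀ := hinj (by rw [← hτ, Units.val_one, Matrix.toLin'_one, Submodule.map_id])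
    have hS : i₀ ∈ S := Finset.mem_filter.2 ⟨Finset.mem_univ _, 1, H.one_mem, h1⟩
    have hinv : H ≤ Cfsg.Geo.subspaceStabilizer (S.sup D) := fun g hg => mem_subspaceStabilizer fun v hv => by
      have hle : (S.sup D).map (Matrix.toLin' (g : Matrix ι ι F)) ≤ S.sup D := by
        rw [Submodule.map_le_iff_le_comap]
        refine Finset.sup_le fun j hj => ?_
        obtain ⟨h, hh, rfl⟩ := (Finset.mem_filter.1 hj).2
        rw [← Submodule.map_le_iff_le_comap, ← hτ, ← Submodule.map_comp, ← Matrix.toLin'_mul, ← Units.val_mul,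
          hτ (g * h) (mul_mem hg hh)]
        exact Finset.le_sup (Finset.mem_filter.2 ⟨Finset.mem_univ _, _, _, rfl⟩)
      exact hle ⟨v, hv, rfl⟩
    intro j
    rcases hirr _ hinv with h0 | h0
    · exact absurd (le_bot_iff.1 (h0 ▸ Finset.le_sup (f := D) hS)) (hne i₀)
    · by_contra hj
      refine hne j (le_bot_iff.1 ?_)
      calc D j ≤ D j ⊓ S.sup D := le_inf le_rfl (h0.symm ▸ le_top)
        _ ≤ D j ⊓ ⨆ (k) (_ : k ≠ j), D k := inf_le_inf_left _ (Finset.sup_le fun k hk =>
            le_iSup₂_of_le k (fun e => hj (by subst e; exact (Finset.mem_filter.1 hk).2)) le_rfl)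
        _ = ⊥ := disjoint_iff.1 (hind j)
  have hrank : ∀ j, Module.finrank F (D j) = Module.finrank F (D i₀) := fun j => by
    obtain ⟨h, hh, rfl⟩ := htrans j
    rw [← hτ, finrank_map_gl]
  let pr : κ → Finset κ := fun i => {i, π i}
  let K := Finset.univ.image pr
  by_cases hK : K.card ≤ 1
  · -- a single pair of totally singular members
    have hall2 : ∀ j, j = i₀ ∨ j = π i₀ := fun j => by
      have := Finset.card_le_one.1 hK (pr j) (Finset.mem_image.2 ⟨j, Finset.mem_univ _, rfl⟩) (pr i₀)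
        (Finset.mem_image.2 ⟨i₀, Finset.mem_univ _, rfl⟩)
      have hj : j ∈ pr i₀ := this ▸ Finset.mem_insert_self _ _
      simpa [pr] using hj
    have hπ0 : π i₀ ≠ i₀ := fun h => by
      have : Fintype.card κ ≤ 1 := Fintype.card_le_one_iff.2 fun a b => by
        rcases hall2 a with rfl | rfl <;> rcases hall2 b with rfl | rfl <;> simp [h]
      omega
    have hsup : D i₀ ⊔ D (π i₀) = ⊤ := by
      rw [eq_top_iff, ← htop]
      exact iSup_le fun j => by rcases hall2 j with rfl | rfl; exacts [le_sup_left, le_sup_right]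
    have hdisj : Disjoint (D i₀) (D (π i₀)) := hind.pairwiseDisjoint (Ne.symm hπ0)
    refine Or.inr ⟨Module.finrank F (D i₀), ![D i₀, D (π i₀)], ?_, ⟨le_rfl, ?_, ?_, ?_, ?_⟩, ?_, ?_⟩
    · have := Submodule.finrank_add_eq_of_isCompl ⟨hdisj, codisjoint_iff.2 hsup⟩
      rw [hrank (π i₀), Module.finrank_fintype_fun_eq_card] at this
      omega
    · exact Nat.pos_of_ne_zero fun h0 => hne i₀ (Submodule.finrank_eq_zero.1 h0)
    · intro i; fin_cases i
      · rfl
      · exact hrank _
    · rw [iSupIndep_pair (i := (0 : Fin 2)) (j := 1) (by decide) (fun i => by fin_cases i <;> simp)]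
      exact hdisj
    · rw [eq_top_iff, ← hsup]
      exact sup_le (le_iSup (![D i₀, D (π i₀)]) 0) (le_iSup (![D i₀, D (π i₀)]) 1)
    · intro i; fin_cases i
      · exact hπ i₀ i₀ (Ne.symm hπ0)
      · exact hπ (π i₀) (π i₀) (by rw [hππ]; exact hπ0)
    · intro g hg
      rcases hall2 (τ g hg i₀) with h | h
      · refine ⟨1, fun i => ?_⟩
        fin_cases i
        · exact (hτ g hg i₀).trans (by rw [h]; rfl)
        · exact (hτ g hg (π i₀)).trans (by rw [← hτπ, h]; rfl)
      · refine ⟨Equiv.swap 0 1, fun i => ?_⟩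
        fin_cases i
        · exact (hτ g hg i₀).trans (by rw [h]; rfl)
        · exact (hτ g hg (π i₀)).trans (by rw [← hτπ, h, hππ]; rfl)
  · left
    let e := K.equivFin
    let E : Fin K.card → Submodule F (ι → F) := fun a => ((e.symm a : K) : Finset κ).sup D
    have hmem : ∀ a, ∃ i, ((e.symm a : K) : Finset κ) = pr i := fun a => by
      obtain ⟨i, -, hi⟩ := Finset.mem_image.1 (e.symm a).2
      exact ⟨i, hi.symm⟩
    choose r hr using hmem
    have hE : ∀ a, E a = D (r a) ⊔ D (π (r a)) := fun a => by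
      show ((e.symm a : K) : Finset κ).sup D = _
      rw [hr]; simp [pr]
    have hsame : ∀ a b i, i ∈ pr (r a) → i ∈ pr (r b) → a = b := by
      intro a b i ha hb
      have key : ∀ x, i ∈ pr x → pr i = pr x := fun x hx => by
        simp [pr] at hx
        rcases hx with rfl | rfl
        · rfl
        · simp [pr, hππ, Finset.pair_comm]
      have := (key _ ha).symm.trans (key _ hb)
      rw [← hr a, ← hr b] at this
      exact e.symm.injective (Subtype.ext this)
    have horth : ∀ a b, a ≠ b → Cfsg.Geo.AreOrthogonalFor f (E a) (E b) := by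
      intro a b hab
      refine hf.orth_sup _ D _ fun i hi => hf.orth_symm (hf.orth_sup _ D _ fun j hj => hf.orth_symm ?_)
      rw [hr] at hi hj
      refine hπ i j fun hji => hab (hsame a b j ?_ hj)
      subst hji
      simp [pr] at hi ⊢
      rcases hi with rfl | rfl
      · exact Or.inr rfl
      · exact Or.inl (hππ _)
    have hcov : ∀ l, ∃ a, l ∈ pr (r a) := fun l => ⟨e ⟨pr l, Finset.mem_image.2 ⟨l, Finset.mem_univ _, rfl⟩⟩, by
      rw [← hr, Equiv.symm_apply_apply]; exact Finset.mem_insert_self _ _⟩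
    have hDle : ∀ l a, l ∈ pr (r a) → D l ≤ E a := fun l a h => Finset.le_sup (f := D) (by rw [hr]; exact h)
    have hnd : ∀ a, Cfsg.Geo.IsNondegenerateOn f (E a) := by
      intro a
      rw [hf.isNondegenerateOn_iff]
      refine hall _ fun l u hu v hv => ?_
      obtain ⟨b, hb⟩ := hcov l
      by_cases hab : a = b
      · subst hab; exact hu.2 v (hDle l a hb hv)
      · exact horth a b hab u hu.1 v (hDle l b hb hv)
    have hindE : iSupIndep E := by
      intro a
      rw [disjoint_iff]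
      refine (Submodule.eq_bot_iff _).2 fun x hx => (Submodule.eq_bot_iff _).1 ((hf.isNondegenerateOn_iff _).1 (hnd a)) x
        ⟨hx.1, ?_⟩
      have hle : (⨆ (b) (_ : b ≠ a), E b) ≤ hf.perp (E a) := iSup₂_le fun b hb u hu w hw => horth b a hb u hu w hw
      exact hle hx.2
    have hEperm : ∀ g (hg : g ∈ H) a, ∃ b, (E a).map (Matrix.toLin' (g : Matrix ι ι F)) = E b := by
      intro g hg a
      refine ⟨e ⟨pr (τ g hg (r a)), Finset.mem_image.2 ⟨_, Finset.mem_univ _, rfl⟩⟩, ?_⟩
      rw [hE, Submodule.map_sup, hτ g hg, hτ g hg, ← hτπ]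
      show _ = ((e.symm (e _) : K) : Finset κ).sup D
      rw [Equiv.symm_apply_apply]
      simp [pr]
    have hErank : ∀ a, Module.finrank F (E a) = Module.finrank F (D i₀ ⊔ D (π i₀) : Submodule F (ι → F)) := by
      intro a
      obtain ⟨h, hh, hhr⟩ := htrans (r a)
      rw [hE, ← hhr, hτπ, ← hτ h hh, ← hτ h hh, ← Submodule.map_sup, finrank_map_gl]
    refine ⟨K.card, _, E, ⟨⟨by omega, ?_, hErank, hindE, ?_⟩, hnd, horth⟩, fun g hg => ?_⟩
    · refine Nat.pos_of_ne_zero fun h0 => hne i₀ (le_bot_iff.1 ?_)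
      rw [← Submodule.finrank_eq_zero.1 h0]; exact le_sup_left
    · rw [eq_top_iff, ← htop]
      exact iSup_le fun l => by
        obtain ⟨a, ha⟩ := hcov l
        exact (hDle l a ha).trans (le_iSup E a)
    · choose ρ hρ using hEperm g hg
      have hEinj : Function.Injective E := by
        intro a b hab
        by_contra hne'
        refine hne (r a) (le_bot_iff.1 ?_)
        calc D (r a) ≤ E a ⊓ E b := le_inf (hDle _ _ (Finset.mem_insert_self _ _)) (hab ▸ hDle _ _ (Finset.mem_insert_self _ _))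
          _ = ⊥ := disjoint_iff.1 (hindE.pairwiseDisjoint hne')
      have hρi : Function.Injective ρ := fun a b hab => hEinj (Submodule.map_injective_of_injective (by
        rw [Matrix.toLin'_apply']; exact Matrix.mulVec_injective_of_isUnit g.isUnit)
        ((hρ a).trans ((congrArg E hab).trans (hρ b).symm)))
      exact ⟨Equiv.ofBijective ρ (Finite.injective_iff_bijective.1 hρi), hρ⟩

/-- In characteristic two a pair of complementary totally singular subspaces carries a quadratic form. -/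
theorem quad_of_singular_pair [Fintype F] (h2 : (2 : F) = 0) {f : (ι → F) → (ι → F) → F}
    (hf : Cfsg.Geo.IsSymplecticForm f) {A B : Submodule F (ι → F)} (hc : IsCompl A B)
    (hA : Cfsg.Geo.IsTotallySingularFor f A) (hB : Cfsg.Geo.IsTotallySingularFor f B)
    {H : Subgroup (GL ι F)}
    (hH : ∀ h ∈ H, ∀ u v, f ((h : Matrix ι ι F) *ᵥ u) ((h : Matrix ι ι F) *ᵥ v) = f u v)
    (hperm : ∀ h ∈ H, (∀ v, (v ∈ A → (h : Matrix ι ι F) *ᵥ v ∈ A) ∧ (v ∈ B → (h : Matrix ι ι F) *ᵥ v ∈ B)) ∨
      (∀ v, (v ∈ A → (h : Matrix ι ι F) *ᵥ v ∈ B) ∧ (v ∈ B → (h : Matrix ι ι F) *ᵥ v ∈ A))) :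
    ∃ Q : (ι → F) → F, Cfsg.Geo.IsNondegenerateQuadraticForm Q ∧
      (∀ u v, QuadraticMap.polar Q u v = f u v) ∧ H ≤ Cfsg.Geo.quadSimilarityGroup Q := by
  let p := A.projectionOnto B hc
  let q := B.projectionOnto A hc.symm
  let Q : (ι → F) → F := fun x => f (p x : ι → F) (q x : ι → F)
  have hb := hf.bilinear
  have hdec : ∀ x, (p x : ι → F) + (q x : ι → F) = x := fun x =>
    Submodule.projection_add_projection_eq_self hc x
  have hneg : ∀ a : F, -a = a := fun a => by linear_combination -(a * h2)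
  have hsym : ∀ u v, f u v = f v u := fun u v => by rw [hf.skew u v, hneg]
  have hpol : ∀ u v, QuadraticMap.polar Q u v = f u v := by
    intro u v
    have e : f u v = f (p u : ι → F) (q v : ι → F) + f (q u : ι → F) (p v : ι → F) := by
      conv_lhs => rw [← hdec u, ← hdec v]
      rw [hb.add_left, hb.add_right, hb.add_right, hA _ (p u).2 _ (p v).2, hB _ (q u).2 _ (q v).2]
      ring
    simp only [QuadraticMap.polar, Q, map_add, Submodule.coe_add]
    rw [hb.add_left, hb.add_right, hb.add_right, e, hsym (q u : ι → F) (p v : ι → F)]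
    ring
  have hQ : ∀ a ∈ A, ∀ b ∈ B, Q (a + b) = f a b := by
    intro a ha b hb'
    have h1 : p (a + b) = ⟨a, ha⟩ := by
      rw [map_add, show p a = ⟨a, ha⟩ from Submodule.projectionOnto_apply_left hc ⟨a, ha⟩,
        Submodule.projectionOnto_apply_of_mem_right hc hb', add_zero]
    have h1' : q (a + b) = ⟨b, hb'⟩ := by
      rw [map_add, show q b = ⟨b, hb'⟩ from Submodule.projectionOnto_apply_left hc.symm ⟨b, hb'⟩,
        Submodule.projectionOnto_apply_of_mem_right hc.symm ha, zero_add]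
    show f (p (a + b) : ι → F) (q (a + b) : ι → F) = f a b
    rw [h1, h1']
  refine ⟨Q, ⟨fun c v => ?_, ?_, ?_⟩, hpol, fun g hg => ⟨1, fun v => ?_⟩⟩
  · simp only [Q, map_smul, Submodule.coe_smul]
    rw [hb.smul_left, hb.smul_right]; ring
  · rw [show QuadraticMap.polar Q = f from funext fun u => funext (hpol u)]; exact hb
  · rw [show QuadraticMap.polar Q = f from funext fun u => funext (hpol u)]; exact hf.nondegenerate
  · rw [Units.val_one, one_mul, ← hdec v, Matrix.mulVec_add, hQ _ (p v).2 _ (q v).2]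
    rcases hperm g hg with h | h
    · rw [hQ _ ((h _).1 (p v).2) _ ((h _).2 (q v).2), hH g hg]
    · rw [add_comm, hQ _ ((h _).2 (q v).2) _ ((h _).1 (p v).2), hH g hg, hsym]

end CfsgLib.AschbacherForm
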