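import Mathlib
import Cfsg.Agent.Lib.AschbacherForm.Imprimitive
import Cfsg.Agent.Lib.Aschbacher.Fields

/-!
Commutative subalgebras stable under conjugation and adjoints: second and third class.
-/

set_option autoImplicit false
set_option linter.all false

namespace CfsgLib.AschbacherForm

open scoped Matrix MatrixGroups

variable {ι : Type} [Fintype ι] [DecidableEq ι] {F : Type*} [Field F]

/-- Conjugation stability of a set of matrices. -/
def ConjStable (H : Subgroup (GL ι F)) (B : Subalgebra F (Matrix ι ι F)) : Prop :=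
  ∀ h ∈ H, ∀ b ∈ B, (h : Matrix ι ι F) * b * ((h⁻¹ : GL ι F) : Matrix ι ι F) ∈ B

theorem le_normalizer_of_stable {H : Subgroup (GL ι F)} {B : Subalgebra F (Matrix ι ι F)}
    (hB : ConjStable H B) : H ≤ Cfsg.Geo.subalgebraNormalizer B := by
  intro h hh k
  refine ⟨fun hk => hB h hh k hk, fun hk => ?_⟩
  have := hB h⁻¹ (inv_mem hh) _ hk
  simpa [mul_assoc, inv_inv] using this

variable {σ : F →+* F} {f : (ι → F) → (ι → F) → F}

theorem RForm.adjoint_unique (hf : RForm σ f) {M' M'' : Matrix ι ι F}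
    (h : ∀ x y, f x (M' *ᵥ y) = f x (M'' *ᵥ y)) : M' = M'' := by
  refine Matrix.toLin'.injective (LinearMap.ext fun y => ?_)
  rw [Matrix.toLin'_apply, Matrix.toLin'_apply]
  refine sub_eq_zero.1 (hf.nondeg _ fun x => ?_)
  rw [sub_eq_add_neg, hf.add_right, ← neg_one_smul F (M'' *ᵥ y), hf.smul_right, h]
  simp

theorem RForm.adjoint_pow (hf : RForm σ f) {k k' : Matrix ι ι F}
    (h : ∀ u v, f (k *ᵥ u) v = f u (k' *ᵥ v)) : ∀ (m : ℕ) u v, f ((k ^ m) *ᵥ u) v = f u ((k' ^ m) *ᵥ v) := by
  intro m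
  induction m with
  | zero => intro u v; simp
  | succ m ih =>
    intro u v
    rw [pow_succ', pow_succ, ← Matrix.mulVec_mulVec, h, ih, Matrix.mulVec_mulVec]

/-- The fixed points of a power of the Frobenius map in a commutative subalgebra. -/
def frobFix [Fintype F] (B : Subalgebra F (Matrix ι ι F)) (hc : ∀ x ∈ B, ∀ y ∈ B, x * y = y * x) (r : ℕ) :
    Subalgebra F (Matrix ι ι F) where
  carrier := {b | b ∈ B ∧ b ^ (Fintype.card F ^ r) = b}
  mul_mem' {a b} ha hb := ⟨B.mul_mem ha.1 hb.1, by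
    rw [(show Commute a b from hc a ha.1 b hb.1).mul_pow, ha.2, hb.2]⟩
  one_mem' := ⟨B.one_mem, one_pow _⟩
  add_mem' {a b} ha hb := ⟨B.add_mem ha.1 hb.1, by
    obtain ⟨n, hp, he⟩ := FiniteField.card F (ringChar F)
    haveI := Fact.mk hp
    rcases isEmpty_or_nonempty ι with hι | hι
    · exact Subsingleton.elim _ _
    haveI : CharP (Matrix ι ι F) (ringChar F) := inferInstance
    rw [he, ← pow_mul, add_pow_char_pow_of_commute (ringChar F) ((n : ℕ) * r) (hc a ha.1 b hb.1), pow_mul, ← he,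
      ha.2, hb.2]⟩
  zero_mem' := ⟨B.zero_mem, zero_pow (pow_ne_zero _ Fintype.card_ne_zero)⟩
  algebraMap_mem' c := ⟨B.algebraMap_mem c, by rw [← map_pow, FiniteField.pow_card_pow]⟩

theorem mem_frobFix [Fintype F] {B : Subalgebra F (Matrix ι ι F)} {hc : ∀ x ∈ B, ∀ y ∈ B, x * y = y * x}
    {r : ℕ} {b : Matrix ι ι F} : b ∈ frobFix B hc r ↔ b ∈ B ∧ b ^ (Fintype.card F ^ r) = b := Iff.rfl

/-- An idempotent power of an element. -/
theorem exists_idem_pow {M : Type*} [Monoid M] [Finite M] (b : M) : ∃ k, 0 < k ∧ b ^ k * b ^ k = b ^ k := by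
  obtain ⟨i, j, hij, he⟩ : ∃ i j, i < j ∧ b ^ i = b ^ j := by
    obtain ⟨i, j, hne, he⟩ := Finite.exists_ne_map_eq_of_infinite (fun n : ℕ => b ^ n)
    rcases lt_or_gt_of_ne hne with h | h
    exacts [⟨i, j, h, he⟩, ⟨j, i, h, he.symm⟩]
  have hper : ∀ c n, i ≤ n → b ^ (n + c * (j - i)) = b ^ n := by
    intro c
    induction c with
    | zero => simp
    | succ c ih =>
      intro n hn
      rw [show n + (c + 1) * (j - i) = (n + (j - i)) + c * (j - i) by ring, ih _ (by omega),
        show n + (j - i) = (n - i) + j by omega, pow_add, ← he, ← pow_add, show n - i + i = n by omega]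
  refine ⟨(i + 1) * (j - i), Nat.mul_pos (by omega) (by omega), ?_⟩
  rw [← pow_add, hper _ _ (Nat.le_trans (Nat.le_succ i) (Nat.le_mul_of_pos_right _ (by omega)))]

/-- A commutative subalgebra, not scalar, stable under conjugation and adjoints. -/
theorem RForm.commutative_stable [Fintype F] (hf : RForm σ f) {H : Subgroup (GL ι F)}
    (hH : ∀ h ∈ H, ∀ u v, f ((h : Matrix ι ι F) *ᵥ u) ((h : Matrix ι ι F) *ᵥ v) = f u v)
    (hirr : ∀ W : Submodule F (ι → F), H ≤ Cfsg.Geo.subspaceStabilizer W → W = ⊥ ∨ W = ⊤)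
    (B : Subalgebra F (Matrix ι ι F)) (hc : ∀ x ∈ B, ∀ y ∈ B, x * y = y * x)
    (hstab : ConjStable H B) (hadj : Cfsg.Geo.IsAdjointClosedFor f B) (hB : B ≠ ⊥) :
    ((∃ (t k : ℕ) (E : Fin t → Submodule F (ι → F)), Cfsg.Geo.IsNondegenerateMDecomposition f k E ∧
        H ≤ Cfsg.Geo.decompositionStabilizer E) ∨
      (∃ (k : ℕ) (E : Fin 2 → Submodule F (ι → F)), 2 * k = Fintype.card ι ∧ Cfsg.Geo.IsMDecomposition k E ∧
        (∀ i, Cfsg.Geo.IsTotallySingularFor f (E i)) ∧ H ≤ Cfsg.Geo.decompositionStabilizer E)) ∨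
    (∃ (r : ℕ) (K : Subalgebra F (Matrix ι ι F)), r.Prime ∧ Cfsg.Geo.IsFieldSubalgebra r K ∧ K ≤ B ∧
      Cfsg.Geo.IsAdjointClosedFor f K ∧ H ≤ Cfsg.Geo.subalgebraNormalizer K) := by
  classical
  haveI : Nonempty ι := by
    by_contra hι
    rw [not_nonempty_iff] at hι
    exact hB (le_bot_iff.1 fun x _ => Algebra.mem_bot.2 ⟨0, Subsingleton.elim _ _⟩)
  have hmv : ∀ h : GL ι F, ∀ M : Matrix ι ι F, ∀ v, ((h : Matrix ι ι F) * M * ((h⁻¹ : GL ι F) : Matrix ι ι F)) *ᵥ
      ((h : Matrix ι ι F) *ᵥ v) = (h : Matrix ι ι F) *ᵥ (M *ᵥ v) := fun h M v => by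
    simp [Matrix.mulVec_mulVec, mul_assoc]
  -- reduced
  have hred : ∀ j ∈ B, j * j = 0 → j = 0 := by
    let S : Set (Matrix ι ι F) := {j | j ∈ B ∧ j * j = 0}
    let W : Submodule F (ι → F) := ⨆ j : S, LinearMap.range (Matrix.toLin' (j : Matrix ι ι F))
    have hW : H ≤ Cfsg.Geo.subspaceStabilizer W := fun h hh => mem_subspaceStabilizer fun v hv => by
      have hle : W.map (Matrix.toLin' (h : Matrix ι ι F)) ≤ W := by
        rw [Submodule.map_iSup]
        refine iSup_le fun j => ?_
        have hmem : (h : Matrix ι ι F) * j * ((h⁻¹ : GL ι F) : Matrix ι ι F) ∈ S := ⟨hstab h hh _ j.2.1, by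
          simp only [mul_assoc, Units.inv_mul_cancel_left]
          rw [← mul_assoc (j : Matrix ι ι F) (j : Matrix ι ι F), j.2.2, zero_mul, mul_zero]⟩
        refine le_trans ?_ (le_iSup _ (⟨_, hmem⟩ : S))
        rintro _ ⟨_, ⟨w, rfl⟩, rfl⟩
        exact ⟨(h : Matrix ι ι F) *ᵥ w, by simp only [Matrix.toLin'_apply]; exact hmv h _ w⟩
      exact hle ⟨v, hv, rfl⟩
    rcases hirr W hW with h0 | h0
    · intro j hj hj2
      refine Matrix.toLin'.injective ?_
      rw [map_zero, ← LinearMap.range_eq_bot]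
      exact le_bot_iff.1 (h0 ▸ le_iSup (fun j : S => LinearMap.range (Matrix.toLin' (j : Matrix ι ι F))) ⟨j, hj, hj2⟩)
    · exfalso
      obtain ⟨a, ha0, haB, haS⟩ : ∃ a, a ≠ 0 ∧ a ∈ B ∧ ∀ j ∈ (Set.toFinite S).toFinset, a * j = 0 := by
        have hsub : ∀ j ∈ (Set.toFinite S).toFinset, j ∈ S := fun j hj => (Set.Finite.mem_toFinset _).1 hj
        generalize (Set.toFinite S).toFinset = s at hsub
        induction s using Finset.induction_on with
        | empty => exact ⟨1, one_ne_zero, B.one_mem, by simp⟩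
        | insert j s hjs ih =>
          obtain ⟨a, ha0, haB, haS⟩ := ih fun x hx => hsub x (Finset.mem_insert_of_mem hx)
          have hj := hsub j (Finset.mem_insert_self _ _)
          by_cases haj : a * j = 0
          · exact ⟨a, ha0, haB, fun x hx => by
              rcases Finset.mem_insert.1 hx with rfl | hx
              exacts [haj, haS x hx]⟩
          · refine ⟨a * j, haj, B.mul_mem haB hj.1, fun x hx => ?_⟩
            rcases Finset.mem_insert.1 hx with rfl | hx
            · rw [mul_assoc, hj.2, mul_zero]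
            · rw [mul_assoc, hc j hj.1 x (hsub x (Finset.mem_insert_of_mem hx)).1, ← mul_assoc, haS x hx, zero_mul]
      apply ha0
      refine Matrix.toLin'.injective ?_
      rw [map_zero, ← LinearMap.ker_eq_top, eq_top_iff, ← h0]
      refine iSup_le fun j => ?_
      rintro _ ⟨w, rfl⟩
      simp [Matrix.mulVec_mulVec, haS j ((Set.Finite.mem_toFinset _).2 j.2)]
  have hnil : ∀ b ∈ B, ∀ k : ℕ, b ^ k = 0 → b = 0 := by
    intro b hb k
    induction k using Nat.strong_induction_on with
    | _ k ih =>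
      intro hk
      rcases Nat.lt_or_ge k 2 with h2 | h2
      · interval_cases k
        · exact absurd hk (by simp)
        · simpa using hk
      · refine ih ((k + 1) / 2) (by omega) (hred _ (B.pow_mem hb _) ?_)
        rw [← pow_add, show (k + 1) / 2 + (k + 1) / 2 = k + ((k + 1) / 2 + (k + 1) / 2 - k) by omega, pow_add, hk,
          zero_mul]
  by_cases hfield : ∀ e ∈ B, e * e = e → e = 0 ∨ e = 1
  · -- a field
    right
    have hinv : ∀ x ∈ B, x ≠ 0 → ∃ y ∈ B, x * y = 1 := by
      intro x hx hx0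
      obtain ⟨k, hk, he⟩ := exists_idem_pow x
      rcases hfield _ (B.pow_mem hx k) he with h | h
      · exact absurd (hnil x hx k h) hx0
      · exact ⟨x ^ (k - 1), B.pow_mem hx _, by rw [← pow_succ', show k - 1 + 1 = k by omega, h]⟩
    letI : CommRing B := { (inferInstance : Ring B) with mul_comm := fun a b => Subtype.ext (hc a a.2 b b.2) }
    have hIs : IsField B := ⟨exists_pair_ne B, mul_comm, fun {a} ha => by
      obtain ⟨y, hy, hxy⟩ := hinv a a.2 fun h => ha (Subtype.ext h)
      exact ⟨⟨y, hy⟩, Subtype.ext hxy⟩⟩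
    letI : Field B := hIs.toField
    set d := Module.finrank F B with hd
    have hd1 : d ≠ 1 := fun h => hB (Subalgebra.eq_bot_of_finrank_one h)
    obtain ⟨r, hr, hrd⟩ := Nat.exists_prime_and_dvd hd1
    let q := Fintype.card F
    have hq : 1 < q := Fintype.one_lt_card
    set K := frobFix B hc r with hK
    have hKcard : Nat.card K = q ^ r := by
      have hcB : Nat.card B = q ^ d := by
        rw [Module.natCard_eq_pow_finrank (K := F), Nat.card_eq_fintype_card, ← hd]
      have e : K ≃ {x : B // x ^ (q ^ r) = x} :=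
        { toFun := fun x => ⟨⟨x.1, x.2.1⟩, Subtype.ext x.2.2⟩
          invFun := fun x => ⟨x.1.1, x.1.2, congrArg Subtype.val x.2⟩
          left_inv := fun _ => rfl
          right_inv := fun _ => rfl }
      rw [Nat.card_congr e]
      exact CfsgLib.Aschbacher.natCard_fixed B (Nat.one_lt_pow hr.ne_zero hq)
        (hcB ▸ CfsgLib.Aschbacher.sub_one_dvd_pow hrd)
    refine ⟨r, K, hr, ⟨fun x hx y hy => hc x hx.1 y hy.1, ?_, ?_⟩, fun x hx => hx.1, ?_, le_normalizer_of_stable ?_⟩
    · intro x hx hx0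
      obtain ⟨y, hy, hxy⟩ := hinv x hx.1 hx0
      refine ⟨y, ⟨hy, ?_⟩, hxy⟩
      have : x * y ^ (q ^ r) = 1 := by
        conv_lhs => rw [← hx.2]
        rw [← (show Commute x y from hc x hx.1 y hy).mul_pow, hxy, one_pow]
      calc y ^ (q ^ r) = (y * x) * y ^ (q ^ r) := by rw [hc y hy x hx.1, hxy, one_mul]
        _ = y := by rw [mul_assoc, this, mul_one]
    · have h := Module.natCard_eq_pow_finrank (K := F) (V := K)
      rw [hKcard, Nat.card_eq_fintype_card] at h
      exact (Nat.pow_right_injective hq h).symm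
    · intro k hk
      obtain ⟨k', hk', hadj'⟩ := hadj k hk.1
      refine ⟨k', ⟨hk', ?_⟩, hadj'⟩
      exact hf.adjoint_unique fun x y => by rw [← hf.adjoint_pow hadj', hk.2, hadj']
    · intro h hh b hb
      refine ⟨hstab h hh b hb.1, ?_⟩
      have : ∀ m : ℕ, ((h : Matrix ι ι F) * b * ((h⁻¹ : GL ι F) : Matrix ι ι F)) ^ m =
          (h : Matrix ι ι F) * b ^ m * ((h⁻¹ : GL ι F) : Matrix ι ι F) := fun m => Units.conj_pow h b m
      rw [this, hb.2]
  · -- primitive idempotents
    left
    push Not at hfield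
    obtain ⟨e₀, he₀B, he₀, he₀0, he₀1⟩ := hfield
    let P : Finset (Matrix ι ι F) := Finset.univ.filter fun e =>
      (e ∈ B ∧ e * e = e ∧ e ≠ 0) ∧ ∀ g ∈ B, g * g = g → g * e = g → g = 0 ∨ g = e
    have hbelow : ∀ g ∈ B, g * g = g → g ≠ 0 → ∃ e ∈ P, e * g = e := by
      intro g hgB hg hg0
      let T : Finset (Matrix ι ι F) := Finset.univ.filter fun h => h ∈ B ∧ h * h = h ∧ h ≠ 0 ∧ h * g = h
      obtain ⟨e, heT, hmin⟩ := T.exists_min_image (fun h => Module.finrank F (LinearMap.range (Matrix.toLin' h)))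
        ⟨g, by simp [T, hgB, hg, hg0]⟩
      simp only [T, Finset.mem_filter, Finset.mem_univ, true_and] at heT
      obtain ⟨heB, he, he0, heg⟩ := heT
      refine ⟨e, Finset.mem_filter.2 ⟨Finset.mem_univ _, ⟨heB, he, he0⟩, fun h hhB hh hhe => ?_⟩, heg⟩
      by_cases h0 : h = 0
      · exact Or.inl h0
      right
      have hle : LinearMap.range (Matrix.toLin' h) ≤ LinearMap.range (Matrix.toLin' e) := by
        rintro _ ⟨w, rfl⟩
        exact ⟨h *ᵥ w, by simp [Matrix.mulVec_mulVec, hc e heB h hhB, hhe]⟩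
      have hT : h ∈ T := by
        simp only [T, Finset.mem_filter, Finset.mem_univ, true_and]
        exact ⟨hhB, hh, h0, by rw [← hhe, mul_assoc, heg]⟩
      have heq := Submodule.eq_of_le_of_finrank_le hle (hmin h hT)
      have h1 : h * e = e := by
        refine Matrix.toLin'.injective (LinearMap.ext fun v => ?_)
        have hv : Matrix.toLin' e v ∈ LinearMap.range (Matrix.toLin' h) := heq ▸ ⟨v, rfl⟩
        obtain ⟨w, hw⟩ := hv
        simp only [Matrix.toLin'_apply] at hw ⊢
        rw [← Matrix.mulVec_mulVec, ← hw, Matrix.mulVec_mulVec, hh]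
      rw [← hhe, h1]
    have hPB : ∀ e : P, (e : Matrix ι ι F) ∈ B := fun e => (Finset.mem_filter.1 e.2).2.1.1
    have hPi : ∀ e : P, (e : Matrix ι ι F) * e = e := fun e => (Finset.mem_filter.1 e.2).2.1.2.1
    have hP0 : ∀ e : P, (e : Matrix ι ι F) ≠ 0 := fun e => (Finset.mem_filter.1 e.2).2.1.2.2
    have hmul : ∀ g ∈ B, g * g = g → ∀ e : P, g * e = 0 ∨ g * e = e := fun g hgB hg e =>
      (Finset.mem_filter.1 e.2).2.2 _ (B.mul_mem hgB (hPB e)) (by
        rw [mul_assoc, ← mul_assoc (e : Matrix ι ι F) g, hc _ (hPB e) g hgB, mul_assoc g, hPi, ← mul_assoc, hg])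
        (by rw [mul_assoc, hPi])
    have horth : ∀ a b : P, a ≠ b → (a : Matrix ι ι F) * b = 0 := by
      intro a b hab
      rcases hmul _ (hPB a) (hPi a) b with h | h
      · exact h
      · rcases hmul _ (hPB b) (hPi b) a with h' | h'
        · rw [hc _ (hPB b) _ (hPB a), h] at h'; exact absurd h' (hP0 b)
        · rw [hc _ (hPB b) _ (hPB a), h] at h'; exact absurd (Subtype.ext h'.symm) hab
    have hsum : ∑ a : P, (a : Matrix ι ι F) = 1 := by
      by_contra hne
      set s := ∑ a : P, (a : Matrix ι ι F) with hs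
      have hsB : s ∈ B := B.sum_mem fun a _ => hPB a
      have hes : ∀ a : P, (a : Matrix ι ι F) * s = a := fun a => by
        rw [hs, Finset.mul_sum, Finset.sum_eq_single a (fun b _ hb => horth a b (Ne.symm hb)) (by simp), hPi]
      have hss : s * s = s := by
        conv_lhs => arg 1; rw [hs]
        rw [Finset.sum_mul]; exact Finset.sum_congr rfl fun a _ => hes a
      obtain ⟨a, ha, hea⟩ := hbelow (1 - s) (B.sub_mem B.one_mem hsB) (by
        simp [mul_sub, sub_mul, hss]) (sub_ne_zero.2 (Ne.symm hne))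
      rw [mul_sub, mul_one, hes ⟨a, ha⟩, sub_self] at hea
      exact hP0 ⟨a, ha⟩ hea.symm
    let D : P → Submodule F (ι → F) := fun a => LinearMap.range (Matrix.toLin' (a : Matrix ι ι F))
    have hDmem : ∀ (a : P) v, v ∈ D a → (a : Matrix ι ι F) *ᵥ v = v := by
      rintro a _ ⟨w, rfl⟩
      simp [Matrix.mulVec_mulVec, hPi a]
    have hcard : 2 ≤ Fintype.card P := by
      by_contra hlt
      have h1 : ∀ a : P, (a : Matrix ι ι F) = 1 := fun a => by
        haveI : Subsingleton P := Fintype.card_le_one_iff_subsingleton.1 (by omega)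
        rw [← hsum, Fintype.sum_subsingleton _ a]
      obtain ⟨a, ha, hea⟩ := hbelow e₀ he₀B he₀ he₀0
      rw [show a = 1 from h1 ⟨a, ha⟩, one_mul] at hea
      exact he₀1 hea
    refine hf.imprimitive hH hirr D hcard (fun a => ?_) ?_ ?_ ?_ ?_
    · rw [ne_eq, LinearMap.range_eq_bot]
      exact fun h => hP0 a (Matrix.toLin'.injective (h.trans (map_zero _).symm))
    · intro a
      rw [disjoint_iff, Submodule.eq_bot_iff]
      rintro v ⟨hva, hvr⟩
      have hle : (⨆ (b) (_ : b ≠ a), D b) ≤ LinearMap.ker (Matrix.toLin' (a : Matrix ι ι F)) :=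
        iSup₂_le fun b hb => by
          rintro _ ⟨w, rfl⟩
          simp [Matrix.mulVec_mulVec, horth a b (Ne.symm hb)]
      rw [← hDmem a v hva]
      exact hle hvr
    · refine eq_top_iff.2 fun v _ => ?_
      have hv : v = ∑ a : P, (a : Matrix ι ι F) *ᵥ v := by
        rw [← Matrix.sum_mulVec, hsum, Matrix.one_mulVec]
      rw [hv]
      exact Submodule.sum_mem _ fun a _ => Submodule.mem_iSup_of_mem a ⟨v, rfl⟩
    · intro h hh a
      set b := (h : Matrix ι ι F) * a * ((h⁻¹ : GL ι F) : Matrix ι ι F) with hb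
      have hbP : b ∈ P := by
        refine Finset.mem_filter.2 ⟨Finset.mem_univ _, ⟨hstab h hh _ (hPB a), ?_, ?_⟩, fun g hgB hg hgb => ?_⟩
        · rw [hb]; simp only [mul_assoc, Units.inv_mul_cancel_left]
          rw [← mul_assoc (a : Matrix ι ι F) (a : Matrix ι ι F), hPi]
        · intro h0
          apply hP0 a
          have := congrArg (fun M => ((h⁻¹ : GL ι F) : Matrix ι ι F) * M * (h : Matrix ι ι F)) h0
          simpa [hb, mul_assoc] using this
        · set g' := ((h⁻¹ : GL ι F) : Matrix ι ι F) * g * (h : Matrix ι ι F) with hg'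
          have hback : g = (h : Matrix ι ι F) * g' * ((h⁻¹ : GL ι F) : Matrix ι ι F) := by
            simp [hg', mul_assoc]
          have hg'B : g' ∈ B := by
            have := hstab h⁻¹ (inv_mem hh) g hgB
            rwa [inv_inv] at this
          rcases (Finset.mem_filter.1 a.2).2.2 g' hg'B (by
              rw [hg']; simp only [mul_assoc, Units.mul_inv_cancel_left]; rw [← mul_assoc g g, hg]) (by
              have := congrArg (fun M => ((h⁻¹ : GL ι F) : Matrix ι ι F) * M * (h : Matrix ι ι F)) hgb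
              simpa [hb, hg', mul_assoc] using this) with h0 | h0
          · left; rw [hback, h0, mul_zero, zero_mul]
          · right; rw [hback, h0]
      refine ⟨⟨b, hbP⟩, le_antisymm ?_ ?_⟩
      · rintro _ ⟨_, ⟨w, rfl⟩, rfl⟩
        exact ⟨(h : Matrix ι ι F) *ᵥ w, by simp only [Matrix.toLin'_apply]; exact hmv h _ w⟩
      · rintro _ ⟨w, rfl⟩
        refine ⟨_, ⟨((h⁻¹ : GL ι F) : Matrix ι ι F) *ᵥ w, rfl⟩, ?_⟩
        simp [hb, Matrix.mulVec_mulVec, mul_assoc]
    · choose adj hadjB hadjE using fun a : P => hadj a (hPB a)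
      have hadj0 : ∀ a, adj a ≠ 0 := by
        intro a h0
        refine hP0 a (Matrix.toLin'.injective (LinearMap.ext fun u => ?_))
        rw [map_zero, LinearMap.zero_apply, Matrix.toLin'_apply]
        refine hf.nondeg _ fun x => hf.refl _ _ ?_
        rw [hadjE, h0, Matrix.zero_mulVec, hf.zero_right]
      have hadji : ∀ a, adj a * adj a = adj a := fun a => hf.adjoint_unique fun x y => by
        rw [← Matrix.mulVec_mulVec, ← hadjE, ← hadjE, ← hadjE, Matrix.mulVec_mulVec, hPi]
      have hadjo : ∀ a b : P, a ≠ b → adj a * adj b = 0 := fun a b hab => hf.adjoint_unique fun x y => by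
        rw [← Matrix.mulVec_mulVec, ← hadjE, ← hadjE, Matrix.mulVec_mulVec, horth b a (Ne.symm hab),
          Matrix.zero_mulVec, Matrix.zero_mulVec, hf.zero_left, hf.zero_right]
      have hsome : ∀ a, ∃ b : P, adj a * b = b := by
        intro a
        by_contra hcon
        push Not at hcon
        apply hadj0 a
        rw [← mul_one (adj a), ← hsum, Finset.mul_sum]
        exact Finset.sum_eq_zero fun b _ => (hmul _ (hadjB a) (hadji a) b).resolve_right (hcon b)
      choose ρ hρ using hsome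
      have hρinj : Function.Injective ρ := by
        intro a b hab
        by_contra hne
        apply hP0 (ρ a)
        calc (ρ a : Matrix ι ι F) = adj a * (adj b * ρ a) := by rw [hab, hρ b, ← hab, hρ a]
          _ = 0 := by rw [← mul_assoc, hadjo a b hne, zero_mul]
      intro a
      refine ⟨ρ a, fun l hl u hu v hv => ?_⟩
      obtain ⟨c, rfl⟩ := Finite.surjective_of_injective hρinj l
      have hca : c ≠ a := fun h => hl (by rw [h])
      have h0 : adj a * (ρ c : Matrix ι ι F) = 0 := by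
        rw [← hρ c, ← mul_assoc, hadjo a c (Ne.symm hca), zero_mul]
      rw [← hDmem a u hu, hadjE, ← hDmem _ v hv, Matrix.mulVec_mulVec, h0, Matrix.zero_mulVec, hf.zero_right]

end CfsgLib.AschbacherForm
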