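import Cfsg.Agent.Lib.AschbacherForm.Core
import Cfsg.Agent.Lib.Maximal.HermTv
import Cfsg.Agent.Lib.Geometry.Hermitian

/-!
The unitary geometry and the members of the classes.
-/

set_option autoImplicit false
set_option linter.unusedSectionVars false

namespace CfsgLib.AschbacherForm

open Cfsg Cfsg.Geo CfsgLib.Aschbacher
open scoped Matrix MatrixGroups

universe u
variable {F : Type u} [Field F]

/-- The standing data of the unitary case. -/
structure UForm [Fintype F] (n q : ℕ) (τ : F ≃+* F) : Prop where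
  card : Fintype.card F = q ^ 2
  pow : ∀ x, τ x = x ^ q
  ne : τ ≠ RingEquiv.refl F
  invol : ∀ x, τ (τ x) = x
  geom : Geom τ (hermForm n F q) (1 : GL (Fin n) F) 1

theorem exists_uform [Fintype F] {q : ℕ} (hF : Fintype.card F = q ^ 2) (n : ℕ) : ∃ τ : F ≃+* F, UForm n q τ := by
  classical
  obtain ⟨τ, hτ, hf⟩ := CfsgLib.Maximal.exists_hermSigma hF n
  refine ⟨τ, hF, hτ, hf.ne_refl, hf.involutive, ⟨?_, hf.involutive, one_ne_zero, ?_⟩⟩
  · funext u v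
    simp [hermForm, formOfGram, hτ, Matrix.one_apply]
  · rw [Units.val_one, Matrix.map_one τ (map_zero τ) (map_one τ), Matrix.transpose_one, one_smul]

variable [Fintype F] {n q : ℕ} {τ : F ≃+* F}

theorem UForm.q_pos (hU : UForm n q τ) : 2 ≤ q := by
  have h1 := Fintype.one_lt_card (α := F)
  rw [hU.card] at h1
  rcases q with _ | _ | q <;> simp_all

theorem UForm.isSim (hU : UForm n q τ) {g : GL (Fin n) F} (hg : g ∈ GU n F q) :
    IsSim τ ((1 : GL (Fin n) F) : Matrix (Fin n) (Fin n) F) (g : Matrix (Fin n) (Fin n) F) 1 :=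
  (hU.geom.isSim_iff _ _).2 fun u v => by rw [one_mul]; exact hg u v

theorem UForm.mem_GU (hU : UForm n q τ) {g : GL (Fin n) F}
    (hg : IsSim τ ((1 : GL (Fin n) F) : Matrix (Fin n) (Fin n) F) (g : Matrix (Fin n) (Fin n) F) 1) : g ∈ GU n F q :=
  fun u v => ((hU.geom.isSim_iff _ _).1 hg u v).trans (one_mul _)

theorem UForm.le_similarity (hU : UForm n q τ) {H : Subgroup (GL (Fin n) F)} (hH : H ≤ GU n F q) :
    H ⊔ scalars (Fin n) F ≤ similarityGroup (hermForm n F q) :=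
  sup_le (fun g hg => ⟨1, fun u v => by rw [Units.val_one, one_mul]; exact hH hg u v⟩) hU.geom.scalars_le

theorem UForm.mem_fix (hU : UForm n q τ) {x : F} : x ∈ fixField τ ↔ x ^ q = x := by
  rw [mem_fixField, hU.pow]

theorem UForm.card_fix (hU : UForm n q τ) : Nat.card (fixField τ) = q := by
  have h : Nat.card {x : F // x ^ q = x} = q := natCard_fixed F (by have := hU.q_pos; omega) (by
    rw [Nat.card_eq_fintype_card, hU.card]
    simpa using sub_one_dvd_pow (a := q) (one_dvd 2))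
  rw [← h]
  exact Nat.card_congr (Equiv.subtypeEquivRight fun x => hU.mem_fix)

theorem UForm.card_sq (hU : UForm n q τ) : Fintype.card F = Nat.card (fixField τ) ^ 2 := by
  rw [hU.card_fix, hU.card]

theorem UForm.two_iff (hU : UForm n q τ) : (2 : F) ≠ 0 ↔ Odd q := by
  obtain ⟨p, hp⟩ := CharP.exists F
  haveI : Fact p.Prime := ⟨CharP.char_is_prime F p⟩
  obtain ⟨e, hpP, he⟩ := FiniteField.card F p
  rw [hU.card] at he
  refine ⟨fun h2 => ?_, fun hodd h2 => ?_⟩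
  · rcases hpP.eq_two_or_odd' with rfl | hodd
    · exact absurd (show ((2 : ℕ) : F) = 0 from CharP.cast_eq_zero F 2) (by exact_mod_cast h2)
    · exact (Nat.odd_pow_iff two_ne_zero).1 (he ▸ hodd.pow)
  · have h2' : ((2 : ℕ) : F) = 0 := by exact_mod_cast h2
    rw [CharP.cast_eq_zero_iff F p] at h2'
    have := (Nat.prime_two.eq_one_or_self_of_dvd p h2').resolve_left hpP.ne_one
    subst this
    have h3 : Odd (q ^ 2) := hodd.pow
    rw [he, Nat.odd_pow_iff e.pos.ne'] at h3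
    exact absurd h3 (by decide)

/-- A non-degenerate hermitian matrix is congruent to the identity. -/
theorem herm_equiv {d : ℕ} {σ : F ≃+* F} (hne : σ ≠ RingEquiv.refl F) (hσ : ∀ a, σ (σ a) = a) (M : GL (Fin d) F)
    (hM : ((M : Matrix (Fin d) (Fin d) F).map σ)ᵀ = (M : Matrix (Fin d) (Fin d) F)) :
    ∃ X : GL (Fin d) F, (X : Matrix (Fin d) (Fin d) F)ᵀ * (M : Matrix (Fin d) (Fin d) F) *
      (X : Matrix (Fin d) (Fin d) F).map σ = 1 := by
  classical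
  set f := formOfGram σ (M : Matrix (Fin d) (Fin d) F) with hf
  have hsym : ∀ u v, σ (f v u) = f u v := fun u v => by rw [hf, formOfGram_transpose σ hσ, hM]
  let B : (Fin d → F) →ₛₗ[(σ : F →+* F)] (Fin d → F) →ₗ[F] F :=
    LinearMap.mk₂'ₛₗ (σ : F →+* F) (RingHom.id F) (fun u v => f v u)
      (fun a b v => by simp [hf, formOfGram, mul_add, Finset.sum_add_distrib])
      (fun c a v => by simp [hf, formOfGram, Finset.mul_sum, mul_left_comm])
      (fun v a b => by simp [hf, formOfGram, add_mul, Finset.sum_add_distrib])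
      (fun c v a => by simp [hf, formOfGram, Finset.mul_sum, mul_assoc])
  have hσr : (σ : F →+* F) ≠ RingHom.id F := fun h => hne (RingEquiv.ext fun a => RingHom.congr_fun h a)
  have hS : B.IsSymm := ⟨fun u v => hsym u v⟩
  have hnd := formOfGram_nondeg σ M.isUnit
  have hB : B.Nondegenerate := by
    refine ⟨fun v hv => ?_, fun v hv => ?_⟩ <;> by_contra h0
    · obtain ⟨x, hx⟩ := (hnd v h0).1; exact hx (hv x)
    · obtain ⟨x, hx⟩ := (hnd v h0).2; exact hx (hv x)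
  obtain ⟨b, hb⟩ := CfsgLib.Geometry.exists_orthonormal hσr hσ hS hB
  let b' := b.reindex (finCongr (Module.finrank_fin_fun F))
  have hb' : ∀ i j, f (b' i) (b' j) = if i = j then 1 else 0 := fun i j => by
    show B (b' j) (b' i) = _
    simp [b', hb, Fin.ext_iff, eq_comm]
  have hX : IsUnit ((Pi.basisFun F (Fin d)).toMatrix b') :=
    letI := Module.Basis.invertibleToMatrix (Pi.basisFun F (Fin d)) b'
    isUnit_of_invertible _
  refine ⟨hX.unit, gram_inj σ fun u v => ?_⟩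
  rw [← formOfGram_mulVec, IsUnit.unit_spec, ← hf]
  have hcol : ∀ w : Fin d → F, (Pi.basisFun F (Fin d)).toMatrix b' *ᵥ w = ∑ j, w j • b' j := fun w => by
    funext i; simp [Matrix.mulVec, dotProduct, Module.Basis.toMatrix, Finset.sum_apply, mul_comm]
  rw [hcol, hcol]
  show B (∑ j, v j • b' j) (∑ j, u j • b' j) = _
  simp only [map_sum, LinearMap.sum_apply, LinearMap.map_smulₛₗ, LinearMap.smul_apply, map_smul, smul_eq_mul,
    RingHom.id_apply, RingEquiv.coe_toRingHom]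
  simp [show ∀ i j, B (b' j) (b' i) = if i = j then 1 else 0 from hb', formOfGram, Matrix.one_apply, mul_comm]

/-- The conditions on `X` for `X ⊓ GU` to be a member of one of the classes, with the degree recorded. -/
def UnitShape (n q : ℕ) (F : Type u) [Field F] [Fintype F] (X : Subgroup (GL (Fin n) F)) : Prop :=
  let f := hermForm n F q
  (∃ W : Submodule F (Fin n → F), W ≠ ⊥ ∧ IsTotallySingularFor f W ∧ X = subspaceStabilizer W) ∨
  (∃ W : Submodule F (Fin n → F), W ≠ ⊥ ∧ IsNondegenerateOn f W ∧ 2 * Module.finrank F W < n ∧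
      X = subspaceStabilizer W) ∨
  (∃ (t k : ℕ) (D : Fin t → Submodule F (Fin n → F)), IsNondegenerateMDecomposition f k D ∧
      X = decompositionStabilizer D) ∨
  (∃ (k : ℕ) (D : Fin 2 → Submodule F (Fin n → F)), 2 * k = n ∧ IsMDecomposition k D ∧
      (∀ i, IsTotallySingularFor f (D i)) ∧ X = decompositionStabilizer D) ∨
  (∃ (F₀ : Subfield F) (r : ℕ) (P : GL (Fin n) F), r.Prime ∧ Odd r ∧ Fintype.card F = Nat.card F₀ ^ r ∧
      IsFormRationalStructure f F₀ 1 P ∧ X = subfieldSubgroup F₀ P) ∨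
  (∃ (F₀ : Subfield F) (P : GL (Fin n) F), Odd q ∧ Fintype.card F = Nat.card F₀ ^ 2 ∧
      IsFormRationalStructure f F₀ 1 P ∧ X = subfieldSubgroup F₀ P) ∨
  (∃ (F₀ : Subfield F) (P : GL (Fin n) F) (ζ : F), Even n ∧ Fintype.card F = Nat.card F₀ ^ 2 ∧ ζ ≠ 0 ∧
      ζ + ζ ^ q = 0 ∧ IsFormRationalStructure f F₀ ζ P ∧
      (∀ u : Fin n → F, (∀ i, u i ∈ F₀) → f ((P : Matrix (Fin n) (Fin n) F) *ᵥ u) ((P : Matrix (Fin n) (Fin n) F) *ᵥ u) = 0) ∧
      X = subfieldSubgroup F₀ P) ∨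
  (∃ (r : ℕ) (R : Subgroup (GL (Fin n) F)) (p e k : ℕ), IsSymplecticTypeGroup r R ∧
      ActsAbsolutelyIrreducibly (matrixSet R) ∧ R ≤ similarityGroup f ∧ r ≠ p ∧
      IsMinimalFieldFor (Nat.card (Subgroup.center R)) p e F ∧
      ((Odd r ∧ Nat.card (Subgroup.center R) = r ∧ 1 ≤ k ∧ Nat.card R = r ^ (1 + 2 * k)) ∨
       (r = 2 ∧ e = 2 ∧ Nat.card (Subgroup.center R) = 4 ∧ Nat.card R = 2 ^ (2 + 2 * k))) ∧
      X = subgroupNormalizer R ∧
      n = r ^ k ∧ Nat.card (Subgroup.center R) ∣ q + 1 ∧ (Odd r → R ≤ GU n F q) ∧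
      (∀ x ∈ R, ∀ y ∈ R, x * y * x⁻¹ * y⁻¹ ∈ scalars (Fin n) F)) ∨
  (∃ (r : ℕ) (K : Subalgebra F (Matrix (Fin n) (Fin n) F)), r.Prime ∧ Odd r ∧ IsFieldSubalgebra r K ∧
      IsAdjointClosedFor f K ∧ X = subalgebraNormalizer K) ∨
  (∃ (n₁ n₂ : ℕ) (e : Fin n ≃ Fin n₁ × Fin n₂) (P : GL (Fin n) F)
      (f₁ : (Fin n₁ → F) → (Fin n₁ → F) → F) (f₂ : (Fin n₂ → F) → (Fin n₂ → F) → F),
      2 ≤ n₁ ∧ n₁ < n₂ ∧ IsUnitaryFormPow q f₁ ∧ IsUnitaryFormPow q f₂ ∧
      IsTensorFormStructure (fun x : F => x ^ q) f f₁ f₂ e P ∧ X = tensorProductSubgroup n₁ n₂ e P) ∨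
  (∃ (k t : ℕ) (e : Fin n ≃ (Fin t → Fin k)) (P : GL (Fin n) F) (f₁ : (Fin k → F) → (Fin k → F) → F),
      3 ≤ k ∧ 2 ≤ t ∧ ¬ (q = 2 ∧ k = 3) ∧ IsUnitaryFormPow q f₁ ∧
      IsTensorPowerFormStructure (fun x : F => x ^ q) f f₁ e P ∧ X = tensorWreathSubgroup k t e P)

/-- `H` lies in a member of one of the classes. -/
def UnitOver (n q : ℕ) (H : Subgroup (GL (Fin n) F)) : Prop :=
  ∃ X, UnitShape n q F X ∧ H ≤ X

/-- The members given by the shapes. -/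
theorem UnitShape.toClass {X : Subgroup (GL (Fin n) F)} (h : UnitShape n q F X) :
    InUnitaryClass n F q (X ⊓ GU n F q) := by
  rcases h with ⟨W, h0, h1, rfl⟩ | ⟨W, h0, h1, h2, rfl⟩ | ⟨t, k, D, h0, rfl⟩ | ⟨k, D, h0, h1, h2, rfl⟩ |
    ⟨F₀, r, P, h0, h1, h2, h3, rfl⟩ | ⟨F₀, P, h0, h1, h2, rfl⟩ | ⟨F₀, P, ζ, h0, h1, h2, h3, h4, h5, rfl⟩ |
    ⟨r, R, p, e, k, a, b, c, d, g, i, rfl, -⟩ |
    ⟨r, K, h0, h1, h2, h3, rfl⟩ | ⟨n₁, n₂, e, P, f₁, f₂, h0, h1, h2, h3, h4, rfl⟩ |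
    ⟨k, t, e, P, f₁, h0, h1, h2, h3, h4, rfl⟩
  · exact Or.inl (Or.inl ⟨W, h0, h1, rfl⟩)
  · exact Or.inl (Or.inr (Or.inl ⟨W, h0, h1, h2, rfl⟩))
  · exact Or.inl (Or.inr (Or.inr (Or.inl ⟨t, k, D, h0, rfl⟩)))
  · exact Or.inl (Or.inr (Or.inr (Or.inr (Or.inl ⟨k, D, h0, h1, h2, rfl⟩))))
  · exact Or.inl (Or.inr (Or.inr (Or.inr (Or.inr (Or.inl ⟨F₀, r, P, h0, h1, h2, h3, rfl⟩)))))
  · exact Or.inl (Or.inr (Or.inr (Or.inr (Or.inr (Or.inr (Or.inl ⟨F₀, P, h0, h1, h2, rfl⟩))))))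
  · exact Or.inl (Or.inr (Or.inr (Or.inr (Or.inr (Or.inr (Or.inr (Or.inl ⟨F₀, P, ζ, h0, h1, h2, h3, h4, h5, rfl⟩)))))))
  · exact Or.inl (Or.inr (Or.inr (Or.inr (Or.inr (Or.inr (Or.inr (Or.inr ⟨r, R, p, e, k, a, b, c, d, g, i, rfl⟩)))))))
  · exact Or.inr (Or.inl ⟨r, K, h0, h1, h2, h3, rfl⟩)
  · exact Or.inr (Or.inr (Or.inl ⟨n₁, n₂, e, P, f₁, f₂, h0, h1, h2, h3, h4, rfl⟩))
  · exact Or.inr (Or.inr (Or.inr ⟨k, t, e, P, f₁, h0, h1, h2, h3, h4, rfl⟩))

theorem unit_reducible {H : Subgroup (GL (Fin n) F)} (h : Reducible (hermForm n F q) H) : UnitOver n q H := by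
  rcases h with ⟨U, h0, h1, hle⟩ | ⟨U, h0, h1, h2, hle⟩
  · exact ⟨_, Or.inl ⟨U, h0, h1, rfl⟩, hle⟩
  · exact ⟨_, Or.inr (Or.inl ⟨U, h0, h1, by simpa using h2, rfl⟩), hle⟩

theorem unit_imprimitive {H : Subgroup (GL (Fin n) F)} (h : Imprimitive (hermForm n F q) H) : UnitOver n q H := by
  rcases h with ⟨t, k, E, hE, hle⟩ | ⟨k, E, hk, hE, hts, hle⟩
  · exact ⟨_, Or.inr (Or.inr (Or.inl ⟨t, k, E, hE, rfl⟩)), hle⟩
  · exact ⟨_, Or.inr (Or.inr (Or.inr (Or.inl ⟨k, E, by simpa using hk, hE, hts, rfl⟩))), hle⟩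

/-- The forms from hermitian matrices. -/
theorem UForm.unitaryPow (hU : UForm n q τ) {d : ℕ} (M : GL (Fin d) F)
    (hM : ((M : Matrix (Fin d) (Fin d) F).map τ)ᵀ = (M : Matrix (Fin d) (Fin d) F)) :
    IsUnitaryFormPow q (formOfGram τ (M : Matrix (Fin d) (Fin d) F)) where
  add_left := formOfGram_add_left _ _
  smul_left := formOfGram_smul_left _ _
  herm := fun v w => by rw [← hU.pow, formOfGram_transpose τ hU.invol, hM]
  nondegenerate := formOfGram_nondeg τ M.isUnit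

end CfsgLib.AschbacherForm
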