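import Cfsg.Agent.Lib.AschbacherForm.UnitBase
import Cfsg.Agent.Lib.AschbacherForm.Subfield
import Cfsg.Agent.Lib.AschbacherForm.Kron

/-!
Changes of coordinates, and groups commuting with a semilinear involution of the unitary space.
-/

set_option autoImplicit false
set_option linter.unusedSectionVars false

namespace CfsgLib.AschbacherForm

open Cfsg Cfsg.Geo CfsgLib.Aschbacher
open scoped Matrix MatrixGroups Kronecker

universe u
variable {F : Type u} [Field F]

section change

variable {ι κ : Type} [Fintype ι] [DecidableEq ι] [Fintype κ] [DecidableEq κ]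

theorem coordR_change (e : ι ≃ κ) (P : GL ι F) (U : GL κ F) (x : Matrix ι ι F) :
    coordR e (P * glReindex e.symm U) x =
      (↑U⁻¹ : Matrix κ κ F) * coordR e P x * (U : Matrix κ κ F) := by
  have h1 : ∀ V : GL κ F, ((glReindex e.symm V : GL ι F) : Matrix ι ι F).submatrix e.symm e.symm = (V : Matrix κ κ F) :=
    fun V => by ext i j; simp [glReindex]
  rw [coordR_apply, coordR_apply, mul_inv_rev, Units.val_mul, Units.val_mul, ← map_inv,
    show ((glReindex e.symm U⁻¹ : GL ι F) : Matrix ι ι F) * (↑P⁻¹ : Matrix ι ι F) * x *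
      ((P : Matrix ι ι F) * ((glReindex e.symm U : GL ι F) : Matrix ι ι F)) =
      ((glReindex e.symm U⁻¹ : GL ι F) : Matrix ι ι F) * ((↑P⁻¹ : Matrix ι ι F) * x * (P : Matrix ι ι F)) *
      ((glReindex e.symm U : GL ι F) : Matrix ι ι F) by simp only [mul_assoc]]
  rw [← Matrix.submatrix_mul_equiv _ _ _ e.symm, ← Matrix.submatrix_mul_equiv _ _ _ e.symm, h1, h1]

theorem coordJ_change (σ : F ≃+* F) (e : ι ≃ κ) (P J : GL ι F) (U : GL κ F) :
    (coordJ σ e (P * glReindex e.symm U) J : Matrix κ κ F) =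
      (U : Matrix κ κ F)ᵀ * (coordJ σ e P J : Matrix κ κ F) * (U : Matrix κ κ F).map σ := by
  have h1 : ((glReindex e.symm U : GL ι F) : Matrix ι ι F).submatrix e.symm e.symm = (U : Matrix κ κ F) := by
    ext i j; simp [glReindex]
  rw [coordJ_val, coordJ_val, Units.val_mul, Matrix.transpose_mul, map_mul_equiv,
    show ((glReindex e.symm U : GL ι F) : Matrix ι ι F)ᵀ * (P : Matrix ι ι F)ᵀ * (J : Matrix ι ι F) *
      ((P : Matrix ι ι F).map σ * ((glReindex e.symm U : GL ι F) : Matrix ι ι F).map σ) =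
      ((glReindex e.symm U : GL ι F) : Matrix ι ι F)ᵀ *
      ((P : Matrix ι ι F)ᵀ * (J : Matrix ι ι F) * (P : Matrix ι ι F).map σ) *
      ((glReindex e.symm U : GL ι F) : Matrix ι ι F).map σ by simp only [mul_assoc],
    ← Matrix.submatrix_mul_equiv _ _ _ e.symm, ← Matrix.submatrix_mul_equiv _ _ _ e.symm,
    ← Matrix.transpose_submatrix, Matrix.submatrix_map, h1]

end change

variable [Fintype F] {n q : ℕ} {τ : F ≃+* F}

/-- A group commuting up to scalars with a semilinear involution lies in a subfield group. -/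
theorem unit_real {κ : Type} [Fintype κ] [DecidableEq κ] [Nonempty κ] (hU : UForm n q τ)
    {H : Subgroup (GL (Fin n) F)} (e : Fin n ≃ κ) (P : GL (Fin n) F) (C : GL κ F) {c ε : F}
    (hev : Even n) (hε : ε = 1 ∨ ε = -1) (hC : (C : Matrix κ κ F).map τ * (C : Matrix κ κ F) = 1)
    (hCt : (C : Matrix κ κ F)ᵀ = ε • (C : Matrix κ κ F)) (hdiag : ∀ i, (C : Matrix κ κ F) i i = 0)
    (hc : c ≠ 0) (hcτ : τ c = c) (hJ : (coordJ τ e P 1 : Matrix κ κ F) = c • (1 : Matrix κ κ F))
    (hH : ∀ g ∈ H, ∃ z : F, (coordR e P (g : Matrix (Fin n) (Fin n) F)).map τ =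
      z • ((C : Matrix κ κ F) * coordR e P (g : Matrix (Fin n) (Fin n) F) * (↑C⁻¹ : Matrix κ κ F))) :
    UnitOver n q H := by
  classical
  obtain ⟨X, hX⟩ := hilbert90_matrix hU.ne hU.invol hC
  set P₁ := P * glReindex e.symm X with hP₁
  let sg : GL κ F →* GL κ F :=
    Units.map (RingHom.mapMatrix (τ : F →+* F) : Matrix κ κ F →+* Matrix κ κ F).toMonoidHom
  have hsgX : sg X = C * X := Units.ext hX.symm
  have hle : H ≤ subfieldSubgroup (fixField τ) P₁ := fun g hg => by
    obtain ⟨z, hz⟩ := hH g hg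
    set T := glReindex e (P⁻¹ * g * P) with hT
    rw [coordR_gl, ← hT] at hz
    have hz0 : z ≠ 0 := fun e0 => by
      rw [e0, zero_smul] at hz
      exact (T.isUnit.map (RingHom.mapMatrix (τ : F →+* F))).ne_zero hz
    have hT' : sg T = sc (Units.mk0 z hz0) * (C * T * C⁻¹) := Units.ext (by
      rw [sc_mul_val, Units.val_mul, Units.val_mul]; exact hz)
    have hCC : sg C * C = 1 := Units.ext hC
    have hsgsc : ∀ a : Fˣ, sg (sc a) = sc (Units.map τ.toRingHom.toMonoidHom a) := fun a => Units.ext (by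
      show ((sc a : GL κ F) : Matrix κ κ F).map τ = _
      rw [sc_val, sc_val, Matrix.map_smul' (hf := map_mul τ), Matrix.map_one τ (map_zero τ) (map_one τ)]
      rfl)
    have hN : z * τ z = 1 := by
      have h1 := congrArg sg hT'
      have h2 : sg (sg T) = T := Units.ext (by
        show ((T : Matrix κ κ F).map τ).map τ = _
        ext; simp [hU.invol])
      rw [h2, map_mul, map_mul, map_mul, map_inv, hT', hsgsc, show sg C = C⁻¹ from eq_inv_of_mul_eq_one_left hCC,
        show C⁻¹ * (sc (Units.mk0 z hz0) * (C * T * C⁻¹)) * C⁻¹⁻¹ = sc (Units.mk0 z hz0) * T by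
          rw [← mul_assoc, ← sc_comm]; group, ← mul_assoc, ← sc_mul] at h1
      have h3 := congrArg Units.val (sc_inj (ι := κ) ((mul_eq_right.1 h1.symm).trans sc_one.symm))
      simpa [mul_comm] using h3
    obtain ⟨a, ha, hza⟩ := hilbert90 hU.ne hU.invol hN
    have hR : coordR e P₁ (g : Matrix (Fin n) (Fin n) F) = ((X⁻¹ * T * X : GL κ F) : Matrix κ κ F) := by
      rw [hP₁, coordR_change, coordR_gl, ← hT, Units.val_mul, Units.val_mul]
    have hfix : (a • coordR e P₁ (g : Matrix (Fin n) (Fin n) F)).map τ = a • coordR e P₁ (g : Matrix (Fin n) (Fin n) F) := by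
      have h1 : sg (X⁻¹ * T * X) = sc (Units.mk0 z hz0) * (X⁻¹ * T * X) := by
        rw [map_mul, map_mul, map_inv, hsgX, hT',
          show (C * X)⁻¹ * (sc (Units.mk0 z hz0) * (C * T * C⁻¹)) * (C * X) =
            (C * X)⁻¹ * sc (Units.mk0 z hz0) * ((C * T * C⁻¹) * (C * X)) by group, ← sc_comm]
        group
      rw [hR, Matrix.map_smul' (hf := map_mul τ), show ((X⁻¹ * T * X : GL κ F) : Matrix κ κ F).map τ =
        ((sg (X⁻¹ * T * X) : GL κ F) : Matrix κ κ F) from rfl, h1, sc_mul_val, Units.val_mk0, smul_smul, hza]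
    refine mem_subfieldSubgroup P₁ g ha fun i j => ?_
    have h1 := congrFun (congrFun hfix (e i)) (e j)
    rw [coordR_gl] at h1
    rw [mem_fixField]
    simpa [glReindex] using h1
  set M := (coordJ τ e P₁ 1 : Matrix κ κ F) with hMdef
  have hM : M = c • ((X : Matrix κ κ F)ᵀ * (C : Matrix κ κ F) * (X : Matrix κ κ F)) := by
    rw [hMdef, hP₁, coordJ_change, hJ, Matrix.mul_smul, Matrix.smul_mul, mul_one, ← hX, mul_assoc]
  have hMτ : M.map τ = ε • M := by
    have hC3 : (C : Matrix κ κ F).map τ * ((C : Matrix κ κ F) * (X : Matrix κ κ F)) = (X : Matrix κ κ F) := by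
      rw [← mul_assoc, hC, one_mul]
    rw [hM, Matrix.map_smul' (hf := map_mul τ), hcτ, map_mul_equiv, map_mul_equiv, ← hX, Matrix.transpose_map,
      ← hX, Matrix.transpose_mul, hCt, Matrix.mul_smul, Matrix.smul_mul, Matrix.smul_mul, smul_comm ε c]
    congr 2
    rw [mul_assoc, hC3]
  have hrat : ∀ ζ : F, τ ζ * ε = ζ → IsFormRationalStructure (hermForm n F q) (fixField τ) ζ P₁ := fun ζ hζ =>
    formRational_of_rat hU.geom fun i j => by
      have h1 := congrFun (congrFun hMτ (e i)) (e j)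
      simp only [hMdef, coordJ_val, Matrix.map_apply, Matrix.submatrix_apply, Equiv.symm_apply_apply,
        Matrix.smul_apply, smul_eq_mul] at h1
      rw [mem_fixField, Matrix.smul_apply, smul_eq_mul, map_mul, h1, ← mul_assoc, hζ]
  by_cases hq : ε = 1 ∧ Odd q
  · exact ⟨_, Or.inr (Or.inr (Or.inr (Or.inr (Or.inr (Or.inl ⟨fixField τ, P₁, hq.2, hU.card_sq,
      hrat 1 (by rw [map_one, hq.1, one_mul]), rfl⟩))))), hle⟩
  have hneg : ε = -1 := by
    rcases hε with h | h
    · have h2 : (2 : F) = 0 := by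
        by_contra h2; exact hq ⟨h, hU.two_iff.1 h2⟩
      rw [h]; linear_combination h2
    · exact h
  obtain ⟨c₀, hc₀⟩ := exists_moved hU.ne
  have hζ0 : c₀ - τ c₀ ≠ 0 := sub_ne_zero.2 (Ne.symm hc₀)
  refine ⟨_, Or.inr (Or.inr (Or.inr (Or.inr (Or.inr (Or.inr (Or.inl ⟨fixField τ, P₁, c₀ - τ c₀, hev, hU.card_sq,
    hζ0, by rw [← hU.pow, map_sub, hU.invol]; ring,
    hrat _ (by rw [hneg, map_sub, hU.invol]; ring), fun u hu => ?_, rfl⟩)))))), hle⟩
  have hu' : (u ∘ e.symm) ∘ e = u := by funext i; simp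
  have hτu : (τ : F → F) ∘ (u ∘ e.symm) = u ∘ e.symm := funext fun i => mem_fixField.1 (hu _)
  conv_lhs => rw [← hu', coord_form hU.geom e P₁]
  rw [← hMdef]
  have e1 : formOfGram τ M (u ∘ e.symm) (u ∘ e.symm) = formOfGram (RingEquiv.refl F) M (u ∘ e.symm) (u ∘ e.symm) := by
    simp only [formOfGram, RingEquiv.refl_apply, show ∀ i, τ ((u ∘ e.symm) i) = (u ∘ e.symm) i from congrFun hτu]
  rw [e1, hM, formOfGram_smul,
    show (X : Matrix κ κ F)ᵀ * (C : Matrix κ κ F) * (X : Matrix κ κ F) =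
      (X : Matrix κ κ F)ᵀ * (C : Matrix κ κ F) * (X : Matrix κ κ F).map (RingEquiv.refl F) from
        congrArg _ (Matrix.map_id _).symm, ← formOfGram_mulVec,
    (symplectic_of_gram C.isUnit (by rw [hCt, hneg, neg_one_smul]) hdiag).alternating, mul_zero]

end CfsgLib.AschbacherForm
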