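import Cfsg.Agent.Lib.AschbacherForm.UnitBase

/-!
The third class for the unitary groups.
-/

set_option autoImplicit false
set_option linter.unusedSectionVars false

namespace CfsgLib.AschbacherForm

open Cfsg Cfsg.Geo CfsgLib.Aschbacher
open scoped Matrix MatrixGroups

universe u
variable {F : Type u} [Field F] [Fintype F] {n q : ℕ} {τ : F ≃+* F}

/-- An adjoint-closed subfield has odd degree. -/
theorem adjClosed_degree_odd [NeZero n] (hU : UForm n q τ) {r : ℕ} (hr : r.Prime)
    {K : Subalgebra F (Matrix (Fin n) (Fin n) F)} (hK : IsFieldSubalgebra r K)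
    (hadj : ∀ k ∈ K, adj τ (1 : GL (Fin n) F) k ∈ K) : Odd r := by
  classical
  refine hr.eq_two_or_odd'.resolve_left fun hr2 => ?_
  subst hr2
  haveI : Finite (Matrix (Fin n) (Fin n) F) := inferInstanceAs (Finite (Fin n → Fin n → F))
  haveI : Finite K := Subtype.finite
  have hKF : IsField K :=
    { exists_pair_ne := ⟨1, 0, fun h => one_ne_zero (congrArg Subtype.val h : (1 : Matrix (Fin n) (Fin n) F) = 0)⟩
      mul_comm := fun a b => Subtype.ext (hK.comm _ a.2 _ b.2)
      mul_inv_cancel := fun {a} ha => by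
        obtain ⟨y, hy, h⟩ := hK.inv a a.2 fun e => ha (Subtype.ext e)
        exact ⟨⟨y, hy⟩, Subtype.ext h⟩ }
  letI : Field K := hKF.toField
  let φ : K →+* K :=
    { toFun := fun k => ⟨adj τ 1 (k : Matrix (Fin n) (Fin n) F), hadj _ k.2⟩
      map_one' := Subtype.ext (adj_one τ 1)
      map_zero' := Subtype.ext (adj_zero τ 1)
      map_mul' := fun a b => Subtype.ext (by
        show adj τ 1 ((a : Matrix (Fin n) (Fin n) F) * (b : Matrix (Fin n) (Fin n) F)) = adj τ 1 (a : Matrix (Fin n) (Fin n) F) * adj τ 1 (b : Matrix (Fin n) (Fin n) F)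
        rw [adj_mul]
        exact hK.comm _ (hadj _ b.2) _ (hadj _ a.2))
      map_add' := fun a b => Subtype.ext (adj_add τ 1 _ _) }
  have hφφ : ∀ a, φ (φ a) = a := fun a => Subtype.ext (adj_adj hU.geom _)
  have hsym : ∀ c, τ.symm c = τ c := fun c => by rw [RingEquiv.symm_apply_eq, hU.invol]
  have hφalg : ∀ c : F, φ (algebraMap F K c) = algebraMap F K (τ c) := fun c => Subtype.ext (by
    show adj τ 1 (algebraMap F (Matrix (Fin n) (Fin n) F) c) = algebraMap F (Matrix (Fin n) (Fin n) F) (τ c)
    rw [adj_algebraMap, hsym])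
  let S : Subfield K := φ.eqLocusField (RingHom.id K)
  obtain ⟨c₀, hc₀⟩ := exists_moved hU.ne
  have hd : algebraMap F K (c₀ - τ c₀) ≠ 0 := fun e =>
    hc₀ (sub_eq_zero.1 ((algebraMap F K).injective (e.trans (map_zero _).symm))).symm
  have hcardK : Nat.card K = Nat.card F ^ 2 := by
    rw [Module.natCard_eq_pow_finrank (K := F) (V := K), hK.finrank_eq]
  have hS : Nat.card K = Nat.card S ^ 2 := by
    rw [sq, ← Nat.card_prod]
    refine (Nat.card_congr (Equiv.ofBijective (fun x : S × S => (x.1 : K) + algebraMap F K c₀ * (x.2 : K))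
      ⟨fun x y e => ?_, fun k => ?_⟩)).symm
    · have e' := congrArg φ e
      simp only [map_add, map_mul, hφalg, show ∀ s : S, φ (s : K) = s from fun s => s.2] at e'
      simp only at e
      have e2 : (x.2 : K) = y.2 := mul_left_cancel₀ hd (by rw [map_sub]; linear_combination e - e')
      refine Prod.ext (Subtype.ext ?_) (Subtype.ext e2)
      rw [e2] at e
      exact add_right_cancel e
    · set b := (k - φ k) * (algebraMap F K (c₀ - τ c₀))⁻¹ with hb
      have hbS : φ b = b := by
        rw [hb, map_mul, map_sub, hφφ, map_inv₀, hφalg, map_sub, hU.invol, map_sub, map_sub, ← neg_sub k,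
          ← neg_sub (algebraMap F K c₀), inv_neg, neg_mul_neg]
      refine ⟨(⟨k - algebraMap F K c₀ * b, ?_⟩, ⟨b, hbS⟩), by simp⟩
      show φ (k - algebraMap F K c₀ * b) = k - algebraMap F K c₀ * b
      rw [map_sub, map_mul, hφalg, hbS]
      have h1 : b * algebraMap F K (c₀ - τ c₀) = k - φ k := by rw [hb, mul_assoc, inv_mul_cancel₀ hd, mul_one]
      rw [map_sub] at h1
      linear_combination h1
  rw [hcardK, Nat.pow_left_inj two_ne_zero] at hS
  have hSfix : ∀ s : S, (s : K) ^ Nat.card F = s := fun s => by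
    haveI : Fintype S := Fintype.ofFinite S
    rw [hS, Nat.card_eq_fintype_card]
    exact congrArg Subtype.val (FiniteField.pow_card s)
  have hq := natCard_fixed K (M := Nat.card F) Finite.one_lt_card (by
    rw [hcardK]
    simpa using sub_one_dvd_pow (a := Nat.card F) (one_dvd 2))
  let i : F → {x : K // x ^ Nat.card F = x} := fun c => ⟨algebraMap F K c, by
    rw [← map_pow, Nat.card_eq_fintype_card, FiniteField.pow_card]⟩
  have hi := Function.Injective.bijective_of_nat_card_le (f := i)
    (fun a b e => (algebraMap F K).injective (congrArg Subtype.val e :)) hq.le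
  have hmem : ∀ c : F, φ (algebraMap F K c) = algebraMap F K c → τ c = c := fun c e =>
    (algebraMap F K).injective ((hφalg c).symm.trans e)
  have hscal : ∀ s : S, ∃ c : F, (s : K) = algebraMap F K c := fun s => by
    obtain ⟨c, hc⟩ := hi.2 ⟨s, hSfix s⟩
    exact ⟨c, (congrArg Subtype.val hc :).symm⟩
  let j : S → fixField τ := fun s => ⟨(hscal s).choose, hmem _ (by
    rw [← (hscal s).choose_spec]; exact s.2)⟩
  have hj : Function.Injective j := fun a b e => Subtype.ext (by
    rw [(hscal a).choose_spec, (hscal b).choose_spec]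
    exact congrArg (algebraMap F K) (congrArg Subtype.val e :))
  have := Nat.card_le_card_of_injective j hj
  rw [← hS, hU.card_fix, Nat.card_eq_fintype_card, hU.card, sq] at this
  have := hU.q_pos
  nlinarith

/-- A normalised extension field leads to the third class. -/
theorem unit_field [NeZero n] (hU : UForm n q τ) {H : Subgroup (GL (Fin n) F)}
    (h : FieldExt (hermForm n F q) H) : UnitOver n q H := by
  obtain ⟨r, K, hr, hK, hadj, hle⟩ := h
  have hodd := adjClosed_degree_odd hU hr hK ((hU.geom.adjClosed_iff K).1 hadj)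
  exact ⟨_, Or.inr (Or.inr (Or.inr (Or.inr (Or.inr (Or.inr (Or.inr (Or.inr (Or.inl
    ⟨r, K, hr, hodd, hK, hadj, rfl⟩)))))))), hle⟩

end CfsgLib.AschbacherForm
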