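import Cfsg.Agent.Lib.AschbacherForm.UnitBase
import Cfsg.Agent.Lib.AschbacherForm.Kron

/-!
The group `3^{1+4}` over the field with four elements, normalised by tensor products of two `GU_3(2)`.
-/

set_option autoImplicit false
set_option linter.unusedSectionVars false

namespace CfsgLib.AschbacherForm

open Cfsg Cfsg.Geo CfsgLib.Aschbacher
open scoped Matrix MatrixGroups Kronecker

universe u
variable {F : Type u} [Field F]

/-- The standing data over the field with four elements. -/
structure Four [Fintype F] (τ : F ≃+* F) (ω : F) : Prop where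
  card : Fintype.card F = 4
  pow : ∀ x, τ x = x ^ 2
  omega : ω ^ 2 + ω + 1 = 0

/-- The powers of `ω`. -/
def pw (ω : F) (i : Fin 3) : F := ω ^ (i : ℕ)

theorem exists_four [Fintype F] {n : ℕ} {τ : F ≃+* F} (hU : UForm n 2 τ) : ∃ ω, Four τ ω := by
  obtain ⟨c, hc⟩ := exists_moved hU.ne
  rw [hU.pow] at hc
  have h3 := FiniteField.pow_card c
  rw [hU.card] at h3
  have h2 : (2 : F) = 0 := by
    by_contra h; exact absurd (hU.two_iff.1 h) (by decide)
  refine ⟨c, hU.card, hU.pow, ?_⟩
  have : (c ^ 2 + c + 1) * ((c ^ 2 - c)) = 0 := by linear_combination h3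
  exact (mul_eq_zero.1 this).resolve_right (sub_ne_zero.2 hc)

variable [Fintype F] {τ : F ≃+* F} {ω : F}

theorem Four.two (h : Four τ ω) : (2 : F) = 0 := by
  obtain ⟨p, hp⟩ := CharP.exists F
  haveI : Fact p.Prime := ⟨CharP.char_is_prime F p⟩
  have h4 : ((4 : ℕ) : F) = 0 := by rw [← h.card]; exact Nat.cast_card_eq_zero F
  have : (2 : F) * 2 = 0 := by norm_num; exact_mod_cast h4
  exact mul_self_eq_zero.1 this

theorem Four.cube (h : Four τ ω) : ω ^ 3 = 1 := by linear_combination (ω - 1) * h.omega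

theorem Four.ne_zero (h : Four τ ω) : ω ≠ 0 := fun e => by simpa [e] using h.cube

theorem Four.unit_cube (h : Four τ ω) {x : F} (hx : x ≠ 0) : x ^ 3 = 1 := by
  have h1 := FiniteField.pow_card x
  rw [h.card] at h1
  exact mul_left_cancel₀ hx (by linear_combination h1)

theorem Four.norm (h : Four τ ω) {x : F} (hx : x ≠ 0) : x * τ x = 1 := by
  rw [h.pow, ← h.unit_cube hx]; ring

theorem Four.pw_add (h : Four τ ω) (i j : Fin 3) : pw ω (i + j) = pw ω i * pw ω j := by
  rw [pw, pw, pw, ← pow_add, Fin.val_add, ← pow_eq_pow_mod _ h.cube]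

theorem pw_zero (ω : F) : pw ω 0 = 1 := by simp [pw]

theorem Four.pw_ne (h : Four τ ω) (i : Fin 3) : pw ω i ≠ 0 := pow_ne_zero _ h.ne_zero

theorem Four.tau_pw (h : Four τ ω) (i : Fin 3) : τ (pw ω i) = pw ω (i + i) := by
  rw [h.pow, h.pw_add, sq]

theorem Four.exists_pw (h : Four τ ω) {x : F} (hx : x ≠ 0) : ∃ i, x = pw ω i := by
  have h1 : (x - 1) * ((x - ω) * (x - ω ^ 2)) = 0 := by
    linear_combination h.unit_cube hx - h.cube - (x ^ 2 - ω * x) * h.omega
  rcases mul_eq_zero.1 h1 with e | e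
  · exact ⟨0, by rw [pw_zero]; exact sub_eq_zero.1 e⟩
  rcases mul_eq_zero.1 e with e | e
  · exact ⟨1, by rw [pw]; simpa using sub_eq_zero.1 e⟩
  · exact ⟨2, by rw [pw]; simpa using sub_eq_zero.1 e⟩

theorem Four.pw_inj (h : Four τ ω) {i : Fin 3} (hi : pw ω i = 1) : i = 0 := by
  have h1 : ω ≠ 1 := fun e => by
    have := h.omega
    rw [e] at this
    exact one_ne_zero (α := F) (by linear_combination this - h.two)
  fin_cases i
  · rfl
  · simp [pw] at hi; exact absurd hi h1
  · change ω ^ 2 = 1 at hi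
    exact absurd (show ω = 1 by linear_combination h.cube - ω * hi) h1

theorem Four.sum_pw (h : Four τ ω) (i : Fin 3) : ∑ k, pw ω (i * k) = if i = 0 then 1 else 0 := by
  have h2 := h.two
  have e1 : (3 : F) = 1 := by linear_combination h2
  fin_cases i <;> simp [Fin.sum_univ_three, pw] <;> first
    | linear_combination e1
    | linear_combination h.omega

/-- The monomial Weyl matrices. -/
def weyl (ω : F) (a b : Fin 3) : Matrix (Fin 3) (Fin 3) F := fun i j => if j = i + a then pw ω (b * i) else 0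

theorem Four.weyl_mul (h : Four τ ω) (a b c d : Fin 3) :
    weyl ω a b * weyl ω c d = pw ω (d * a) • weyl ω (a + c) (b + d) := by
  ext i j
  rw [Matrix.mul_apply, Finset.sum_eq_single (i + a)]
  · simp only [weyl, if_true, Matrix.smul_apply, smul_eq_mul, add_assoc]
    split_ifs with hj
    · rw [← h.pw_add, ← h.pw_add]
      congr 1
      clear hj; revert i a b d; decide
    · simp
  · intro k _ hk; simp [weyl, hk]
  · simp

theorem weyl_zero (ω : F) : weyl ω 0 0 = 1 := by
  ext i j; simp [weyl, pw, Matrix.one_apply, eq_comm]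

theorem Four.weyl_sim (h : Four τ ω) (a b : Fin 3) : IsSim τ (1 : Matrix (Fin 3) (Fin 3) F) (weyl ω a b) 1 := by
  rw [IsSim, one_smul, mul_one]
  ext i j
  rw [Matrix.mul_apply, Finset.sum_eq_single (i - a)]
  · simp only [Matrix.transpose_apply, Matrix.map_apply, weyl, sub_add_cancel, if_true, Matrix.one_apply]
    split_ifs with h1 h2 h2
    · rw [h.norm (h.pw_ne _)]
    · exact absurd h1.symm h2
    · exact absurd h2.symm h1
    · simp
  · intro k _ hk
    have : i ≠ k + a := fun e => hk (by rw [e, add_sub_cancel_right])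
    simp [weyl, this]
  · simp

/-- The matrices normalising the Weyl matrices up to scalars. -/
def NW (ω : F) : Submonoid (GL (Fin 3) F) where
  carrier := {g | ∀ a b : Fin 3, ∃ (z : F) (a' b' : Fin 3), (g : Matrix (Fin 3) (Fin 3) F) * weyl ω a b = z • (weyl ω a' b' * (g : Matrix (Fin 3) (Fin 3) F))}
  one_mem' := fun a b => ⟨1, a, b, by simp⟩
  mul_mem' := by
    intro g g' hg hg' a b
    obtain ⟨z, a', b', e⟩ := hg' a b
    obtain ⟨z', a'', b'', e'⟩ := hg a' b'
    exact ⟨z * z', a'', b'', by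
      rw [Units.val_mul, mul_assoc, e, Matrix.mul_smul, ← mul_assoc, e', Matrix.smul_mul, smul_smul, mul_assoc]⟩

theorem NW_inv {g : GL (Fin 3) F} (hg : g ∈ NW ω) : g⁻¹ ∈ NW ω := by
  haveI : Finite (GL (Fin 3) F) := inferInstance
  obtain ⟨k, hk⟩ : g⁻¹ ∈ Submonoid.powers g := mem_powers_iff_mem_zpowers.2 (inv_mem (Subgroup.mem_zpowers g))
  exact hk ▸ (NW ω).pow_mem hg k

theorem aux_perm : ∀ π : Fin 3 → Fin 3, Function.Injective π → ∀ a b : Fin 3, ∃ a' z b' : Fin 3, ∀ c,
    π c + a' = π (c + a) ∧ b * c = z + b' * π c := by decide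

theorem aux_diag : ∀ π : Fin 3 → Fin 3, Function.Injective π → ∀ (e : Fin 3 → Fin 3) (a : Fin 3), ∃ z b' : Fin 3,
    ∀ c, e c - e (c + a) = z + b' * π c := by decide

theorem Four.monomial_mem (h : Four τ ω) (g : GL (Fin 3) F)
    (hg : ∀ j, ∃ k, (g : Matrix (Fin 3) (Fin 3) F) k j ≠ 0 ∧ ∀ i, i ≠ k → (g : Matrix (Fin 3) (Fin 3) F) i j = 0)
    (hinj : ∀ j j' k, (g : Matrix (Fin 3) (Fin 3) F) k j ≠ 0 → (g : Matrix (Fin 3) (Fin 3) F) k j' ≠ 0 → j = j') :
    g ∈ NW ω := by
  choose π hπ0 hπ using hg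
  have hπi : Function.Injective π := fun j j' e => hinj j j' (π j) (hπ0 j) (e ▸ hπ0 j')
  choose e he using fun j => h.exists_pw (hπ0 j)
  intro a b
  obtain ⟨a', z₁, b₁, h1⟩ := aux_perm π hπi a b
  obtain ⟨z₂, b₂, h2⟩ := aux_diag π hπi e a
  refine ⟨pw ω (z₁ + z₂), a', b₁ + b₂, Matrix.ext fun i j => ?_⟩
  rw [Matrix.mul_apply, Finset.sum_eq_single (j - a), Matrix.smul_apply, Matrix.mul_apply,
    Finset.sum_eq_single (i + a')]
  · simp only [weyl, sub_add_cancel, if_true, smul_eq_mul]
    by_cases hi : i = π (j - a)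
    · have hj : i + a' = π j := by rw [hi, (h1 _).1, sub_add_cancel]
      rw [hi, he, ← hi, hj, he, ← h.pw_add, ← h.pw_add, ← h.pw_add]
      congr 1
      have h3 := h2 (j - a)
      rw [sub_add_cancel, sub_eq_iff_eq_add] at h3
      rw [h3, hi, (h1 (j - a)).2]
      open scoped Fin.CommRing in ring
    · have hj : i + a' ≠ π j := fun e' => hi (by
        have := (h1 (j - a)).1
        rw [sub_add_cancel, ← e'] at this
        exact add_right_cancel this.symm)
      rw [hπ _ _ hi, hπ _ _ hj]; simp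
  · intro k _ hk; simp [weyl, hk]
  · simp
  · intro k _ hk
    have : j ≠ k + a := fun e' => hk (by rw [e', add_sub_cancel_right])
    simp [weyl, this]
  · simp
where
  dummy : True := trivial

/-- The Fourier matrix. -/
def fourier (ω : F) : Matrix (Fin 3) (Fin 3) F := fun i j => pw ω (i * j)

theorem Four.fourier_sim (h : Four τ ω) : IsSim τ (1 : Matrix (Fin 3) (Fin 3) F) (fourier ω) 1 := by
  rw [IsSim, one_smul, mul_one]
  ext i j
  simp only [Matrix.mul_apply, Matrix.transpose_apply, Matrix.map_apply, fourier, h.tau_pw, ← h.pw_add,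
    Matrix.one_apply]
  rw [Finset.sum_congr rfl fun k _ => congrArg (pw ω)
    (show k * i + (k * j + k * j) = (i + j + j) * k by revert i j k; decide), h.sum_pw]
  exact if_congr (by revert i j; decide) rfl rfl

theorem Four.fourier_unit (h : Four τ ω) : IsUnit (fourier ω) := by
  have h1 : (fourier ω)ᵀ * 1 * (fourier ω).map τ = 1 := by
    have := h.fourier_sim; rwa [IsSim, one_smul] at this
  rw [mul_one] at h1
  exact ⟨⟨fourier ω, ((fourier ω).map τ)ᵀ, by
    rw [← Matrix.transpose_inj, Matrix.transpose_mul, Matrix.transpose_transpose, Matrix.transpose_one]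
    exact mul_eq_one_comm.1 h1, by
    rw [← Matrix.transpose_inj, Matrix.transpose_mul, Matrix.transpose_transpose, Matrix.transpose_one]
    exact h1⟩, rfl⟩

theorem Four.fourier_conj (h : Four τ ω) (a b : Fin 3) :
    fourier ω * weyl ω a b = pw ω (-(a * b)) • (weyl ω b (-a) * fourier ω) := by
  ext i j
  rw [Matrix.mul_apply, Finset.sum_eq_single (j - a), Matrix.smul_apply, Matrix.mul_apply,
    Finset.sum_eq_single (i + b)]
  · simp only [weyl, fourier, sub_add_cancel, if_true, smul_eq_mul, ← h.pw_add]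
    congr 1
    revert i j a b; decide
  · intro k _ hk; simp [weyl, hk]
  · simp
  · intro k _ hk
    have : j ≠ k + a := fun e' => hk (by rw [e', add_sub_cancel_right])
    simp [weyl, this]
  · simp

theorem Four.fourier_mem (h : Four τ ω) : h.fourier_unit.unit ∈ NW ω := fun a b => by
  rw [IsUnit.unit_spec]
  exact ⟨_, _, _, h.fourier_conj a b⟩

theorem Four.fixed_column_mem (h : Four τ ω) (g : GL (Fin 3) F)
    (hg : IsSim τ (1 : Matrix (Fin 3) (Fin 3) F) (g : Matrix (Fin 3) (Fin 3) F) 1)
    (hcol : ∀ k, k ≠ 0 → (g : Matrix (Fin 3) (Fin 3) F) k 0 = 0) : g ∈ NW ω := by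
  classical
  rw [IsSim, one_smul, mul_one] at hg
  have hent : ∀ i j, ∑ k, (g : Matrix (Fin 3) (Fin 3) F) k i * τ ((g : Matrix (Fin 3) (Fin 3) F) k j) =
      if i = j then 1 else 0 := fun i j => by
    simpa [Matrix.mul_apply, Matrix.one_apply] using congrFun (congrFun hg i) j
  have h00 : (g : Matrix (Fin 3) (Fin 3) F) 0 0 ≠ 0 := fun e => by
    have := hent 0 0
    simp [Fin.sum_univ_three, e, hcol] at this
  have hrow : ∀ j, j ≠ 0 → (g : Matrix (Fin 3) (Fin 3) F) 0 j = 0 := fun j hj => by
    have := hent 0 j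
    simp [Fin.sum_univ_three, hcol, hj.symm] at this
    exact this.resolve_left h00
  have hex : ∀ j, ∃ k, (g : Matrix (Fin 3) (Fin 3) F) k j ≠ 0 ∧
      ∀ i, i ≠ k → (g : Matrix (Fin 3) (Fin 3) F) i j = 0 := fun j => by
    rcases eq_or_ne j 0 with rfl | hj
    · exact ⟨0, h00, hcol⟩
    have h1 := hent j j
    simp only [Fin.sum_univ_three, hrow j hj, zero_mul, zero_add, if_true] at h1
    by_cases e1 : (g : Matrix (Fin 3) (Fin 3) F) 1 j = 0
    · rw [e1, zero_mul, zero_add] at h1
      refine ⟨2, fun e => ?_, fun i hi => ?_⟩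
      · rw [e, zero_mul] at h1; exact one_ne_zero h1.symm
      · fin_cases i
        · exact hrow j hj
        · exact e1
        · exact absurd rfl hi
    · refine ⟨1, e1, fun i hi => ?_⟩
      rcases (by revert hi; revert i; decide : i = 0 ∨ i = 2) with rfl | rfl
      · exact hrow j hj
      · by_contra e2
        rw [h.norm e1, h.norm e2] at h1
        exact one_ne_zero (α := F) (by linear_combination -h1 + h.two)
  refine h.monomial_mem g hex fun j j' k hj hj' => ?_
  by_contra hne
  have h1 := hent j j'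
  rw [if_neg hne, Finset.sum_eq_single k] at h1
  · exact (mul_ne_zero hj (τ.map_ne_zero_iff.2 hj')) h1
  · intro i _ hi
    obtain ⟨k', -, hk'⟩ := hex j
    have : k' = k := by by_contra e; exact hj (hk' k (Ne.symm e))
    rw [hk' i (this ▸ hi), zero_mul]
  · simp

/-- Every element of `GU₃(2)` normalises the Weyl matrices. -/
theorem Four.unitary_mem (h : Four τ ω) (g : GL (Fin 3) F)
    (hg : IsSim τ (1 : Matrix (Fin 3) (Fin 3) F) (g : Matrix (Fin 3) (Fin 3) F) 1) : g ∈ NW ω := by
  classical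
  set v := fun k => (g : Matrix (Fin 3) (Fin 3) F) k 0 with hv
  have hv1 : ∑ k, v k * τ (v k) = 1 := by
    have h1 := hg
    rw [IsSim, one_smul, mul_one] at h1
    simpa [Matrix.mul_apply] using congrFun (congrFun h1 0) 0
  by_cases hall : ∀ k, v k ≠ 0
  · have hD : IsUnit (Matrix.diagonal fun k => τ (v k)) := by
      rw [Matrix.isUnit_diagonal, Pi.isUnit_iff]
      exact fun k => (τ.map_ne_zero_iff.2 (hall k)).isUnit
    have hDsim : IsSim τ (1 : Matrix (Fin 3) (Fin 3) F) (hD.unit : Matrix (Fin 3) (Fin 3) F) 1 := by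
      rw [IsSim, one_smul, mul_one, IsUnit.unit_spec, Matrix.diagonal_transpose, Matrix.diagonal_map (map_zero τ),
        Matrix.diagonal_mul_diagonal, ← Matrix.diagonal_one]
      congr 1
      funext k
      exact h.norm (τ.map_ne_zero_iff.2 (hall k))
    have hDmem : hD.unit ∈ NW ω := by
      refine h.monomial_mem _ (fun j => ⟨j, ?_, fun i hi => ?_⟩) fun j j' k hj hj' => ?_
      · simpa using τ.map_ne_zero_iff.2 (hall j)
      · simp [hi]
      · have e1 : k = j := by by_contra e; exact hj (by simp [e])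
        have e2 : k = j' := by by_contra e; exact hj' (by simp [e])
        exact e1.symm.trans e2
    have hg' : h.fourier_unit.unit * hD.unit * g ∈ NW ω := by
      refine h.fixed_column_mem _ ?_ fun k hk => ?_
      · have := isSim_mul (isSim_mul h.fourier_sim hDsim) hg
        simpa [mul_one] using this
      · rw [Units.val_mul, Units.val_mul, mul_assoc, IsUnit.unit_spec, IsUnit.unit_spec, Matrix.mul_apply]
        have e : ∀ l, (Matrix.diagonal (fun k => τ (v k)) * (g : Matrix (Fin 3) (Fin 3) F)) l 0 = 1 := fun l => by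
          rw [Matrix.diagonal_mul, mul_comm]; exact h.norm (hall l)
        simp only [e, mul_one, fourier, h.sum_pw, if_neg hk]
    have := (NW ω).mul_mem (NW_inv ((NW ω).mul_mem h.fourier_mem hDmem)) hg'
    rwa [inv_mul_cancel_left] at this
  · push Not at hall
    obtain ⟨k₀, hk₀⟩ := hall
    obtain ⟨k₁, hk₁, hone⟩ : ∃ k₁, v k₁ ≠ 0 ∧ ∀ i, i ≠ k₁ → v i = 0 := by
      obtain ⟨k₁, hk₁⟩ : ∃ k₁, v k₁ ≠ 0 := by
        by_contra hz; push Not at hz; simp [hz] at hv1
      refine ⟨k₁, hk₁, fun i hi => ?_⟩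
      by_contra hvi
      have hsum : ∑ k, v k * τ (v k) = ∑ k ∈ ({k₁, i} : Finset (Fin 3)), v k * τ (v k) := by
        refine (Finset.sum_subset (Finset.subset_univ _) fun k _ hk => ?_).symm
        have hk' : k = k₀ := by
          simp only [Finset.mem_insert, Finset.mem_singleton, not_or] at hk
          have h01 : k₀ ≠ k₁ := fun e => hk₁ (e ▸ hk₀)
          have h0i : k₀ ≠ i := fun e => hvi (e ▸ hk₀)
          exact (show ∀ k k₀ k₁ i : Fin 3, i ≠ k₁ → k₀ ≠ k₁ → k₀ ≠ i → k ≠ k₁ → k ≠ i → k = k₀ by decide)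
            k k₀ k₁ i hi h01 h0i hk.1 hk.2
        rw [hk', hk₀, zero_mul]
      rw [hsum, Finset.sum_pair (Ne.symm hi), h.norm hk₁, h.norm hvi] at hv1
      exact one_ne_zero (α := F) (by linear_combination -hv1 + h.two)
    let π : Matrix (Fin 3) (Fin 3) F := fun i j => if j = Equiv.swap 0 k₁ i then 1 else 0
    have hπ : π * π = 1 := by
      ext i j
      rw [Matrix.mul_apply, Matrix.one_apply]
      rw [Finset.sum_eq_single (Equiv.swap 0 k₁ i)]
      · simp [π, eq_comm]
      · intro l _ hl; simp [π, hl]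
      · simp
    let u : GL (Fin 3) F := ⟨π, π, hπ, hπ⟩
    have husim : IsSim τ (1 : Matrix (Fin 3) (Fin 3) F) (u : Matrix (Fin 3) (Fin 3) F) 1 := by
      rw [IsSim, one_smul, mul_one]
      have e : (u : Matrix (Fin 3) (Fin 3) F).map τ = π := by ext i j; rw [Matrix.map_apply]; simp [u, π, apply_ite τ]
      have et : πᵀ = π := by
        ext i j
        simp only [π, Matrix.transpose_apply]
        exact if_congr ⟨fun e' => by rw [e', Equiv.swap_apply_self], fun e' => by rw [e', Equiv.swap_apply_self]⟩ rfl rfl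
      rw [e]; exact et.symm ▸ hπ
    have humem : u ∈ NW ω := by
      refine h.monomial_mem _ (fun j => ⟨Equiv.swap 0 k₁ j, by simp [u, π], fun i hi => ?_⟩) fun j j' k hj hj' => ?_
      · have : j ≠ Equiv.swap 0 k₁ i := fun e => hi (by rw [e, Equiv.swap_apply_self])
        simp [u, π, this]
      · have e1 : j = Equiv.swap 0 k₁ k := by by_contra e; exact hj (by simp [u, π, e])
        have e2 : j' = Equiv.swap 0 k₁ k := by by_contra e; exact hj' (by simp [u, π, e])
        exact e1.trans e2.symm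
    have hg' : u * g ∈ NW ω := by
      refine h.fixed_column_mem _ (by simpa [mul_one] using isSim_mul husim hg) fun k hk => ?_
      rw [Units.val_mul, Matrix.mul_apply, Finset.sum_eq_single (Equiv.swap 0 k₁ k)]
      · simp only [u, π, if_true, one_mul]
        refine hone _ fun e => hk ?_
        have := congrArg (Equiv.swap 0 k₁) e
        simpa using this
      · intro l _ hl; simp [u, π, hl]
      · simp
    have := (NW ω).mul_mem (NW_inv humem) hg'
    rwa [inv_mul_cancel_left] at this

end CfsgLib.AschbacherForm
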