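import Cfsg.Agent.Lib.AschbacherForm.UnitNine
import Cfsg.Agent.Lib.AschbacherForm.Tensor
import Cfsg.Agent.Lib.AschbacherForm.UnitCoord

/-!
The sixth class in dimension nine over the field with four elements.
-/

set_option autoImplicit false
set_option linter.unusedSectionVars false

namespace CfsgLib.AschbacherForm

open Cfsg Cfsg.Geo CfsgLib.Aschbacher
open scoped Matrix MatrixGroups Kronecker

universe u
variable {F : Type u} [Field F]

theorem sim_of_coord {ι κ : Type} [Fintype ι] [DecidableEq ι] [Fintype κ] [DecidableEq κ] (σ : F ≃+* F) (e : ι ≃ κ)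
    (P J g : GL ι F) (c : F) (h : IsSim σ (coordJ σ e P J : Matrix κ κ F) (coordR e P (g : Matrix ι ι F)) c) :
    IsSim σ (J : Matrix ι ι F) (g : Matrix ι ι F) c := by
  have key : ((P : Matrix ι ι F)ᵀ * ((g : Matrix ι ι F)ᵀ * (J : Matrix ι ι F) * (g : Matrix ι ι F).map σ) *
      (P : Matrix ι ι F).map σ).submatrix e.symm e.symm =
      ((P : Matrix ι ι F)ᵀ * (c • (J : Matrix ι ι F)) * (P : Matrix ι ι F).map σ).submatrix e.symm e.symm := by
    unfold IsSim at h
    rw [coordR_apply, coordJ_val, Matrix.transpose_submatrix, Matrix.submatrix_mul_equiv,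
      ← Matrix.submatrix_map, Matrix.submatrix_mul_equiv, smul_submatrix] at h
    rw [Matrix.mul_smul, Matrix.smul_mul, ← h]
    refine congrArg (fun M : Matrix ι ι F => M.submatrix e.symm e.symm) ?_
    simp only [Matrix.transpose_mul, map_mul_equiv]
    calc _ = (P : Matrix ι ι F)ᵀ * ((g : Matrix ι ι F)ᵀ * ((↑P⁻¹ : Matrix ι ι F)ᵀ * (P : Matrix ι ι F)ᵀ) *
          (J : Matrix ι ι F) * ((P : Matrix ι ι F).map σ * (↑P⁻¹ : Matrix ι ι F).map σ) *
          (g : Matrix ι ι F).map σ) * (P : Matrix ι ι F).map σ := by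
            rw [← Matrix.transpose_mul, ← map_mul_equiv, Units.mul_inv, Matrix.transpose_one,
              Matrix.map_one σ (map_zero σ) (map_one σ), mul_one, mul_one]
      _ = _ := by simp only [mul_assoc]
  have h2 := congrArg (fun M : Matrix κ κ F => M.submatrix e e) key
  simp only [Matrix.submatrix_submatrix, Equiv.symm_comp_self, Matrix.submatrix_id_id] at h2
  exact (((Matrix.isUnit_transpose _).2 P.isUnit).mul_right_inj).1
    (((P.isUnit.map (RingHom.mapMatrix (σ : F →+* F))).mul_left_inj).1 h2)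

variable [Fintype F] {τ : F ≃+* F} {ω : F}

local notation "κ₉" => Fin 3 × Fin 3

/-- The standard elements. -/
def wpair (ω : F) (z : Fin 3) (a : κ₉) (b : κ₉) : Matrix κ₉ κ₉ F :=
  pw ω z • (weyl ω a.1 a.2 ⊗ₖ weyl ω b.1 b.2)

theorem Four.wpair_mul (h : Four τ ω) (z z' : Fin 3) (a a' b b' : κ₉) :
    wpair ω z a b * wpair ω z' a' b' = wpair ω (z + z' + (a'.2 * a.1 + b'.2 * b.1)) (a + a') (b + b') := by
  simp only [wpair, Matrix.smul_mul, Matrix.mul_smul, ← Matrix.mul_kronecker_mul, h.weyl_mul,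
    Matrix.smul_kronecker, Matrix.kronecker_smul, smul_smul, Prod.fst_add, Prod.snd_add, h.pw_add]
  congr 1
  ring

theorem wpair_one (ω : F) : wpair ω 0 0 0 = 1 := by
  simp [wpair, pw_zero, weyl_zero]

/-- A standard element as a unit. -/
noncomputable def Four.wgl (h : Four τ ω) (z : Fin 3) (a b : κ₉) : GL κ₉ F :=
  Units.mk (wpair ω z a b) (wpair ω (-z + (a.2 * a.1 + b.2 * b.1)) (-a) (-b))
    (by
      rw [h.wpair_mul, add_neg_cancel, add_neg_cancel]
      convert wpair_one ω using 2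
      obtain ⟨a1, a2⟩ := a; obtain ⟨b1, b2⟩ := b
      simp only [Prod.snd_neg]; revert z a1 a2 b1 b2; decide)
    (by
      rw [h.wpair_mul, neg_add_cancel, neg_add_cancel]
      convert wpair_one ω using 2
      obtain ⟨a1, a2⟩ := a; obtain ⟨b1, b2⟩ := b
      simp only [Prod.fst_neg]; revert z a1 a2 b1 b2; decide)

theorem Four.wpair_inj (h : Four τ ω) {z z' : Fin 3} {a a' b b' : κ₉} (e : wpair ω z a b = wpair ω z' a' b') :
    z = z' ∧ a = a' ∧ b = b' := by
  have h1 : ∀ (z : Fin 3) (a b : κ₉) (i : κ₉), wpair ω z a b i (i.1 + a.1, i.2 + b.1) =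
      pw ω (z + (a.2 * i.1 + b.2 * i.2)) := fun z a b i => by
    simp [wpair, weyl, Matrix.kronecker_apply, h.pw_add]
  have hshift : a.1 = a'.1 ∧ b.1 = b'.1 := by
    by_contra hne
    have e1 := congrFun (congrFun e (0, 0)) ((0 : Fin 3) + a.1, (0 : Fin 3) + b.1)
    rw [h1 z a b (0, 0)] at e1
    refine h.pw_ne _ (e1.trans ?_)
    simp only [wpair, weyl, Matrix.smul_apply, Matrix.kronecker_apply, zero_add]
    rcases not_and_or.1 hne with e2 | e2 <;> simp [e2]
  have key : ∀ i : κ₉, z + (a.2 * i.1 + b.2 * i.2) = z' + (a'.2 * i.1 + b'.2 * i.2) := fun i => by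
    have e1 := congrFun (congrFun e i) (i.1 + a.1, i.2 + b.1)
    rw [h1] at e1
    rw [hshift.1, hshift.2, h1] at e1
    refine sub_eq_zero.1 (h.pw_inj (mul_right_cancel₀ (h.pw_ne (z' + (a'.2 * i.1 + b'.2 * i.2))) ?_))
    rw [← h.pw_add, sub_add_cancel, one_mul, e1]
  have k0 := key (0, 0)
  simp only [mul_zero, add_zero] at k0
  have k1 := key (1, 0)
  have k2 := key (0, 1)
  simp only [mul_one, mul_zero, add_zero, zero_add, k0, add_right_inj] at k1 k2
  exact ⟨k0, Prod.ext hshift.1 k1, Prod.ext hshift.2 k2⟩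

/-- The extraspecial group. -/
noncomputable def Four.group (h : Four τ ω) : Subgroup (GL κ₉ F) where
  carrier := {x | ∃ z a b, (x : Matrix κ₉ κ₉ F) = wpair ω z a b}
  one_mem' := ⟨0, 0, 0, (wpair_one ω).symm⟩
  mul_mem' := by
    rintro x y ⟨z, a, b, hx⟩ ⟨z', a', b', hy⟩
    exact ⟨_, _, _, by rw [Units.val_mul, hx, hy, h.wpair_mul]⟩
  inv_mem' := by
    rintro x ⟨z, a, b, hx⟩
    exact ⟨_, _, _, by rw [show x = h.wgl z a b from Units.ext hx]; rfl⟩

theorem Four.mem_group (h : Four τ ω) {x : GL κ₉ F} :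
    x ∈ h.group ↔ ∃ z a b, (x : Matrix κ₉ κ₉ F) = wpair ω z a b := Iff.rfl

theorem Four.group_cube (h : Four τ ω) {x : GL κ₉ F} (hx : x ∈ h.group) : x ^ 3 = 1 := by
  obtain ⟨z, a, b, hx⟩ := hx
  refine Units.ext ?_
  rw [Units.val_pow_eq_pow_val, hx, Units.val_one, pow_succ, sq, h.wpair_mul, h.wpair_mul, ← wpair_one ω]
  obtain ⟨a1, a2⟩ := a; obtain ⟨b1, b2⟩ := b
  simp only [Prod.mk_add_mk]
  clear hx
  congr 1
  · revert z a1 a2 b1 b2; decide
  · exact Prod.ext (by show a1 + a1 + a1 = 0; revert a1; decide) (by show a2 + a2 + a2 = 0; revert a2; decide)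
  · exact Prod.ext (by show b1 + b1 + b1 = 0; revert b1; decide) (by show b2 + b2 + b2 = 0; revert b2; decide)

theorem Four.group_card (h : Four τ ω) : Nat.card h.group = 3 ^ 5 := by
  let f : Fin 3 × κ₉ × κ₉ → h.group := fun p => ⟨h.wgl p.1 p.2.1 p.2.2, ⟨_, _, _, rfl⟩⟩
  have hf : Function.Bijective f := by
    refine ⟨fun p q e => ?_, fun x => ?_⟩
    · obtain ⟨e1, e2, e3⟩ := h.wpair_inj (congrArg (fun y : h.group => ((y : GL κ₉ F) : Matrix κ₉ κ₉ F)) e)
      exact Prod.ext e1 (Prod.ext e2 e3)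
    · obtain ⟨z, a, b, hx⟩ := x.2
      exact ⟨(z, a, b), Subtype.ext (Units.ext hx.symm)⟩
  rw [← Nat.card_congr (Equiv.ofBijective f hf), Nat.card_eq_fintype_card]
  simp

theorem Four.wpair_sim (h : Four τ ω) (z : Fin 3) (a b : κ₉) :
    IsSim τ (1 : Matrix κ₉ κ₉ F) (wpair ω z a b) 1 := by
  have h1 := h.weyl_sim a.1 a.2
  have h2 := h.weyl_sim b.1 b.2
  have hk : IsSim τ (1 : Matrix κ₉ κ₉ F) (weyl ω a.1 a.2 ⊗ₖ weyl ω b.1 b.2) 1 := by
    unfold IsSim at h1 h2 ⊢
    rw [mul_one, one_smul] at h1 h2 ⊢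
    rw [kron_map, ← Matrix.kroneckerMap_transpose, ← Matrix.mul_kronecker_mul, h1, h2, Matrix.one_kronecker_one]
  have := isSim_smul hk (pw ω z)
  rwa [h.norm (h.pw_ne z), one_mul] at this

theorem weyl_apply (ω : F) (a b i j : Fin 3) : weyl ω a b i j = if j = i + a then pw ω (b * i) else 0 := rfl

theorem Four.single_eq (h : Four τ ω) (i j : κ₉) : Matrix.single i j (1 : F) =
    ∑ s : Fin 3, ∑ t : Fin 3, pw ω (-(s * i.1 + t * i.2)) • wpair ω 0 (j.1 - i.1, s) (j.2 - i.2, t) := by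
  ext x y
  simp only [Matrix.sum_apply, wpair, weyl_apply, Matrix.smul_apply, Matrix.kroneckerMap_apply, pw_zero, smul_eq_mul,
    one_mul]
  by_cases hy : y.1 = x.1 + (j.1 - i.1) ∧ y.2 = x.2 + (j.2 - i.2)
  · simp only [hy.1, hy.2, if_true, ← h.pw_add]
    rw [Finset.sum_congr rfl fun s _ => Finset.sum_congr rfl fun t _ => congrArg (pw ω)
      (show -(s * i.1 + t * i.2) + (s * x.1 + t * x.2) = (x.1 - i.1) * s + (x.2 - i.2) * t by
        open scoped Fin.CommRing in ring)]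
    simp only [h.pw_add, ← Finset.mul_sum, ← Finset.sum_mul, h.sum_pw, sub_eq_zero]
    by_cases hx : x = i
    · subst hx
      have : y = j := Prod.ext (by rw [hy.1]; abel) (by rw [hy.2]; abel)
      subst this
      simp
    · rw [Matrix.single_apply, if_neg fun e => hx e.1.symm]
      rcases not_and_or.1 (fun e => hx (Prod.ext e.1 e.2)) with e' | e' <;> simp [e']
  · rw [Matrix.single_apply, if_neg]
    · rcases not_and_or.1 hy with e' | e' <;> simp [e']
    · rintro ⟨rfl, rfl⟩; exact hy ⟨by abel, by abel⟩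

/-- An element commuting with the standard elements is scalar. -/
theorem Four.comm_scalar (h : Four τ ω) {M : Matrix κ₉ κ₉ F}
    (hM : ∀ a b, M * wpair ω 0 a b = wpair ω 0 a b * M) : ∃ c : F, M = c • 1 := by
  obtain ⟨c, hc⟩ : M ∈ Set.range (Matrix.scalar κ₉ : F →+* _) := by
    refine Matrix.mem_range_scalar_of_commute_single fun i j _ => ?_
    show Commute _ M
    rw [h.single_eq]
    exact Commute.sum_left _ _ _ fun s _ => Commute.sum_left _ _ _ fun t _ => Commute.smul_left (hM _ _).symm _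
  exact ⟨c, by rw [← hc]; simp [Matrix.smul_one_eq_diagonal]⟩

theorem Four.group_center (h : Four τ ω) : Nat.card (Subgroup.center h.group) = 3 := by
  let f : Fin 3 → Subgroup.center h.group := fun z => ⟨⟨h.wgl z 0 0, ⟨_, _, _, rfl⟩⟩,
    Subgroup.mem_center_iff.2 fun y => Subtype.ext (Units.ext (by
      obtain ⟨z', a, b, hy⟩ := y.2
      show ((y : GL κ₉ F) : Matrix κ₉ κ₉ F) * wpair ω z 0 0 = wpair ω z 0 0 * ((y : GL κ₉ F) : Matrix κ₉ κ₉ F)
      rw [hy, h.wpair_mul, h.wpair_mul]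
      simp [add_comm]))⟩
  have hf : Function.Bijective f := by
    refine ⟨fun z z' e => (h.wpair_inj (congrArg (fun y => (((y : Subgroup.center h.group) : h.group) : GL κ₉ F).1) e)).1,
      fun x => ?_⟩
    obtain ⟨z, a, b, hx⟩ := x.1.2
    obtain ⟨c, hc⟩ := h.comm_scalar (M := ((x.1 : GL κ₉ F) : Matrix κ₉ κ₉ F)) fun a' b' =>
      (congrArg (fun y : h.group => ((y : GL κ₉ F) : Matrix κ₉ κ₉ F))
        (Subgroup.mem_center_iff.1 x.2 ⟨h.wgl 0 a' b', ⟨_, _, _, rfl⟩⟩)).symm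
    have hc0 : c ≠ 0 := fun e0 => (x.1 : GL κ₉ F).isUnit.ne_zero (by rw [hc, e0, zero_smul])
    obtain ⟨i, rfl⟩ := h.exists_pw hc0
    obtain ⟨rfl, rfl, rfl⟩ := h.wpair_inj (z := z) (a := a) (b := b) (z' := i) (a' := 0) (b' := 0)
      (by rw [← hx, hc]; simp [wpair, weyl_zero])
    exact ⟨z, Subtype.ext (Subtype.ext (Units.ext hx.symm))⟩
  rw [← Nat.card_congr (Equiv.ofBijective f hf)]
  simp

/-- Conjugation by an element normalising the group. -/
def conjEquiv {G : Type*} [Group G] {R : Subgroup G} (g : G) (h₁ : ∀ x ∈ R, g * x * g⁻¹ ∈ R)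
    (h₂ : ∀ x ∈ R, g⁻¹ * x * g ∈ R) : R ≃* R where
  toFun x := ⟨g * x * g⁻¹, h₁ x x.2⟩
  invFun x := ⟨g⁻¹ * x * g, h₂ x x.2⟩
  left_inv x := Subtype.ext (by simp [mul_assoc])
  right_inv x := Subtype.ext (by simp [mul_assoc])
  map_mul' x y := Subtype.ext (by simp [mul_assoc])

theorem Four.kron_normal (h : Four τ ω) {A B : GL (Fin 3) F}
    (hA : A ∈ NW ω) (hB : B ∈ NW ω) {x : GL κ₉ F} (hx : x ∈ h.group) :
    kronGL A B * x * (kronGL A B)⁻¹ ∈ h.group := by
  obtain ⟨z, a, b, hx⟩ := hx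
  obtain ⟨s, a1, a2, ea⟩ := hA a.1 a.2
  obtain ⟨t, b1, b2, eb⟩ := hB b.1 b.2
  have e : ((kronGL A B * x * (kronGL A B)⁻¹ : GL κ₉ F) : Matrix κ₉ κ₉ F) =
      (pw ω z * (s * t)) • (weyl ω a1 a2 ⊗ₖ weyl ω b1 b2) := by
    rw [Units.val_mul, Units.val_mul, hx, wpair, kronGL_val, Matrix.mul_smul, ← Matrix.mul_kronecker_mul, ea, eb,
      Matrix.smul_kronecker, Matrix.kronecker_smul, smul_smul, smul_smul, mul_assoc, Matrix.smul_mul,
      Matrix.mul_kronecker_mul, mul_assoc, ← kronGL_val A B, Units.mul_inv, mul_one]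
  have hne : pw ω z * (s * t) ≠ 0 := fun e0 => Units.isUnit _ |>.ne_zero (by rw [e, e0, zero_smul])
  obtain ⟨i, hi⟩ := h.exists_pw hne
  exact ⟨i, (a1, a2), (b1, b2), by rw [e, hi]; rfl⟩

/-- A characteristic abelian subgroup consists of scalars. -/
theorem Four.char_scalar (h : Four τ ω) {A : Subgroup h.group} (hA : A.Characteristic) (hAc : IsMulCommutative A)
    {x : h.group} (hx : x ∈ A) : ((x : GL κ₉ F) : GL κ₉ F) ∈ scalars κ₉ F := by
  classical
  set Φ := h.fourier_unit.unit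
  let U : GL κ₉ F := kronGL Φ 1
  have h1 : (1 : GL (Fin 3) F) ∈ NW ω := (NW ω).one_mem
  let φ : h.group ≃* h.group := conjEquiv U (fun x hx => h.kron_normal h.fourier_mem h1 hx) (fun x hx => by
    have := h.kron_normal (NW_inv h.fourier_mem) h1 hx
    rw [show kronGL Φ⁻¹ (1 : GL (Fin 3) F) = U⁻¹ from
      (inv_eq_of_mul_eq_one_right (Units.ext (by
        show ((Φ : Matrix (Fin 3) (Fin 3) F) ⊗ₖ ((1 : GL (Fin 3) F) : Matrix (Fin 3) (Fin 3) F)) * _ = _
        rw [kronGL_val, ← Matrix.mul_kronecker_mul]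
        simp))).symm, inv_inv] at this
    exact this)
  have hφ : ∀ z a b (y : h.group), ((y : GL κ₉ F) : Matrix κ₉ κ₉ F) = wpair ω z a b →
      ((φ y : GL κ₉ F) : Matrix κ₉ κ₉ F) = wpair ω (z + -(a.1 * a.2)) (a.2, -a.1) b := fun z a b y hy => by
    show ((U * y * U⁻¹ : GL κ₉ F) : Matrix κ₉ κ₉ F) = _
    rw [Units.val_mul, Units.mul_inv_eq_iff_eq_mul, Units.val_mul, hy]
    simp only [U, kronGL_val, Units.val_one, wpair, Matrix.mul_smul, Matrix.smul_mul, ← Matrix.mul_kronecker_mul,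
      one_mul, mul_one, Φ, IsUnit.unit_spec, h.fourier_conj, Matrix.smul_kronecker, smul_smul, h.pw_add]
  let T : GL κ₉ F ≃* GL κ₉ F := glReindex (Equiv.prodComm _ _)
  have hS : ∀ z a b (y : GL κ₉ F), (y : Matrix κ₉ κ₉ F) = wpair ω z a b →
      ((T y : GL κ₉ F) : Matrix κ₉ κ₉ F) = wpair ω z b a := fun z a b y hy => by
    ext i j
    show (y : Matrix κ₉ κ₉ F) ((Equiv.prodComm _ _).symm i) ((Equiv.prodComm _ _).symm j) = _
    rw [hy]
    simp [wpair, Matrix.kronecker_apply, mul_comm]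
  have hSmem : ∀ y ∈ h.group, T y ∈ h.group := fun y hy => by
    obtain ⟨z, a, b, hy⟩ := hy
    exact ⟨z, b, a, hS z a b y hy⟩
  have hTT : ∀ y, T (T y) = y := fun y => Units.ext (by ext i j; simp [T, glReindex])
  let ψ : h.group ≃* h.group :=
    { toFun := fun y => ⟨T y, hSmem y y.2⟩
      invFun := fun y => ⟨T y, hSmem y y.2⟩
      left_inv := fun y => Subtype.ext (hTT y)
      right_inv := fun y => Subtype.ext (hTT y)
      map_mul' := fun x y => Subtype.ext (map_mul T _ _) }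
  have hinv : ∀ (θ : h.group ≃* h.group), ∀ y ∈ A, θ y ∈ A := fun θ y hy => by
    rw [← Subgroup.characteristic_iff_comap_eq.1 hA θ] at hy
    exact hy
  have key : ∀ y ∈ A, ∀ z a b, ((y : GL κ₉ F) : Matrix κ₉ κ₉ F) = wpair ω z a b → a = 0 := by
    intro y hy z a b e
    set y₁ := φ y * y⁻¹
    have hy₁ : y₁ ∈ A := A.mul_mem (hinv φ y hy) (A.inv_mem hy)
    have e₁ : ((y₁ : GL κ₉ F) : Matrix κ₉ κ₉ F) =
        wpair ω (z + -(a.1 * a.2) + (-z + (a.2 * a.1 + b.2 * b.1)) + ((-a).2 * a.2 + (-b).2 * b.1))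
          ((a.2, -a.1) + -a) (b + -b) := by
      show ((φ y : GL κ₉ F) : Matrix κ₉ κ₉ F) * (((y : GL κ₉ F)⁻¹ : GL κ₉ F) : Matrix κ₉ κ₉ F) = _
      rw [hφ z a b y e, show (y : GL κ₉ F) = h.wgl z a b from Units.ext e]
      exact h.wpair_mul _ _ _ _ _ _
    have e₂ := hφ _ _ _ y₁ e₁
    have hc := congrArg (fun w : A => (((w : h.group) : GL κ₉ F) : Matrix κ₉ κ₉ F))
      (hAc.is_comm.comm ⟨y₁, hy₁⟩ ⟨φ y₁, hinv φ y₁ hy₁⟩)
    simp only [MulMemClass.coe_mul, Units.val_mul, e₁, e₂, h.wpair_mul] at hc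
    have hz := (h.wpair_inj hc).1
    obtain ⟨a1, a2⟩ := a; obtain ⟨b1, b2⟩ := b
    simp only [Prod.mk_add_mk, Prod.neg_mk] at hz
    clear e e₁ e₂ hc
    have : a1 = 0 ∧ a2 = 0 := by revert hz; revert z a1 a2 b1 b2; decide
    rw [this.1, this.2]; rfl
  obtain ⟨z, a, b, e⟩ := x.2
  have ha := key x hx z a b e
  have hb := key (ψ x) (hinv ψ x hx) z b a (hS z a b _ e)
  refine mem_scalars_of_eq_smul (c := pw ω z) ?_
  rw [e, ha, hb]
  simp [wpair, weyl_zero]

variable {n : ℕ}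

/-- Tensor products of two copies of `GU₃(2)` lie in a member of the sixth class. -/
theorem unit_nine (hU : UForm n 2 τ) {H : Subgroup (GL (Fin n) F)} (e : Fin n ≃ Fin 3 × Fin 3)
    (P : GL (Fin n) F) {c : F} (hc : c ≠ 0)
    (hJ : (coordJ τ e P 1 : Matrix κ₉ κ₉ F) = c • (1 : Matrix κ₉ κ₉ F))
    (hH : ∀ g ∈ H, ∃ A B : GL (Fin 3) F, coordR e P (g : Matrix (Fin n) (Fin n) F) = (kronGL A B : Matrix κ₉ κ₉ F) ∧
      IsSim τ (1 : Matrix (Fin 3) (Fin 3) F) (A : Matrix (Fin 3) (Fin 3) F) 1 ∧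
      IsSim τ (1 : Matrix (Fin 3) (Fin 3) F) (B : Matrix (Fin 3) (Fin 3) F) 1) : UnitOver n 2 H := by
  classical
  obtain ⟨ω, h⟩ := exists_four hU
  have hn : n = 9 := by simpa using Fintype.card_congr e
  haveI : Nonempty (Fin n) := ⟨⟨0, by omega⟩⟩
  let Ψ : GL κ₉ F →* GL (Fin n) F := (MulAut.conj P).toMonoidHom.comp (glReindex e.symm).toMonoidHom
  have hΨinj : Function.Injective Ψ := (MulAut.conj P).injective.comp (glReindex e.symm).injective
  have hΨ : ∀ T, coordR e P ((Ψ T : GL (Fin n) F) : Matrix (Fin n) (Fin n) F) = (T : Matrix κ₉ κ₉ F) := fun T => by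
    rw [coordR_gl, show P⁻¹ * Ψ T * P = glReindex e.symm T by simp [Ψ, mul_assoc]]
    ext i j; simp [glReindex]
  set R := h.group.map Ψ with hR
  let eR : h.group ≃* R := h.group.equivMapOfInjective Ψ hΨinj
  have hGU : R ≤ GU n F 2 := by
    rintro _ ⟨T, ⟨z, a, b, hT⟩, rfl⟩
    refine hU.mem_GU (sim_of_coord τ e P 1 _ 1 ?_)
    rw [hΨ, hJ, hT]
    have hw : (wpair ω z a b)ᵀ * 1 * (wpair ω z a b).map τ = (1 : F) • 1 := h.wpair_sim z a b
    rw [IsSim, Matrix.mul_smul, Matrix.smul_mul, hw, smul_smul, mul_comm, ← smul_smul]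
  have hcomm : ∀ x ∈ R, ∀ y ∈ R, x * y * x⁻¹ * y⁻¹ ∈ scalars (Fin n) F := by
    rintro _ ⟨S, ⟨z, a, b, hS⟩, rfl⟩ _ ⟨T, ⟨z', a', b', hT⟩, rfl⟩
    obtain ⟨w, A, B, hW⟩ := h.group.mul_mem (h.group.mul_mem (h.group.mul_mem (show S ∈ h.group from ⟨z, a, b, hS⟩)
      (show T ∈ h.group from ⟨z', a', b', hT⟩)) (h.group.inv_mem (show S ∈ h.group from ⟨z, a, b, hS⟩)))
      (h.group.inv_mem (show T ∈ h.group from ⟨z', a', b', hT⟩))
    have e0 : wpair ω w A B * (wpair ω z' a' b' * wpair ω z a b) = wpair ω z a b * wpair ω z' a' b' := by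
      rw [← hW, ← hS, ← hT, ← Units.val_mul, ← Units.val_mul, ← Units.val_mul]
      congr 1
      group
    rw [h.wpair_mul, h.wpair_mul, h.wpair_mul] at e0
    obtain ⟨-, eA, eB⟩ := h.wpair_inj e0
    obtain rfl : A = 0 := by rw [add_comm a a'] at eA; simpa using eA
    obtain rfl : B = 0 := by rw [add_comm b b'] at eB; simpa using eB
    rw [← map_inv, ← map_inv, ← map_mul, ← map_mul, ← map_mul]
    refine mem_scalars_of_eq_smul (c := pw ω w) ((coordR e P).injective ?_)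
    rw [hΨ, hW, map_smul, map_one, wpair, Prod.fst_zero, Prod.snd_zero, weyl_zero, Matrix.one_kronecker_one]
  have hcz : Nat.card (Subgroup.center R) = 3 := by
    rw [← Nat.card_congr (Subgroup.centerCongr eR).toEquiv, h.group_center]
  have hirr : ActsAbsolutelyIrreducibly (matrixSet R) := by
    refine absIrred_of_alg_top ?_
    refine eq_top_iff.2 fun x _ => ?_
    rw [show x = (coordR e P).symm (coordR e P x) from ((coordR e P).symm_apply_apply x).symm,
      Matrix.matrix_eq_sum_single (coordR e P x)]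
    simp only [map_sum]
    refine Subalgebra.sum_mem _ fun i _ => Subalgebra.sum_mem _ fun j _ => ?_
    rw [show Matrix.single i j (coordR e P x i j) = (coordR e P x i j) • Matrix.single i j (1 : F) by
      rw [Matrix.smul_single, smul_eq_mul, mul_one], map_smul]
    refine Subalgebra.smul_mem _ ?_ _
    rw [h.single_eq]
    simp only [map_sum, map_smul]
    refine Subalgebra.sum_mem _ fun s _ => Subalgebra.sum_mem _ fun t _ => Subalgebra.smul_mem _ ?_ _
    have hmem := val_mem_alg (show Ψ (h.wgl 0 (j.1 - i.1, s) (j.2 - i.2, t)) ∈ R from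
      ⟨_, ⟨_, _, _, rfl⟩, rfl⟩)
    rwa [show (coordR e P).symm (wpair ω 0 (j.1 - i.1, s) (j.2 - i.2, t)) =
      ((Ψ (h.wgl 0 (j.1 - i.1, s) (j.2 - i.2, t)) : GL (Fin n) F) : Matrix (Fin n) (Fin n) F) from
        (coordR e P).injective (by rw [AlgEquiv.apply_symm_apply, hΨ]; rfl)]
  have hcube : ∀ x : R, x ^ 3 = 1 := fun x => by
    obtain ⟨T, rfl⟩ := eR.surjective x
    rw [← map_pow, show T ^ 3 = 1 from Subtype.ext (h.group_cube T.2), map_one]
  have hsym : IsSymplecticTypeGroup 3 R := by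
    refine ⟨Nat.prime_three, fun x => ⟨1, by rw [pow_one]; exact hcube x⟩, fun A hA hAc => ?_, ?_⟩
    · let e' : Fˣ →* scalars (Fin n) F :=
        MonoidHom.codRestrict (Units.map (Matrix.scalar (Fin n) : F →+* Matrix (Fin n) (Fin n) F).toMonoidHom) _ sc_mem
      haveI : IsCyclic (scalars (Fin n) F) := isCyclic_of_surjective e' fun x => by
        obtain ⟨u, hu⟩ := exists_sc x.2; exact ⟨u, Subtype.ext hu⟩
      have hA₀c : (A.comap eR.toMonoidHom).Characteristic := by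
        refine Subgroup.characteristic_iff_comap_eq.2 fun θ => Subgroup.ext fun y => ?_
        have h1 := SetLike.ext_iff.1 (Subgroup.characteristic_iff_comap_eq.1 hA ((eR.symm.trans θ).trans eR)) (eR y)
        simpa [Subgroup.mem_comap] using h1
      have hA₀a : IsMulCommutative (A.comap eR.toMonoidHom) := ⟨⟨fun a b => Subtype.ext (eR.injective (by
        have := hAc.is_comm.comm ⟨eR a.1, a.2⟩ ⟨eR b.1, b.2⟩
        simp only [Subgroup.coe_mul, map_mul]
        exact congrArg Subtype.val this))⟩⟩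
      have hscal : ∀ y : A, ((y : R) : GL (Fin n) F) ∈ scalars (Fin n) F := fun y => by
        obtain ⟨T, hT⟩ := eR.surjective y.1
        obtain ⟨u, hu⟩ := exists_sc (h.char_scalar hA₀c hA₀a (x := T) (show eR T ∈ A from hT ▸ y.2))
        rw [← hT]
        refine mem_scalars_of_eq_smul (c := (u : F)) ((coordR e P).injective ?_)
        show coordR e P ((Ψ (T : GL κ₉ F) : GL (Fin n) F) : Matrix (Fin n) (Fin n) F) = _
        rw [hΨ, ← hu, sc_val, map_smul, map_one]
      let f : A →* scalars (Fin n) F := (R.subtype.comp A.subtype).codRestrict (scalars (Fin n) F) hscal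
      exact isCyclic_of_injective f fun a b e => Subtype.ext (Subtype.ext (congrArg Subtype.val e :))
    · show Monoid.exponent R = 3
      have h1 : Monoid.exponent R ∣ 3 := Monoid.exponent_dvd_of_forall_pow_eq_one hcube
      refine ((Nat.dvd_prime Nat.prime_three).1 h1).resolve_left fun e1 => ?_
      haveI : Subsingleton R := Monoid.exp_eq_one_iff.1 e1
      have := Nat.card_eq_one_iff_unique.2 ⟨(inferInstance : Subsingleton (Subgroup.center R)), inferInstance⟩
      rw [hcz] at this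
      omega
  obtain ⟨p, hp⟩ := CharP.exists F
  haveI : Fact p.Prime := ⟨CharP.char_is_prime F p⟩
  have hp2 : p = 2 := (Nat.prime_dvd_prime_iff_eq (Fact.out : p.Prime) Nat.prime_two).1
    ((CharP.cast_eq_zero_iff F p 2).1 (by exact_mod_cast h.two))
  subst hp2
  refine ⟨subgroupNormalizer R, Or.inr (Or.inr (Or.inr (Or.inr (Or.inr (Or.inr (Or.inr (Or.inl
    ⟨3, R, 2, 2, 2, hsym, hirr, fun x hx => ⟨1, fun u v => by rw [Units.val_one, one_mul]; exact hGU hx u v⟩,
      by decide, by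
        rw [hcz]
        refine ⟨Nat.prime_two, hp, h.card, by norm_num, fun d hd0 hd2 => ?_⟩
        obtain rfl : d = 1 := by omega
        norm_num,
      Or.inl ⟨by decide, hcz, by norm_num, by rw [← Nat.card_congr eR.toEquiv, h.group_card]⟩, rfl, hn,
      by rw [hcz], fun _ => hGU, hcomm⟩))))))), fun g hg => ?_⟩
  obtain ⟨A, B, hAB, hA, hB⟩ := hH g hg
  have hnorm : ∀ {g : GL (Fin n) F} {A B : GL (Fin 3) F}, glReindex e (P⁻¹ * g * P) = kronGL A B →
      A ∈ NW ω → B ∈ NW ω → ∀ x ∈ R, g * x * g⁻¹ ∈ R := by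
    rintro g A B hg hA hB _ ⟨T, hT, rfl⟩
    have hgΨ : g = Ψ (kronGL A B) := by
      rw [← hg]
      show g = P * glReindex e.symm (glReindex e (P⁻¹ * g * P)) * P⁻¹
      rw [show glReindex e.symm (glReindex e (P⁻¹ * g * P)) = P⁻¹ * g * P from
        Units.ext (by ext i j; simp [glReindex])]
      group
    exact ⟨_, h.kron_normal hA hB hT, by rw [hgΨ, map_mul, map_mul, map_inv]⟩
  have hgK : glReindex e (P⁻¹ * g * P) = kronGL A B := Units.ext ((coordR_gl e P g).symm.trans hAB)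
  have hginv : glReindex e (P⁻¹ * g⁻¹ * P) = kronGL A⁻¹ B⁻¹ := by
    rw [show P⁻¹ * g⁻¹ * P = (P⁻¹ * g * P)⁻¹ by group, map_inv, hgK]
    exact Units.ext rfl
  refine Subgroup.mem_normalizer_iff.2 fun x => ⟨hnorm hgK (h.unitary_mem A hA) (h.unitary_mem B hB) x, fun hx => ?_⟩
  have := hnorm hginv (NW_inv (h.unitary_mem A hA)) (NW_inv (h.unitary_mem B hB)) _ hx
  simpa [mul_assoc] using this

end CfsgLib.AschbacherForm
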