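import Cfsg.Agent.Lib.AschbacherForm.UnitBase
import Cfsg.Agent.Lib.AschbacherForm.Subfield
import Cfsg.Agent.Lib.AschbacherForm.Kron

/-!
The fifth class for the unitary groups.
-/

set_option autoImplicit false
set_option linter.unusedSectionVars false

namespace CfsgLib.AschbacherForm

open Cfsg Cfsg.Geo CfsgLib.Aschbacher
open scoped Matrix MatrixGroups

universe u
variable {F : Type u} [Field F]

theorem subfieldSubgroup_sc {ι : Type} [Fintype ι] [DecidableEq ι] (F₁ : Subfield F) (Q : GL ι F) (c : Fˣ) :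
    subfieldSubgroup F₁ (Q * sc c) = subfieldSubgroup F₁ Q := by
  have h : MulAut.conj (Q * sc c) = MulAut.conj Q := MulEquiv.ext fun x => by
    simp only [MulAut.conj_apply, mul_inv_rev]
    rw [show Q * sc c * x * ((sc c)⁻¹ * Q⁻¹) = Q * (sc c * x * (sc c)⁻¹) * Q⁻¹ by group, sc_comm c x]
    group
  simp only [subfieldSubgroup, h]

/-- Irreducibility passes to a conjugate. -/
theorem irred_conj {ι : Type} [Fintype ι] [DecidableEq ι] {H : Subgroup (GL ι F)}
    (h : ActsIrreducibly (matrixSet H)) (Q : GL ι F) :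
    ActsIrreducibly ((fun g : GL ι F => ((Q⁻¹ * g * Q : GL ι F) : Matrix ι ι F)) '' (H : Set (GL ι F))) := by
  intro W hW
  rcases h (W.map (Matrix.toLin' (Q : Matrix ι ι F))) (by
    rintro _ ⟨g, hg, rfl⟩ _ ⟨_, ⟨v, hv, rfl⟩, rfl⟩
    refine ⟨((Q⁻¹ * g * Q : GL ι F) : Matrix ι ι F) *ᵥ v, hW _ ⟨g, hg, rfl⟩ ⟨v, hv, rfl⟩, ?_⟩
    simp only [Matrix.toLin'_apply, Matrix.mulVec_mulVec, ← Units.val_mul]
    congr 2
    group) with h0 | h0
  · left
    refine (Submodule.eq_bot_iff _).2 fun v hv => ?_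
    have h1 : Matrix.toLin' (Q : Matrix ι ι F) v = 0 := (Submodule.eq_bot_iff _).1 h0 _ ⟨v, hv, rfl⟩
    exact Matrix.mulVec_injective_of_isUnit Q.isUnit (by simpa using h1)
  · right
    refine eq_top_iff.2 fun v _ => ?_
    obtain ⟨w, hw, hwv⟩ : Matrix.toLin' (Q : Matrix ι ι F) v ∈ W.map (Matrix.toLin' (Q : Matrix ι ι F)) := h0 ▸ trivial
    have e := Matrix.mulVec_injective_of_isUnit Q.isUnit (show (Q : Matrix ι ι F) *ᵥ w = (Q : Matrix ι ι F) *ᵥ v by simpa using hwv)
    rwa [e] at hw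

variable [Fintype F] {n q : ℕ} {τ : F ≃+* F}

/-- An automorphism fixing a subfield of odd index is trivial on it only if trivial. -/
theorem UForm.moved_in (hU : UForm n q τ) {F₁ : Subfield F} {r : ℕ} (hr : Odd r)
    (hcard : Nat.card F = Nat.card F₁ ^ r) : ∃ x ∈ F₁, τ x ≠ x := by
  by_contra hno
  push Not at hno
  have hle : F₁ ≤ fixField τ := fun x hx => mem_fixField.2 (hno x hx)
  letI : Algebra F₁ (fixField τ) := RingHom.toAlgebra (Subfield.inclusion hle)
  have h1 := Module.natCard_eq_pow_finrank (K := F₁) (V := fixField τ)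
  rw [Nat.card_eq_fintype_card, hU.card, ← hU.card_fix, h1, ← pow_mul] at hcard
  have := Nat.pow_right_injective (Finite.one_lt_card (α := F₁)) hcard
  obtain ⟨i, hi⟩ := hr
  omega

/-- A subfield group normalising a rational multiple of the form lies in a member of the fifth class. -/
theorem unit_subfield (hU : UForm n q τ) (hn : 2 ≤ n) {H : Subgroup (GL (Fin n) F)} (hH : H ≤ GU n F q)
    (hirr : ActsIrreducibly (matrixSet H)) {F₁ : Subfield F} {r : ℕ} {Q : GL (Fin n) F} {ζ : F} (hr : r.Prime)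
    (hcard : Nat.card F = Nat.card F₁ ^ r) (hζ : ζ ≠ 0) (hle : H ≤ subfieldSubgroup F₁ Q)
    (hrat : Rat' F₁ (ζ • ((Q : Matrix (Fin n) (Fin n) F)ᵀ * ((1 : GL (Fin n) F) : Matrix (Fin n) (Fin n) F) *
      (Q : Matrix (Fin n) (Fin n) F).map τ))) : UnitOver n q H := by
  classical
  haveI : Nonempty (Fin n) := ⟨⟨0, by omega⟩⟩
  set M := (Q : Matrix (Fin n) (Fin n) F)ᵀ * ((1 : GL (Fin n) F) : Matrix (Fin n) (Fin n) F) *
      (Q : Matrix (Fin n) (Fin n) F).map τ with hM
  have hMu : IsUnit M :=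
    (((Matrix.isUnit_transpose _).2 Q.isUnit).mul (Units.isUnit _)).mul (Q.isUnit.map (RingHom.mapMatrix (τ : F →+* F)))
  have hherm : ∀ i j, τ (M i j) = M j i := fun i j => by
    have h1 := congrFun (congrFun (coord_symm hU.geom (Equiv.refl _) Q) j) i
    simp only [Matrix.transpose_apply, Matrix.map_apply, coordJ_val, Equiv.refl_symm, Matrix.submatrix_apply,
      Equiv.refl_apply, Matrix.smul_apply, smul_eq_mul, one_mul] at h1
    exact h1
  have hcard' : Fintype.card F = Nat.card F₁ ^ r := by rw [← Nat.card_eq_fintype_card]; exact hcard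
  obtain ⟨i₀, j₀, h₀⟩ : ∃ i j, M i j ≠ 0 := by
    by_contra hc; push Not at hc; exact hMu.ne_zero (Matrix.ext hc)
  have hw : ∀ i j, τ (ζ * M i j) = τ ζ / ζ * (ζ * M j i) := fun i j => by
    rw [map_mul, hherm, ← mul_assoc, div_mul_cancel₀ _ hζ]
  set w := τ ζ / ζ with hwdef
  rcases hr.eq_two_or_odd' with rfl | hodd
  swap
  · have hwF : w ∈ F₁ := by
      have h1 := hrat j₀ i₀
      have h2 := map_mem_subfield τ F₁ h1
      simp only [Matrix.smul_apply, smul_eq_mul] at h1 h2
      rw [hw] at h2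
      have h3 : M i₀ j₀ ≠ 0 := h₀
      have := F₁.div_mem h2 (hrat i₀ j₀)
      rwa [Matrix.smul_apply, smul_eq_mul, mul_div_assoc, div_self (mul_ne_zero hζ h₀), mul_one] at this
    have hwN : w * τ w = 1 := by
      have hζ' : τ ζ ≠ 0 := τ.map_ne_zero_iff.2 hζ
      rw [hwdef, map_div₀, hU.invol]
      field_simp
    obtain ⟨x, hx, hxτ⟩ := hU.moved_in hodd hcard
    obtain ⟨a, haF, ha, haτ⟩ : ∃ a ∈ F₁, a ≠ 0 ∧ τ a * w = a := by
      have hb : ∀ y : F, τ (y + τ y * w) * w = y + τ y * w := fun y => by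
        rw [map_add, map_mul, hU.invol]; linear_combination y * hwN
      by_cases h1 : 1 + τ 1 * w = 0
      · refine ⟨x + τ x * w, F₁.add_mem hx (F₁.mul_mem (map_mem_subfield τ F₁ hx) hwF), fun e => hxτ ?_, hb _⟩
        rw [map_one, one_mul] at h1
        linear_combination -e + τ x * h1
      · exact ⟨1 + τ 1 * w, F₁.add_mem F₁.one_mem (F₁.mul_mem (map_mem_subfield τ F₁ F₁.one_mem) hwF), h1, hb 1⟩
    have hfix : τ (a * ζ) = a * ζ := by
      rw [hwdef] at haτ
      rw [map_mul]
      field_simp at haτ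
      linear_combination haτ
    obtain ⟨s, hs⟩ := exists_norm hU.ne hU.invol hfix
    have hs0 : s ≠ 0 := fun e => by rw [e, zero_mul] at hs; exact mul_ne_zero ha hζ hs.symm
    refine ⟨_, Or.inr (Or.inr (Or.inr (Or.inr (Or.inl ⟨F₁, r, Q * sc (Units.mk0 s hs0), hr, hodd, hcard',
      formRational_of_rat hU.geom fun i j => ?_, rfl⟩)))), ?_⟩
    · rw [one_smul, ← sc_comm, sc_mul_val, Units.val_mk0, Matrix.map_smul' (hf := map_mul τ), Matrix.transpose_smul,
        Matrix.smul_mul, Matrix.smul_mul, Matrix.mul_smul, smul_smul, hs, mul_smul, ← hM, Matrix.smul_apply,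
        smul_eq_mul]
      exact F₁.mul_mem haF (hrat i j)
    · rwa [subfieldSubgroup_sc]
  have hq : Nat.card F₁ = q := Nat.pow_left_injective two_ne_zero (show Nat.card F₁ ^ 2 = q ^ 2 by rw [← hcard', hU.card])
  have hfix : ∀ x ∈ F₁, τ x = x := fun x hx => by rw [hU.pow, ← hq]; exact (mem_subfield_iff F₁).1 hx
  have htr : ∀ i j, ζ * M i j = w * (ζ * M j i) := fun i j => by
    conv_lhs => rw [← hfix _ (by simpa using hrat i j : ζ * M i j ∈ F₁)]
    exact hw i j
  have hw2 : w * w = 1 := by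
    have h1 := htr i₀ j₀
    rw [htr j₀ i₀, ← mul_assoc] at h1
    exact mul_right_cancel₀ (mul_ne_zero hζ h₀) (by rw [one_mul]; exact h1.symm)
  by_cases hsym : w = 1 ∧ Odd q
  · have hζF : ζ ∈ F₁ := by
      rw [mem_subfield_iff, hq, ← hU.pow]
      exact (div_eq_one_iff_eq hζ).1 hsym.1
    refine ⟨_, Or.inr (Or.inr (Or.inr (Or.inr (Or.inr (Or.inl ⟨F₁, Q, hsym.2, hcard',
      formRational_of_rat hU.geom fun i j => ?_, rfl⟩))))), hle⟩
    rw [one_smul, ← hM]
    have := F₁.mul_mem (F₁.inv_mem hζF) (hrat i j)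
    rwa [Matrix.smul_apply, smul_eq_mul, ← mul_assoc, inv_mul_cancel₀ hζ, one_mul] at this
  have hw1 : w = -1 := by
    rcases mul_self_eq_one_iff.1 hw2 with e | e
    · have h2 : (2 : F) = 0 := by by_contra h2; exact hsym ⟨e, hU.two_iff.1 h2⟩
      rw [e]; linear_combination h2
    · exact e
  set N := ζ • M with hN
  have hskew : Nᵀ = -N := Matrix.ext fun i j => by
    simp only [hN, Matrix.transpose_apply, Matrix.neg_apply, Matrix.smul_apply, smul_eq_mul]
    rw [htr j i, hw1, neg_one_mul]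
  have hNu : IsUnit N := by
    rw [hN, show ζ • M = (algebraMap F (Matrix (Fin n) (Fin n) F) ζ) * M from (Algebra.smul_def _ _)]
    exact (hζ.isUnit.map _).mul hMu
  have hreal : N.map τ = N := Matrix.ext fun i j => hfix _ (hrat i j)
  have hdiag : ∀ i, N i i = 0 := by
    by_cases h2 : (2 : F) = 0
    swap
    · intro i
      have := congrFun (congrFun hskew i) i
      simp only [Matrix.transpose_apply, Matrix.neg_apply] at this
      exact (mul_eq_zero.1 (show (2 : F) * N i i = 0 by linear_combination this)).resolve_left h2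
    have hb := formOfGram_bilinear N
    set f₀ := formOfGram (RingEquiv.refl F) N with hf₀
    have hsw : ∀ u v, f₀ u v = f₀ v u := fun u v => by
      have := formOfGram_transpose (RingEquiv.refl F) (fun _ => rfl) N u v
      rw [show ((N.map (RingEquiv.refl F)))ᵀ = N by
        rw [show N.map (RingEquiv.refl F) = N from Matrix.map_id _, hskew]
        ext i j; simp only [Matrix.neg_apply]; linear_combination -(N i j) * h2] at this
      exact this.symm
    intro i
    rw [← formOfGram_single (RingEquiv.refl F) N i i]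
    refine semilinear_vanishes h2 (by simp; omega) (irred_conj hirr Q) (fun v => f₀ v v) (fun u v => ?_)
      (fun a v => ?_) ?_ _
    · simp only [hb.add_left, hb.add_right]
      rw [hsw v u]
      linear_combination (f₀ u v) * h2
    · simp only [hb.smul_left, hb.smul_right]; ring
    · rintro _ ⟨g, hg, rfl⟩ v hv
      obtain ⟨R, hR, hgR⟩ := hle hg
      obtain ⟨R₀, hR₀, S, hS, rfl⟩ := Subgroup.mem_sup_of_normal_right.1 hR
      obtain ⟨z, rfl⟩ := exists_sc hS
      obtain ⟨R₁, rfl⟩ := hR₀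
      set A := Matrix.GeneralLinearGroup.map (F₁.subtype : F₁ →+* F) R₁
      have hT : Q⁻¹ * g * Q = sc z * A := by
        rw [sc_comm, ← hgR]; simp [mul_assoc]
      have hA : (A : Matrix (Fin n) (Fin n) F).map τ = A := Matrix.ext fun a b =>
        hfix _ (show (A : Matrix (Fin n) (Fin n) F) a b ∈ F₁ from ((R₁ : Matrix (Fin n) (Fin n) F₁) a b).2)
      have hsim : ((Q⁻¹ * g * Q : GL (Fin n) F) : Matrix (Fin n) (Fin n) F)ᵀ * N *
          ((Q⁻¹ * g * Q : GL (Fin n) F) : Matrix (Fin n) (Fin n) F).map τ = N := by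
        have h1 := hU.isSim (hH hg)
        rw [IsSim, one_smul] at h1
        rw [hN, Matrix.mul_smul, Matrix.smul_mul, hM]
        congr 1
        calc _ = ((Q : Matrix (Fin n) (Fin n) F) * ((Q⁻¹ * g * Q : GL (Fin n) F) : Matrix (Fin n) (Fin n) F))ᵀ *
              ((1 : GL (Fin n) F) : Matrix (Fin n) (Fin n) F) *
              ((Q : Matrix (Fin n) (Fin n) F) * ((Q⁻¹ * g * Q : GL (Fin n) F) : Matrix (Fin n) (Fin n) F)).map τ := by
              simp only [Matrix.transpose_mul, map_mul_equiv, mul_assoc]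
          _ = ((g : Matrix (Fin n) (Fin n) F) * (Q : Matrix (Fin n) (Fin n) F))ᵀ *
              ((1 : GL (Fin n) F) : Matrix (Fin n) (Fin n) F) *
              ((g : Matrix (Fin n) (Fin n) F) * (Q : Matrix (Fin n) (Fin n) F)).map τ := by
              rw [← Units.val_mul, show Q * (Q⁻¹ * g * Q) = g * Q by group, Units.val_mul]
          _ = (Q : Matrix (Fin n) (Fin n) F)ᵀ * ((g : Matrix (Fin n) (Fin n) F)ᵀ *
              ((1 : GL (Fin n) F) : Matrix (Fin n) (Fin n) F) * (g : Matrix (Fin n) (Fin n) F).map τ) *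
              (Q : Matrix (Fin n) (Fin n) F).map τ := by
              simp only [Matrix.transpose_mul, map_mul_equiv, mul_assoc]
          _ = _ := by rw [h1]
      rw [hT, sc_mul_val, Matrix.map_smul' (hf := map_mul τ), hA, Matrix.transpose_smul, Matrix.smul_mul,
        Matrix.smul_mul, Matrix.mul_smul, smul_smul] at hsim
      have hzz : (z : F) * τ (z : F) ≠ 0 := mul_ne_zero z.ne_zero (τ.map_ne_zero_iff.2 z.ne_zero)
      have hA2 : (A : Matrix (Fin n) (Fin n) F)ᵀ * N * (A : Matrix (Fin n) (Fin n) F) = ((z : F) * τ (z : F))⁻¹ • N := by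
        conv_rhs => rw [← hsim, smul_smul, inv_mul_cancel₀ hzz, one_smul]
      dsimp only at hv ⊢
      rw [hT, sc_mul_val, Matrix.smul_mulVec, hb.smul_left, hb.smul_right, hf₀, formOfGram_mulVec,
        show (A : Matrix (Fin n) (Fin n) F).map (RingEquiv.refl F) = A from Matrix.map_id _, hA2, formOfGram_smul,
        ← hf₀, hv, mul_zero, mul_zero, mul_zero]
  have hsymp := symplectic_of_gram hNu hskew hdiag
  have hev : Even n := by simpa using even_of_symplectic hsymp
  refine ⟨_, Or.inr (Or.inr (Or.inr (Or.inr (Or.inr (Or.inr (Or.inl ⟨F₁, Q, ζ, hev, hcard', hζ,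
    ?_, formRational_of_rat hU.geom hrat, fun u hu => ?_, rfl⟩)))))), hle⟩
  · rw [← hU.pow]
    have := hw1
    rw [hwdef, div_eq_iff hζ] at this
    rw [this]; ring
  · have hτu : ∀ i, τ (u i) = u i := fun i => hfix _ (hu i)
    refine (mul_eq_zero.1 (?_ : ζ * _ = 0)).resolve_left hζ
    rw [hU.geom.eq_gram, formOfGram_mulVec, ← hM, ← formOfGram_smul, ← hN,
      ← hsymp.alternating u]
    simp only [formOfGram, hτu, RingEquiv.refl_apply]

end CfsgLib.AschbacherForm
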