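import Cfsg.Agent.Lib.AschbacherForm.UnitNineGroup
import Cfsg.Agent.Lib.AschbacherForm.UnitCoord
import Cfsg.Agent.Lib.AschbacherForm.UnitField
import Cfsg.Agent.Lib.AschbacherForm.SympTensor

/-!
The fourth class for the unitary groups.
-/

set_option autoImplicit false
set_option linter.unusedSectionVars false

namespace CfsgLib.AschbacherForm

open Cfsg Cfsg.Geo CfsgLib.Aschbacher
open scoped Matrix MatrixGroups Kronecker

universe u
variable {F : Type u} [Field F]

theorem omega2_sq : omega2 F * omega2 F = -(1 : Matrix (Fin 2) (Fin 2) F) := by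
  ext i j; fin_cases i <;> fin_cases j <;> simp [omega2, Matrix.mul_apply, Fin.sum_univ_two]

theorem omega2_transpose : (omega2 F)ᵀ = -omega2 F := by
  ext i j; fin_cases i <;> fin_cases j <;> simp [omega2]

theorem omega2_map (σ : F ≃+* F) : (omega2 F).map σ = omega2 F := by
  ext i j; fin_cases i <;> fin_cases j <;> simp [omega2]

/-- A similitude of the identity in dimension two commutes with conjugation up to a scalar and a twist. -/
theorem sim_twist [Fintype F] {σ : F ≃+* F} {A : GL (Fin 2) F} {a : F}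
    (h : IsSim σ (1 : Matrix (Fin 2) (Fin 2) F) (A : Matrix (Fin 2) (Fin 2) F) a) :
    ∃ z : F, (A : Matrix (Fin 2) (Fin 2) F).map σ = z • (-(omega2 F * (A : Matrix (Fin 2) (Fin 2) F) * omega2 F)) := by
  set d := (A : Matrix (Fin 2) (Fin 2) F).det
  have hd : d ≠ 0 := ((Matrix.isUnit_iff_isUnit_det _).1 A.isUnit).ne_zero
  refine ⟨a / d, ?_⟩
  have h1 : (A : Matrix (Fin 2) (Fin 2) F)ᵀ * omega2 F * (A : Matrix (Fin 2) (Fin 2) F) = d • omega2 F := omega2_congr _
  have h2 : (A : Matrix (Fin 2) (Fin 2) F)ᵀ * (omega2 F * (A : Matrix (Fin 2) (Fin 2) F) * omega2 F) = -(d • 1) := by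
    rw [← mul_assoc, ← mul_assoc, h1, Matrix.smul_mul, omega2_sq, smul_neg]
  rw [IsSim, mul_one] at h
  refine ((Matrix.isUnit_transpose _).2 A.isUnit).mul_right_inj.1 ?_
  rw [h, Matrix.mul_smul, mul_neg, h2, neg_neg, smul_smul, div_mul_cancel₀ _ hd]

variable [Fintype F] {n q : ℕ} {τ : F ≃+* F}

theorem UForm.scale_herm (hU : UForm n q τ) {κ : Type} [Fintype κ] [DecidableEq κ] [Nonempty κ] {S : GL κ F} {l : F}
    (hS : ((S : Matrix κ κ F).map τ)ᵀ = l • (S : Matrix κ κ F)) :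
    ∃ a : Fˣ, ((((sc a * S : GL κ F) : Matrix κ κ F)).map τ)ᵀ = ((sc a * S : GL κ F) : Matrix κ κ F) := by
  have hl : l * τ l = 1 := by
    have h2 : (τ l * l - 1) • (S : Matrix κ κ F) = 0 := by
      rw [sub_smul, one_smul, sub_eq_zero, mul_comm]
      conv_rhs => rw [show (S : Matrix κ κ F) = ((((S : Matrix κ κ F).map τ)ᵀ).map τ)ᵀ by ext; simp [hU.invol]]
      rw [hS, Matrix.map_smul' (hf := map_mul τ), Matrix.transpose_smul, hS, smul_smul, mul_comm]
    have h3 := sub_eq_zero.1 ((smul_eq_zero.1 h2).resolve_right S.isUnit.ne_zero)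
    rwa [mul_comm]
  obtain ⟨a, ha, hal⟩ := hilbert90 hU.ne hU.invol hl
  refine ⟨Units.mk0 a ha, ?_⟩
  rw [sc_mul_val, Matrix.map_smul' (hf := map_mul τ), Matrix.transpose_smul, hS, smul_smul, Units.val_mk0, hal]

/-- Coordinates in which the form is a multiple of the identity and the group consists of Kronecker products. -/
theorem unit_tensor_coords (hU : UForm n q τ) (hn : 2 ≤ n) {H : Subgroup (GL (Fin n) F)} (hH : H ≤ GU n F q)
    (h : TensorExt (hermForm n F q) H) :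
    ∃ (d k : ℕ) (e : Fin n ≃ Fin d × Fin k) (P : GL (Fin n) F) (c : F), 2 ≤ d ∧ 2 ≤ k ∧ c ≠ 0 ∧ τ c = c ∧
      (coordJ τ e P 1 : Matrix _ _ F) = c • (1 : Matrix (Fin d × Fin k) (Fin d × Fin k) F) ∧
      ∀ g ∈ H, ∃ (A : GL (Fin d) F) (B : GL (Fin k) F) (a b : F),
        coordR e P (g : Matrix (Fin n) (Fin n) F) = (kronGL A B : Matrix _ _ F) ∧
        IsSim τ (1 : Matrix (Fin d) (Fin d) F) (A : Matrix (Fin d) (Fin d) F) a ∧
        IsSim τ (1 : Matrix (Fin k) (Fin k) F) (B : Matrix (Fin k) (Fin k) F) b ∧ a * b = 1 := by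
  classical
  obtain ⟨d, k, e, P, S, T, l, μ, hd, hk, hJ, hS, hT, -, hdec⟩ := tensor_data hU.geom
    (by simpa using hn) (fun g hg => hH hg) h
  haveI : Nonempty (Fin d) := ⟨⟨0, by omega⟩⟩
  haveI : Nonempty (Fin k) := ⟨⟨0, by omega⟩⟩
  obtain ⟨a₀, ha₀⟩ := hU.scale_herm hS
  obtain ⟨b₀, hb₀⟩ := hU.scale_herm hT
  obtain ⟨X, hX⟩ := herm_equiv hU.ne hU.invol _ ha₀
  obtain ⟨Y, hY⟩ := herm_equiv hU.ne hU.invol _ hb₀
  rw [sc_mul_val, Matrix.mul_smul, Matrix.smul_mul] at hX hY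
  set U := kronGL X Y
  set P' := P * glReindex e.symm U with hP'
  set c : F := ((a₀⁻¹ * b₀⁻¹ : Fˣ) : F) with hc
  have hXS : (X : Matrix (Fin d) (Fin d) F)ᵀ * (S : Matrix (Fin d) (Fin d) F) * (X : Matrix (Fin d) (Fin d) F).map τ =
      ((a₀⁻¹ : Fˣ) : F) • 1 := by rw [← hX, smul_smul, Units.inv_mul, one_smul]
  have hYT : (Y : Matrix (Fin k) (Fin k) F)ᵀ * (T : Matrix (Fin k) (Fin k) F) * (Y : Matrix (Fin k) (Fin k) F).map τ =
      ((b₀⁻¹ : Fˣ) : F) • 1 := by rw [← hY, smul_smul, Units.inv_mul, one_smul]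
  have hJ' : (coordJ τ e P' 1 : Matrix _ _ F) = c • (1 : Matrix (Fin d × Fin k) (Fin d × Fin k) F) := by
    rw [hP', coordJ_change, hJ, kronGL_val, kronGL_val, kron_map, ← Matrix.kroneckerMap_transpose,
      ← Matrix.mul_kronecker_mul, ← Matrix.mul_kronecker_mul, hXS, hYT, Matrix.smul_kronecker,
      Matrix.kronecker_smul, Matrix.one_kronecker_one, smul_smul, hc, Units.val_mul]
  have hcτ : τ c = c := by
    have h1 := congrFun (congrFun (coord_symm hU.geom e P') (⟨0, by omega⟩, ⟨0, by omega⟩)) (⟨0, by omega⟩, ⟨0, by omega⟩)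
    rw [hJ'] at h1
    simpa using h1
  refine ⟨d, k, e, P', c, hd, hk, Units.ne_zero _, hcτ, hJ', fun g hg => ?_⟩
  obtain ⟨A, B, a, b, hAB, hA, hB, hab⟩ := hdec g hg
  refine ⟨X⁻¹ * A * X, Y⁻¹ * B * Y, a, b, ?_, ?_, ?_, hab⟩
  · rw [hP', coordR_change, hAB]
    show ((↑X⁻¹ : Matrix (Fin d) (Fin d) F) ⊗ₖ (↑Y⁻¹ : Matrix (Fin k) (Fin k) F)) * ((A : Matrix (Fin d) (Fin d) F) ⊗ₖ (B : Matrix (Fin k) (Fin k) F)) *
      ((X : Matrix (Fin d) (Fin d) F) ⊗ₖ (Y : Matrix (Fin k) (Fin k) F)) = _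
    rw [← Matrix.mul_kronecker_mul, ← Matrix.mul_kronecker_mul, kronGL_val, Units.val_mul, Units.val_mul,
      Units.val_mul, Units.val_mul]
  all_goals unfold IsSim
  · rw [IsSim] at hA
    exact sim_change hXS hA (Units.ne_zero _)
  · rw [IsSim] at hB
    exact sim_change hYT hB (Units.ne_zero _)
where
  sim_change {ι : Type} [Fintype ι] [DecidableEq ι] {σ : F ≃+* F} {X A : GL ι F} {S : Matrix ι ι F} {s a : F}
      (hX : (X : Matrix ι ι F)ᵀ * S * (X : Matrix ι ι F).map σ = s • 1)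
      (hA : (A : Matrix ι ι F)ᵀ * S * (A : Matrix ι ι F).map σ = a • S) (hs : s ≠ 0) :
      ((X⁻¹ * A * X : GL ι F) : Matrix ι ι F)ᵀ * 1 * ((X⁻¹ * A * X : GL ι F) : Matrix ι ι F).map σ = a • 1 := by
    refine smul_right_injective _ hs ?_
    show s • _ = s • _
    rw [← Matrix.smul_mul, ← Matrix.mul_smul, ← hX, smul_smul, mul_comm s a, ← smul_smul, ← hX]
    calc _ = ((X : Matrix ι ι F) * ((X⁻¹ * A * X : GL ι F) : Matrix ι ι F))ᵀ * S *
          ((X : Matrix ι ι F) * ((X⁻¹ * A * X : GL ι F) : Matrix ι ι F)).map σ := by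
          simp only [Matrix.transpose_mul, map_mul_equiv, mul_assoc]
      _ = ((A : Matrix ι ι F) * (X : Matrix ι ι F))ᵀ * S * ((A : Matrix ι ι F) * (X : Matrix ι ι F)).map σ := by
          rw [← Units.val_mul, show X * (X⁻¹ * A * X) = A * X by group, Units.val_mul]
      _ = (X : Matrix ι ι F)ᵀ * ((A : Matrix ι ι F)ᵀ * S * (A : Matrix ι ι F).map σ) * (X : Matrix ι ι F).map σ := by
          simp only [Matrix.transpose_mul, map_mul_equiv, mul_assoc]
      _ = _ := by rw [hA, Matrix.mul_smul, Matrix.smul_mul]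

theorem UForm.one_pow (hU : UForm n q τ) (d : ℕ) :
    IsUnitaryFormPow q (formOfGram τ ((1 : GL (Fin d) F) : Matrix (Fin d) (Fin d) F)) :=
  hU.unitaryPow 1 (by rw [Units.val_one, Matrix.map_one τ (map_zero τ) (map_one τ), Matrix.transpose_one])

/-- An adjoint-closed tensor factor leads to a member. -/
theorem unit_tensor (hU : UForm n q τ) (hn : 2 ≤ n) {H : Subgroup (GL (Fin n) F)} (hH : H ≤ GU n F q)
    (h : TensorExt (hermForm n F q) H) : UnitOver n q H := by
  classical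
  obtain ⟨d, k, e, P, c, hd, hk, hc, hcτ, hJ, hdec⟩ := unit_tensor_coords hU hn hH h
  haveI : Nonempty (Fin d) := ⟨⟨0, by omega⟩⟩
  haveI : Nonempty (Fin k) := ⟨⟨0, by omega⟩⟩
  have hτfun : (τ : F → F) = fun x : F => x ^ q := funext hU.pow
  rcases lt_trichotomy d k with hlt | rfl | hlt
  · refine ⟨_, Or.inr (Or.inr (Or.inr (Or.inr (Or.inr (Or.inr (Or.inr (Or.inr (Or.inr (Or.inl
      ⟨d, k, e, P, _, _, hd, hlt, hU.one_pow d, hU.one_pow k, ⟨c, hc, fun x y => ?_⟩, rfl⟩))))))))),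
      fun g hg => ?_⟩
    · rw [gramMatrix_one τ, gramMatrix_one τ, coord_form hU.geom e P, hJ, formOfGram_smul, Matrix.one_kronecker_one,
        hτfun]
    · obtain ⟨A, B, a, b, hAB, -⟩ := hdec g hg
      exact mem_of_coord e P (kroneckerSubgroup d k F) (kronGL A B) ⟨A, B, rfl⟩ hAB
  · by_cases hd2 : d = 2
    · subst hd2
      let w : GL (Fin 2) F := ⟨omega2 F, -omega2 F, by rw [mul_neg, omega2_sq, neg_neg],
        by rw [neg_mul, omega2_sq, neg_neg]⟩
      have hwi : (↑w⁻¹ : Matrix (Fin 2) (Fin 2) F) = -omega2 F := rfl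
      refine unit_real hU e P (kronGL w w) (ε := 1) ?_ (Or.inl rfl) ?_ ?_ ?_ hc hcτ hJ fun g hg => ?_
      · exact ⟨2, by simpa using Fintype.card_congr e⟩
      · rw [kronGL_val, kron_map, ← Matrix.mul_kronecker_mul]
        show ((omega2 F).map τ * omega2 F) ⊗ₖ ((omega2 F).map τ * omega2 F) = 1
        rw [omega2_map, omega2_sq]
        ext i j; simp [Matrix.kronecker_apply, Matrix.one_apply, Prod.ext_iff]; split_ifs <;> simp_all
      · rw [one_smul, kronGL_val, ← Matrix.kroneckerMap_transpose]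
        show (omega2 F)ᵀ ⊗ₖ (omega2 F)ᵀ = omega2 F ⊗ₖ omega2 F
        rw [omega2_transpose]
        ext i j; simp [Matrix.kronecker_apply]
      · rintro ⟨i, j⟩
        show omega2 F i i * omega2 F j j = 0
        fin_cases i <;> simp [omega2]
      · obtain ⟨A, B, a, b, hAB, hA, hB, -⟩ := hdec g hg
        obtain ⟨z, hz⟩ := sim_twist hA
        obtain ⟨z', hz'⟩ := sim_twist hB
        refine ⟨z * z', ?_⟩
        rw [hAB, kronGL_val, kron_map, hz, hz', Matrix.smul_kronecker, Matrix.kronecker_smul, smul_smul,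
          show (↑(kronGL w w)⁻¹ : Matrix (Fin 2 × Fin 2) (Fin 2 × Fin 2) F) =
            (↑w⁻¹ : Matrix (Fin 2) (Fin 2) F) ⊗ₖ (↑w⁻¹ : Matrix (Fin 2) (Fin 2) F) from rfl,
          kronGL_val, ← Matrix.mul_kronecker_mul, ← Matrix.mul_kronecker_mul, hwi, mul_neg, mul_neg]
    by_cases h23 : q = 2 ∧ d = 3
    · obtain ⟨rfl, rfl⟩ := h23
      refine unit_nine hU e P hc hJ fun g hg => ?_
      obtain ⟨A, B, a, b, hAB, hA, hB, hab⟩ := hdec g hg
      have hone : ∀ {A : GL (Fin 3) F} {a : F}, IsSim τ (1 : Matrix (Fin 3) (Fin 3) F) (A : Matrix (Fin 3) (Fin 3) F) a →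
          IsSim τ (1 : Matrix (Fin 3) (Fin 3) F) (A : Matrix (Fin 3) (Fin 3) F) 1 := fun {A a} hA => by
        have h1 : a ≠ 0 := isSim_ne_zero (J := (1 : GL (Fin 3) F)) hA
        have h2 : τ a = a := by
          have e1 := congrArg (fun M : Matrix (Fin 3) (Fin 3) F => (M.map τ)ᵀ) hA
          unfold IsSim at hA
          simp only [mul_one] at hA e1
          rw [map_mul_equiv, Matrix.transpose_mul, Matrix.map_smul' (hf := map_mul τ), Matrix.map_one τ (map_zero τ)
            (map_one τ), Matrix.transpose_smul, Matrix.transpose_one,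
            show ((A : Matrix (Fin 3) (Fin 3) F).map τ).map τ = A by ext; simp [hU.invol],
            ← Matrix.transpose_map, Matrix.transpose_transpose] at e1
          exact (smul_one_inj (hA.symm.trans e1)).symm
        have h3 : a * a = a := by rw [← sq, ← hU.pow, h2]
        rwa [mul_left_cancel₀ h1 (h3.trans (mul_one a).symm)] at hA
      exact ⟨A, B, hAB, hone hA, hone hB⟩
    · let e' : Fin n ≃ (Fin 2 → Fin d) := e.trans (piFinTwoEquiv fun _ => Fin d).symm
      refine ⟨_, Or.inr (Or.inr (Or.inr (Or.inr (Or.inr (Or.inr (Or.inr (Or.inr (Or.inr (Or.inr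
        ⟨d, 2, e', P, _, by omega, le_rfl, h23, hU.one_pow d, ⟨c, hc, fun x y => ?_⟩, rfl⟩))))))))),
        fun g hg => ?_⟩
      · have hJ' : (coordJ τ e' P 1 : Matrix _ _ F) = c • (1 : Matrix (Fin 2 → Fin d) (Fin 2 → Fin d) F) := by
          ext x y
          have h1 := congrFun (congrFun hJ (x 0, x 1)) (y 0, y 1)
          refine h1.trans ?_
          simp [Matrix.one_apply, funext_iff, Fin.forall_fin_two, Prod.ext_iff]
        rw [coord_form hU.geom e' P, hJ', formOfGram_smul, gramMatrix_one τ, hτfun]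
        congr 1
        simp only [formOfGram]
        refine Finset.sum_congr rfl fun a _ => Finset.sum_congr rfl fun b _ => ?_
        simp [Fin.prod_univ_two, Matrix.one_apply, funext_iff, Fin.forall_fin_two]
        split_ifs <;> simp_all
      · obtain ⟨A, B, a, b, hAB, -⟩ := hdec g hg
        refine mem_of_coord e' P (tensorWreathStandard d 2 F) (pureGL ![A, B])
          (Subgroup.subset_closure (Or.inl ⟨![A, B], fun x y => rfl⟩)) ?_
        ext x y
        refine (congrFun (congrFun hAB (x 0, x 1)) (y 0, y 1)).trans ?_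
        simp [pureGL, pure', Fin.prod_univ_two, kronGL_val, Matrix.kronecker_apply]
  · let e' : Fin n ≃ Fin k × Fin d := e.trans (Equiv.prodComm _ _)
    refine ⟨_, Or.inr (Or.inr (Or.inr (Or.inr (Or.inr (Or.inr (Or.inr (Or.inr (Or.inr (Or.inl
      ⟨k, d, e', P, _, _, hk, hlt, hU.one_pow k, hU.one_pow d, ⟨c, hc, fun x y => ?_⟩, rfl⟩))))))))),
      fun g hg => ?_⟩
    · have hJ' : (coordJ τ e' P 1 : Matrix _ _ F) = c • (1 : Matrix (Fin k × Fin d) (Fin k × Fin d) F) := by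
        ext x y
        refine (congrFun (congrFun hJ (x.2, x.1)) (y.2, y.1)).trans ?_
        simp [Matrix.one_apply, Prod.ext_iff, and_comm]
      rw [gramMatrix_one τ, gramMatrix_one τ, coord_form hU.geom e' P, hJ', formOfGram_smul, Matrix.one_kronecker_one,
        hτfun]
    · obtain ⟨A, B, a, b, hAB, -⟩ := hdec g hg
      exact mem_of_coord e' P (kroneckerSubgroup k d F) (kronGL B A) ⟨B, A, rfl⟩ (coordR_swap e P _ A B hAB)
where
  gramMatrix_one {κ : Type} [Fintype κ] [DecidableEq κ] (σ : F ≃+* F) :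
      gramMatrix (formOfGram σ ((1 : GL κ F) : Matrix κ κ F)) = (1 : Matrix κ κ F) :=
    Matrix.ext fun i j => formOfGram_single σ _ i j
  smul_one_inj {a b : F} (h : a • (1 : Matrix (Fin 3) (Fin 3) F) = b • 1) : a = b := by
    simpa using congrFun (congrFun h 0) 0

end CfsgLib.AschbacherForm
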