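import Cfsg.Agent.Lib.AschbacherForm.UnitTensor
import Cfsg.Agent.Lib.AschbacherForm.Wreath
import Cfsg.Agent.Lib.AschbacherForm.SympWreath
import Cfsg.Agent.Lib.Classical.UnitaryOrder
import Cfsg.Agent.Lib.Chars.Burnside

/-!
The seventh class for the unitary groups.
-/

set_option autoImplicit false
set_option linter.unusedSectionVars false

namespace CfsgLib.AschbacherForm

open Cfsg Cfsg.Geo CfsgLib.Aschbacher
open scoped Matrix MatrixGroups Kronecker

universe u
variable {F : Type u} [Field F]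

/-- A perfect group in one slot with values in a solvable group is trivial. -/
theorem slot_perfect_trivial' {ι : Type} [Fintype ι] [DecidableEq ι] {d s : ℕ} [Nonempty (Fin d)]
    (S : Subgroup (GL (Fin d) F)) [Group.IsSolvable S] (e : ι ≃ (Fin s → Fin d)) (P : GL ι F) (i : Fin s)
    {K : Subgroup (GL ι F)} (hperf : ⁅K, K⁆ = K)
    (hK : ∀ x ∈ K, ∃ a : GL (Fin d) F, a ∈ S ∧ coordR e P (x : Matrix ι ι F) = slot i (a : Matrix (Fin d) (Fin d) F)) :
    K = ⊥ := by
  classical
  choose a haS ha using fun x : K => hK x x.2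
  have hone : a 1 = 1 := Units.ext (slot_injective i (by rw [← ha, Units.val_one, slot_one]; exact map_one _))
  have hmul : ∀ x y : K, a (x * y) = a x * a y := fun x y => Units.ext (slot_injective i (by
    rw [Units.val_mul, slot_mul, ← ha, ← ha, ← ha, ← map_mul]; rfl))
  let θ : K →* S := { toFun := fun x => ⟨a x, haS x⟩
                      map_one' := Subtype.ext hone
                      map_mul' := fun x y => Subtype.ext (hmul x y) }
  have hθ : Function.Injective θ := fun x y h => by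
    have h1 : a x = a y := congrArg Subtype.val h
    refine Subtype.ext (Units.ext ((coordR e P).injective ?_))
    rw [ha, ha, h1]
  haveI : Group.IsSolvable K := Group.isSolvable_of_isSolvable_injective hθ
  by_contra hne
  haveI : Nontrivial K := (Subgroup.nontrivial_iff_ne_bot K).2 hne
  have h1 : (commutator K).map K.subtype = K := (Subgroup.map_subtype_commutator K).trans hperf
  have h2 : commutator K = ⊤ := Subgroup.map_injective K.subtype_injective
    (by rw [h1, ← MonoidHom.range_eq_map, Subgroup.range_subtype])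
  exact (Group.IsSolvable.commutator_lt_top_of_nontrivial K).ne h2

theorem pure'_const_perm [Fintype F] {d s : ℕ} (π : Equiv.Perm (Fin s)) (a : Matrix (Fin d) (Fin d) F) :
    pure' (fun _ : Fin s => a) * ((permGL π : GL (Fin s → Fin d) F) : Matrix (Fin s → Fin d) (Fin s → Fin d) F) =
      ((permGL π : GL (Fin s → Fin d) F) : Matrix (Fin s → Fin d) (Fin s → Fin d) F) * pure' (fun _ : Fin s => a) := by
  have h1 := perm_sim_pure π (fun _ : Fin s => a)
  have h2 := perm_sim_pure π (fun _ : Fin s => (1 : Matrix (Fin d) (Fin d) F))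
  rw [pure'_one, mul_one] at h2
  have h3 := congrArg (((permGL π : GL (Fin s → Fin d) F) : Matrix (Fin s → Fin d) (Fin s → Fin d) F) * ·) h1
  simp only [← mul_assoc, mul_eq_one_comm.1 h2, one_mul] at h3
  exact h3

variable [Fintype F] {n q : ℕ} {τ : F ≃+* F}

theorem isSolvable_GU_three (hU : UForm 3 2 τ) : Group.IsSolvable (GU 3 F 2) := by
  refine CfsgLib.Chars.isSolvable_of_card_eq_pow_mul_pow (p := 2) (q := 3) (a := 3) (b := 4) Nat.prime_two Nat.prime_three ?_
  rw [CfsgLib.Classical.card_GU (by rw [Nat.card_eq_fintype_card, hU.card]) 3]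
  simp [Finset.prod_range_succ]

/-- A transitive system of commuting factors leads to a member. -/
theorem unit_wreath (hU : UForm n q τ) (hn : 2 ≤ n) {H : Subgroup (GL (Fin n) F)} (hH : H ≤ GU n F q) {d s : ℕ}
    {φ : Fin s → (Matrix (Fin d) (Fin d) F →ₐ[F] Matrix (Fin n) (Fin n) F)}
    (h : Factors (H ⊔ scalars (Fin n) F) φ) : UnitOver n q H := by
  classical
  have hd := h.two_le_dim
  have hs := h.two_le_num
  haveI : Nonempty (Fin n) := ⟨⟨0, by omega⟩⟩
  haveI : Nonempty (Fin d) := ⟨⟨0, by omega⟩⟩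
  have hGs := hU.le_similarity hH
  obtain ⟨e, P₀, S, c₀, l, hc₀, hJ₀, hS, -, hdec₀, hK⟩ := wreath_data hU.geom (by simpa using hn) hGs h
  obtain ⟨a₀, ha₀⟩ := hU.scale_herm hS
  obtain ⟨X, hX⟩ := herm_equiv hU.ne hU.invol _ ha₀
  rw [sc_mul_val, Matrix.mul_smul, Matrix.smul_mul] at hX
  have hXS : (X : Matrix (Fin d) (Fin d) F)ᵀ * (S : Matrix (Fin d) (Fin d) F) * (X : Matrix (Fin d) (Fin d) F).map τ =
      ((a₀⁻¹ : Fˣ) : F) • 1 := by rw [← hX, smul_smul, Units.inv_mul, one_smul]
  set U : GL (Fin s → Fin d) F := pureGL fun _ => X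
  set P := P₀ * glReindex e.symm U with hP
  set c : F := c₀ * ((a₀⁻¹ : Fˣ) : F) ^ s with hcdef
  have hc : c ≠ 0 := mul_ne_zero hc₀ (pow_ne_zero _ (Units.ne_zero _))
  have hJ : (coordJ τ e P 1 : Matrix _ _ F) = c • (1 : Matrix (Fin s → Fin d) (Fin s → Fin d) F) := by
    rw [hP, coordJ_change, hJ₀]
    simp only [U, pureGL]
    rw [pure'_transpose, pure'_map, Matrix.mul_smul, Matrix.smul_mul, pure'_mul, pure'_mul]
    simp only [hXS]
    rw [pure'_smul, pure'_one, Finset.prod_const, Finset.card_univ, Fintype.card_fin, smul_smul]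
  have hcτ : τ c = c := by
    have h1 := congrFun (congrFun (coord_symm hU.geom e P) (fun _ => Classical.arbitrary _)) (fun _ => Classical.arbitrary _)
    rw [hJ] at h1
    simpa using h1
  have hdec : ∀ g ∈ H, ∃ (π : Equiv.Perm (Fin s)) (A : Fin s → GL (Fin d) F),
      coordR e P (g : Matrix (Fin n) (Fin n) F) = ((permGL π * pureGL A : GL (Fin s → Fin d) F) : Matrix _ _ F) ∧
      ∀ i, ∃ a : F, IsSim τ (1 : Matrix (Fin d) (Fin d) F) (A i : Matrix (Fin d) (Fin d) F) a := fun g hg => by
    obtain ⟨π, A, hA, hsim⟩ := hdec₀ g (Subgroup.mem_sup_left hg)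
    refine ⟨π, fun i => X⁻¹ * A i * X, ?_, fun i => ?_⟩
    · rw [hP, coordR_change, coordR_gl, hA, Units.val_mul, Units.val_mul]
      simp only [U, pureGL_inv]
      simp only [pureGL]
      rw [← mul_assoc, pure'_const_perm, mul_assoc, mul_assoc]
      congr 1
      rw [pure'_mul, pure'_mul]
      simp [mul_assoc]
    · obtain ⟨a, ha⟩ := hsim i
      exact ⟨a, unit_tensor_coords.sim_change hXS ha (Units.ne_zero _)⟩
  by_cases hd2 : d = 2
  · subst hd2
    set ε : F := (-1) ^ s with hε
    have hεor : ε = 1 ∨ ε = -1 := neg_one_pow_eq_or F s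
    obtain ⟨t, ht⟩ := exists_norm hU.ne hU.invol (e := ε) (by rw [hε, map_pow, map_neg, map_one])
    have ht0 : t ≠ 0 := fun e0 => by
      rw [e0, zero_mul] at ht
      rcases hεor with e1 | e1 <;> simp [e1] at ht
    let w : GL (Fin 2) F := ⟨omega2 F, -omega2 F, by rw [mul_neg, omega2_sq, neg_neg],
      by rw [neg_mul, omega2_sq, neg_neg]⟩
    let C : GL (Fin s → Fin 2) F := sc (Units.mk0 t ht0) * pureGL fun _ => w
    have hCv : (C : Matrix (Fin s → Fin 2) (Fin s → Fin 2) F) = t • pure' (fun _ : Fin s => omega2 F) := by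
      rw [sc_mul_val]; rfl
    have hneg : ∀ M : Matrix (Fin 2) (Fin 2) F, pure' (fun _ : Fin s => -M) = ε • pure' (fun _ : Fin s => M) := fun M => by
      rw [show (fun _ : Fin s => -M) = fun _ : Fin s => (-1 : F) • M from funext fun _ => (neg_one_smul F M).symm,
        pure'_smul, Finset.prod_const, Finset.card_univ, Fintype.card_fin]
    refine unit_real hU e P C (ε := ε) ?_ hεor ?_ ?_ (fun x => ?_) hc hcτ hJ fun g hg => ?_
    · have := Fintype.card_congr e
      simp at this
      rw [this, Nat.even_pow]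
      exact ⟨even_two, by omega⟩
    · rw [hCv, Matrix.map_smul' (hf := map_mul τ), pure'_map, Matrix.smul_mul, Matrix.mul_smul, pure'_mul, smul_smul]
      simp only [omega2_map, omega2_sq]
      rw [hneg, pure'_one, smul_smul, mul_comm (τ t) t, ht]
      rcases hεor with e1 | e1 <;> simp [e1]
    · rw [hCv, Matrix.transpose_smul, pure'_transpose]
      simp only [omega2_transpose]
      rw [hneg, smul_comm]
    · rw [hCv, Matrix.smul_apply]
      show t • (∏ i, omega2 F (x i) (x i)) = 0
      rw [Finset.prod_eq_zero (Finset.mem_univ (⟨0, by omega⟩ : Fin s))]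
      · simp
      · rcases (by decide : ∀ k : Fin 2, k = 0 ∨ k = 1) (x ⟨0, by omega⟩) with e1 | e1 <;> simp [omega2, e1]
    · obtain ⟨π, A, hA, hsim⟩ := hdec g hg
      choose z hz using fun i => sim_twist (hsim i).choose_spec
      refine ⟨∏ i, z i, ?_⟩
      have hCi : (↑C⁻¹ : Matrix (Fin s → Fin 2) (Fin s → Fin 2) F) = t⁻¹ • pure' (fun _ : Fin s => -omega2 F) := by
        refine Units.inv_eq_of_mul_eq_one_right ?_
        rw [hCv, Matrix.smul_mul, Matrix.mul_smul, smul_smul, mul_inv_cancel₀ ht0, one_smul, pure'_mul]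
        simp [omega2_sq, pure'_one]
      rw [hA, hCv, hCi, Units.val_mul, map_mul_equiv, perm_map]
      simp only [pureGL]
      rw [pure'_map]
      simp only [hz]
      rw [pure'_smul, Matrix.smul_mul, Matrix.smul_mul, Matrix.mul_smul, Matrix.mul_smul, smul_smul t t⁻¹,
        mul_inv_cancel₀ ht0, one_smul, ← mul_assoc, pure'_const_perm, mul_assoc, mul_assoc, pure'_mul, pure'_mul]
      simp [mul_assoc]
  by_cases h23 : q = 2 ∧ d = 3
  · obtain ⟨rfl, rfl⟩ := h23
    exfalso
    obtain ⟨τ', hU'⟩ := exists_uform hU.card 3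
    replace hU' : UForm 3 2 τ := (RingEquiv.ext fun x => by rw [hU'.pow, hU.pow] : τ' = τ) ▸ hU'
    haveI := isSolvable_GU_three hU'
    obtain ⟨K, hKG, hperf, hns, hKs⟩ := hK ⟨0, by omega⟩
    refine hns ?_
    rw [slot_perfect_trivial' (GU 3 F 2) e P ⟨0, by omega⟩ hperf fun x hx => ?_]
    · exact bot_le
    obtain ⟨b, hb⟩ := hKs x hx
    set a := (↑X⁻¹ : Matrix (Fin 3) (Fin 3) F) * b * (X : Matrix (Fin 3) (Fin 3) F) with ha
    have hxa : coordR e P (x : Matrix (Fin n) (Fin n) F) = slot (⟨0, by omega⟩ : Fin s) a := by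
      rw [hP, coordR_change, hb]
      have h1 := pure'_conj_slot (fun _ : Fin s => X⁻¹) (⟨0, by omega⟩ : Fin s) b
      simp only [U, pureGL_inv]
      simpa [pureGL, ha, cj_apply] using h1
    obtain ⟨b', hb'⟩ := hKs x⁻¹ (K.inv_mem hx)
    have hxi : coordR e P ((x⁻¹ : GL (Fin n) F) : Matrix (Fin n) (Fin n) F) = slot (⟨0, by omega⟩ : Fin s)
        ((↑X⁻¹ : Matrix (Fin 3) (Fin 3) F) * b' * (X : Matrix (Fin 3) (Fin 3) F)) := by
      rw [hP, coordR_change, hb']
      have h1 := pure'_conj_slot (fun _ : Fin s => X⁻¹) (⟨0, by omega⟩ : Fin s) b'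
      simp only [U, pureGL_inv]
      simpa [pureGL, cj_apply] using h1
    have hone : slot (⟨0, by omega⟩ : Fin s) a * slot (⟨0, by omega⟩ : Fin s)
        ((↑X⁻¹ : Matrix (Fin 3) (Fin 3) F) * b' * (X : Matrix (Fin 3) (Fin 3) F)) = 1 := by
      rw [← hxa, ← hxi, ← map_mul, Units.mul_inv, map_one]
    rw [← slot_mul, ← slot_one (⟨0, by omega⟩ : Fin s)] at hone
    have hone' := slot_injective _ hone
    let au : GL (Fin 3) F := ⟨a, _, hone', mul_eq_one_comm.1 hone'⟩
    refine ⟨au, hU'.mem_GU ?_, hxa⟩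
    obtain ⟨μ, hμ⟩ := (hU.geom.mem_similarity_iff x).1 (hGs (hKG hx))
    have h1 := coord_sim τ e P 1 x μ hμ
    rw [hxa, hJ] at h1
    have h2 : IsSim τ (1 : Matrix (Fin s → Fin 3) (Fin s → Fin 3) F) (slot (⟨0, by omega⟩ : Fin s) a) μ := by
      unfold IsSim at h1 ⊢
      rw [Matrix.mul_smul, Matrix.smul_mul, smul_comm] at h1
      exact smul_right_injective _ hc h1
    have h3 : IsSim τ (1 : Matrix (Fin 3) (Fin 3) F) a μ := by
      unfold IsSim at h2 ⊢
      rw [mul_one, slot_transpose, slot_map, ← slot_mul, ← slot_one (F := F) (d := 3) (⟨0, by omega⟩ : Fin s),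
        ← slot_smul] at h2
      rw [mul_one]
      exact slot_injective _ h2
    have h4 : μ * μ = μ := by
      rw [← sq, ← hU.pow]
      unfold IsSim at h3
      have h5 := congrFun (congrFun (congrArg (fun M : Matrix (Fin 3) (Fin 3) F => (M.map τ)ᵀ) h3) 0) 0
      have h6 := congrFun (congrFun h3 0) 0
      simp [Matrix.mul_apply, hU.invol, mul_comm] at h5 h6
      rw [← h5, h6]
    have h7 : μ ≠ 0 := isSim_ne_zero (J := (1 : GL (Fin 3) F)) (g := au) h3
    rw [mul_left_cancel₀ h7 (h4.trans (mul_one μ).symm)] at h3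
    exact h3
  refine ⟨_, Or.inr (Or.inr (Or.inr (Or.inr (Or.inr (Or.inr (Or.inr (Or.inr (Or.inr (Or.inr
    ⟨d, s, e, P, _, by omega, hs, h23, hU.one_pow d, ⟨c, hc, fun x y => ?_⟩, rfl⟩))))))))), fun g hg => ?_⟩
  · rw [coord_form hU.geom e P, hJ, formOfGram_smul, unit_tensor.gramMatrix_one τ, (funext hU.pow : (τ : F → F) = _)]
    congr 1
    simp only [formOfGram]
    refine Finset.sum_congr rfl fun a _ => Finset.sum_congr rfl fun b _ => ?_
    simp only [Matrix.one_apply]
    split_ifs with hab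
    · simp [hab]
    · obtain ⟨i, hi⟩ := Function.ne_iff.1 hab
      rw [Finset.prod_eq_zero (Finset.mem_univ i) (if_neg hi)]
  · obtain ⟨π, A, hA, -⟩ := hdec g hg
    exact mem_of_coord e P (tensorWreathStandard d s F) (permGL π * pureGL A)
      (mul_mem (Subgroup.subset_closure (Or.inr ⟨π, fun x y => rfl⟩))
        (Subgroup.subset_closure (Or.inl ⟨A, fun x y => rfl⟩))) hA

end CfsgLib.AschbacherForm
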